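import Cfsg.Agent.EU.A
import Cfsg.Agent.TW.Trf
import Cfsg.Agent.SF.L
import Cfsg.Agent.MT.Gen

/-! General lemmas: additive maps on subgroups, transfer, equivariant extensions. -/

set_option autoImplicit false
set_option linter.unusedSectionVars false
set_option linter.unusedVariables false

namespace EU

open Cfsg Subgroup FT H4 GW
open H5 (IsSylowOf mem_of_eq)

variable {G : Type*} [Group G]

/-- additive on a subgroup -/
def AddOn {A : Type*} [AddCommGroup A] (X : Subgroup G) (f : G → A) : Prop :=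
  ∀ a ∈ X, ∀ b ∈ X, f (a * b) = f a + f b

namespace AddOn

variable {A B C : Type*} [AddCommGroup A] [AddCommGroup B] [AddCommGroup C] {X Y : Subgroup G}
  {f : G → A} {a b : G}

theorem one (h : AddOn X f) : f 1 = 0 := by simpa using h 1 (one_mem _) 1 (one_mem _)
theorem inv (h : AddOn X f) (ha : a ∈ X) : f a⁻¹ = - f a :=
  eq_neg_of_add_eq_zero_left (by rw [← h _ (inv_mem ha) _ ha, inv_mul_cancel, h.one])
theorem mono (h : AddOn X f) (le : Y ≤ X) : AddOn Y f := fun a ha b hb => h a (le ha) b (le hb)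
theorem conj (h : AddOn X f) (ha : a ∈ X) (hb : b ∈ X) : f (a * b * a⁻¹) = f b := by
  rw [h _ (mul_mem ha hb) _ (inv_mem ha), h _ ha _ hb, h.inv ha]; abel
theorem comm (h : AddOn X f) (ha : a ∈ X) (hb : b ∈ X) : f (a * b * a⁻¹ * b⁻¹) = 0 := by
  rw [h _ (mul_mem (mul_mem ha hb) (inv_mem ha)) _ (inv_mem hb), h.conj ha hb, h.inv hb]; abel
theorem pow (h : AddOn X f) (ha : a ∈ X) (n : ℕ) : f (a ^ n) = n • f a := by
  induction n with
  | zero => simp [h.one]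
  | succ n ih => rw [pow_succ, h _ (pow_mem ha n) _ ha, ih, succ_nsmul]

/-- the associated homomorphism -/
def hom (h : AddOn X f) : X →* Multiplicative A :=
  MonoidHom.mk' (fun x => Multiplicative.ofAdd (f x)) fun a b =>
    congrArg Multiplicative.ofAdd (h a a.2 b b.2)

/-- the image -/
def img (h : AddOn X f) : AddSubgroup A where
  carrier := {a | ∃ x ∈ X, f x = a}
  zero_mem' := ⟨1, one_mem _, h.one⟩
  add_mem' := by rintro _ _ ⟨x, hx, rfl⟩ ⟨y, hy, rfl⟩; exact ⟨_, mul_mem hx hy, h x hx y hy⟩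
  neg_mem' := by rintro _ ⟨x, hx, rfl⟩; exact ⟨_, inv_mem hx, h.inv hx⟩

/-- the kernel -/
def ker (h : AddOn X f) : Subgroup G where
  carrier := {x | x ∈ X ∧ f x = 0}
  one_mem' := ⟨one_mem _, h.one⟩
  mul_mem' := fun ha hb => ⟨mul_mem ha.1 hb.1, by rw [h _ ha.1 _ hb.1, ha.2, hb.2, add_zero]⟩
  inv_mem' := fun ha => ⟨inv_mem ha.1, by rw [h.inv ha.1, ha.2, neg_zero]⟩

theorem card (h : AddOn X f) : Nat.card X = Nat.card h.img * Nat.card h.ker := by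
  rw [h.hom.ker.card_eq_card_quotient_mul_card_subgroup,
    Nat.card_congr (QuotientGroup.quotientKerEquivRange h.hom).toEquiv]
  congr 1
  · exact Nat.card_congr (Equiv.subtypeEquiv Multiplicative.toAdd fun a =>
      ⟨fun ⟨x, e⟩ => ⟨x, x.2, congrArg Multiplicative.toAdd e⟩,
        fun ⟨x, hx, e⟩ => ⟨⟨x, hx⟩, congrArg Multiplicative.ofAdd e⟩⟩)
  · exact Nat.card_congr ⟨fun x => ⟨x.1, x.1.2, congrArg Multiplicative.toAdd x.2⟩,
      fun x => ⟨⟨x.1, x.2.1⟩, congrArg Multiplicative.ofAdd x.2.2⟩, fun _ => rfl, fun _ => rfl⟩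

theorem card_le [Finite G] [Finite A] (h : AddOn X f) {I : AddSubgroup A} (hI : ∀ x ∈ X, f x ∈ I)
    (hY : ∀ x ∈ X, f x = 0 → x ∈ Y) : Nat.card X ≤ Nat.card I * Nat.card Y := by
  rw [h.card]
  exact Nat.mul_le_mul (AddSubgroup.card_le_of_le (by rintro _ ⟨x, hx, rfl⟩; exact hI x hx))
    (card_le_of_le fun x hx => hY x hx.1 hx.2)

theorem card_le' [Finite G] [Finite A] (h : AddOn X f) (hY : ∀ x ∈ X, f x = 0 → x ∈ Y) :
    Nat.card X ≤ Nat.card A * Nat.card Y := by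
  simpa using h.card_le (I := ⊤) (fun _ _ => trivial) hY

theorem card_eq (h : AddOn X f) (hs : ∀ a, ∃ x ∈ X, f x = a) (hY : ∀ x, x ∈ Y ↔ x ∈ X ∧ f x = 0) :
    Nat.card X = Nat.card A * Nat.card Y := by
  rw [h.card, show h.img = ⊤ from eq_top_iff.2 fun a _ => hs a, show h.ker = Y from
    ext fun x => (hY x).symm, AddSubgroup.card_top]

theorem eq_of (h : AddOn X f) {φ : G → B} (hφ : AddOn X φ) (h0 : ∀ x ∈ X, f x = 0 → φ x = 0)
    (ha : a ∈ X) (hb : b ∈ X) (e : f a = f b) : φ a = φ b := by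
  have := h0 _ (mul_mem ha (inv_mem hb)) (by rw [h _ ha _ (inv_mem hb), h.inv hb, e]; abel)
  rwa [hφ _ ha _ (inv_mem hb), hφ.inv hb, ← sub_eq_add_neg, sub_eq_zero] at this

theorem fac (h : AddOn X f) (hs : ∀ a, ∃ x ∈ X, f x = a) {φ : G → B} (hφ : AddOn X φ)
    (h0 : ∀ x ∈ X, f x = 0 → φ x = 0) : ∃ g : A →+ B, ∀ x ∈ X, φ x = g (f x) := by
  choose s s1 s2 using hs
  refine ⟨AddMonoidHom.mk' (fun a => φ (s a)) fun a b => ?_, fun x hx =>
    h.eq_of hφ h0 hx (s1 _) (s2 _).symm⟩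
  rw [← hφ _ (s1 a) _ (s1 b)]
  exact h.eq_of hφ h0 (s1 _) (mul_mem (s1 _) (s1 _)) (by rw [h _ (s1 a) _ (s1 b), s2, s2, s2])

theorem fac2 (h : AddOn X f) (hs : ∀ a, ∃ x ∈ X, f x = a) {f' : G → B} (h' : AddOn Y f')
    (hs' : ∀ a, ∃ x ∈ Y, f' x = a) {φ : G → G → C} (h1 : ∀ y ∈ Y, AddOn X (φ · y))
    (h2 : ∀ x ∈ X, AddOn Y (φ x)) (z1 : ∀ y ∈ Y, ∀ x ∈ X, f x = 0 → φ x y = 0)
    (z2 : ∀ x ∈ X, ∀ y ∈ Y, f' y = 0 → φ x y = 0) : ∃ g : A → B → C,
      (∀ a b c, g (a + b) c = g a c + g b c) ∧ (∀ a b c, g a (b + c) = g a b + g a c) ∧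
      ∀ x ∈ X, ∀ y ∈ Y, φ x y = g (f x) (f' y) := by
  choose s s1 s2 using hs
  choose t t1 t2 using hs'
  have k : ∀ x ∈ X, ∀ y ∈ Y, φ x y = φ (s (f x)) (t (f' y)) := fun x hx y hy =>
    (h.eq_of (h1 y hy) (z1 y hy) hx (s1 _) (s2 _).symm).trans
      (h'.eq_of (h2 _ (s1 _)) (z2 _ (s1 _)) hy (t1 _) (t2 _).symm)
  refine ⟨fun a b => φ (s a) (t b), fun a b c => ?_, fun a b c => ?_, k⟩
  · refine Eq.trans ?_ (h1 _ (t1 c) _ (s1 a) _ (s1 b))
    simp only [k _ (mul_mem (s1 a) (s1 b)) _ (t1 c), h _ (s1 a) _ (s1 b), s2, t2]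
  · rw [← h2 _ (s1 a) _ (t1 b) _ (t1 c), k _ (s1 a) _ (mul_mem (t1 b) (t1 c)), h' _ (t1 b) _ (t1 c)]
    simp only [s2, t2]

end AddOn

theorem cj {g x y : G} : g * x * g⁻¹ = g * y * g⁻¹ ↔ x = y := by simp

theorem comm_of_sq {X M : Subgroup G} (h : ∀ x ∈ X, x * x ∈ M) {a b : G} (ha : a ∈ X) (hb : b ∈ X) :
    a * b * a⁻¹ * b⁻¹ ∈ M :=
  mem_of_eq (mul_mem (mul_mem (h _ (mul_mem ha hb)) (h _ (mul_mem (mul_mem (inv_mem hb)
    (inv_mem ha)) hb))) (h _ (inv_mem hb))) (by group)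

theorem comm_of_ee {X : Subgroup G} (h : ∀ x ∈ X, x * x = 1) {a b : G} (ha : a ∈ X) (hb : b ∈ X) :
    a * b = b * a := by
  have := mem_bot.1 (comm_of_sq (M := ⊥) h ha hb)
  rwa [mul_inv_eq_one, mul_inv_eq_iff_eq_mul] at this

theorem inv2 {a : G} (h : a * a = 1) : a⁻¹ = a := inv_eq_of_mul_eq_one_right h

variable [Finite G] {P M T X : Subgroup G} {t x : G}

theorem gt (hP : IsSylowOf 2 P ⊤) (hM : M ≤ P) (h2 : ∀ x ∈ P, ∀ y ∈ P, x ∉ M → y ∉ M → x * y ∈ M)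
    (tt : t * t = 1) (tT : t ∈ T) (tM : t ∉ M) (hT : IsSylowOf 2 T (Cen1 t)) (TP : T ≤ P)
    (h : (∀ g, (∀ p ∈ T, g * p * g⁻¹ ∈ P) → g * t * g⁻¹ ∉ M) ∨ ∀ g, (∀ p ∈ T, g * p * g⁻¹ ∈ P) →
      g * t * g⁻¹ ∉ M → ∃ p ∈ P, g * t * g⁻¹ = p * t * p⁻¹) :
    ∃ K : Subgroup G, IsComplement' (zpowers t) K := by
  classical
  have := Fintype.ofFinite (G ⧸ P)
  have tP := TP tT
  have hc := fun x hx y hy => TW.cm2 (x := x) (y := y) h2 hx hy
  have nM : P ≤ Nor M := fun x hx => mnor fun y hy =>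
    mem_of_eq (mul_mem (hc x hx y (hM hy)) hy) (by group)
  have : (M.subgroupOf P).Normal := normal_subgroupOf_of_le_normalizer nM
  let _ : CommGroup (P ⧸ M.subgroupOf P) :=
    { (inferInstance : Group (P ⧸ M.subgroupOf P)) with
      mul_comm := by
        rintro ⟨x⟩ ⟨y⟩
        exact QuotientGroup.eq.2 (mem_of_eq (H := M) (hc _ (inv_mem y.2) _ (inv_mem x.2))
          (by simp [mul_assoc])) }
  let φ : P →* P ⧸ M.subgroupOf P := QuotientGroup.mk' _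
  have f1 : ∀ {y : P}, φ y = 1 ↔ (y : G) ∈ M := fun {y} => QuotientGroup.eq_one_iff y
  have ww : φ ⟨t, tP⟩ * φ ⟨t, tP⟩ = 1 := by rw [← map_mul]; exact f1.2 (h2 t tP t tP tM tM)
  have f2 : ∀ y : P, (y : G) ∉ M → φ y = φ ⟨t, tP⟩ := fun y hy => by
    have := f1 (y := y * ⟨t, tP⟩).2 (h2 _ y.2 _ tP hy tM)
    rw [map_mul] at this
    exact mul_right_cancel (this.trans ww.symm)
  have h1 := H7.transfer_eq_prod_fixed φ t fun g k hk hg => f1.2 (by
    rcases mem_zp2 tt (npow_mem_zpowers t k) with e | e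
    · simp [e]
    · exact absurd (e ▸ hk) hg)
  have h3 : ∀ c : G ⧸ P, (if hc : c.out⁻¹ * t * c.out ∈ P then φ ⟨_, hc⟩ else 1) =
      if c.out⁻¹ * t * c.out ∈ P ∧ c.out⁻¹ * t * c.out ∉ M then φ ⟨t, tP⟩ else 1 := fun c => by
    by_cases hc : c.out⁻¹ * t * c.out ∈ P
    · rw [dif_pos hc]
      by_cases hc' : c.out⁻¹ * t * c.out ∈ M
      · rw [f1.2 hc', if_neg fun h => h.2 hc']
      · rw [if_pos ⟨hc, hc'⟩, f2 _ hc']
    · rw [dif_neg hc, if_neg fun h => hc h.1]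
  simp_rw [h3] at h1
  rw [Finset.prod_ite, Finset.prod_const_one, mul_one, Finset.prod_const,
    ← Set.ncard_coe_finset, Finset.coe_filter] at h1
  have fx : ∀ (t : G) (c : G ⧸ P), t • c = c ↔ c.out⁻¹ * t * c.out ∈ P := fun t c => by
    conv_lhs => rw [← c.out_eq', eq_comm]
    rw [MulAction.Quotient.smul_coe, QuotientGroup.eq, smul_eq_mul, mul_assoc]
  have cs : ∀ k ∈ Cen1 t, ∀ c : G ⧸ P, ∃ x ∈ P, (k • c).out⁻¹ * t * (k • c).out =
      x⁻¹ * (c.out⁻¹ * t * c.out) * x := fun k hk c => by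
    obtain ⟨x, hx⟩ := QuotientGroup.mk_out_eq_mul P (k * c.out)
    refine ⟨x, x.2, ?_⟩
    conv_lhs => rw [← c.out_eq', MulAction.Quotient.smul_coe, smul_eq_mul, hx]
    nth_rewrite 1 [← c1'.1 hk]
    group
  have iv : ∀ k ∈ Cen1 t, ∀ c ∈ {c : G ⧸ P | c ∈ Finset.univ ∧ c.out⁻¹ * t * c.out ∈ P ∧
      c.out⁻¹ * t * c.out ∉ M}, k • c ∈ {c : G ⧸ P | c ∈ Finset.univ ∧ c.out⁻¹ * t * c.out ∈ P ∧
      c.out⁻¹ * t * c.out ∉ M} := fun k hk c hc => by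
    obtain ⟨x, hx, e⟩ := cs k hk c
    refine ⟨Finset.mem_univ _, e ▸ mul_mem (mul_mem (inv_mem hx) hc.2.1) hx, fun m => hc.2.2 ?_⟩
    exact mem_of_eq (cmem (nM hx) (e ▸ m)) (by group)
  have h4 := SF.modEq_fix_pgroup hT.isPGroup fun p hp => iv p (hT.le hp)
  generalize hS : {c : G ⧸ P | c ∈ Finset.univ ∧ c.out⁻¹ * t * c.out ∈ P ∧
      c.out⁻¹ * t * c.out ∉ M} = S at h1 h4 iv
  have mS : ∀ c, c ∈ S ↔ c.out⁻¹ * t * c.out ∈ P ∧ c.out⁻¹ * t * c.out ∉ M := fun c => by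
    rw [← hS]; simp
  have o : ¬ 2 ∣ S.ncard := by
    rw [h4.dvd_iff dvd_rfl]
    rcases h with h | h
    · have h5 := SF.modEq_fix_pgroup hT.isPGroup (S := (Set.univ : Set (G ⧸ P))) (by simp)
      have h6 := hP.not_dvd
      rw [relIndex_top_right, index, ← Set.ncard_univ, h5.dvd_iff dvd_rfl] at h6
      convert h6 using 3
      refine Set.ext fun c => and_congr_left fun hc => iff_of_true ((mS c).2 ⟨(fx t c).1 (hc t tT),
        ?_⟩) trivial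
      simpa using h c.out⁻¹ fun p hp => by simpa using (fx p c).1 (hc p hp)
    have h6 := (hT.of_le (le_inf hT.le le_normalizer) inf_le_left).not_dvd
    have e1 : MulAction.stabilizer ↥(Cen1 t ⊓ Nor T) ((1 : G) : G ⧸ P) = T.subgroupOf _ := by
      ext k
      change (k : G) • ((1 : G) : G ⧸ P) = _ ↔ (k : G) ∈ T
      rw [MulAction.Quotient.smul_coe, QuotientGroup.eq, smul_eq_mul, mul_one, mul_one, inv_mem_iff]
      exact ⟨fun h => (hT.eq_of_le hP.isPGroup.to_inf_left (le_inf TP hT.le) inf_le_right).le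
        ⟨h, k.2.1⟩, (TP ·)⟩
    rw [relIndex, ← e1, MulAction.index_stabilizer] at h6
    convert h6 using 3
    ext c
    constructor
    · rintro ⟨hc, hf⟩
      obtain ⟨p, hp, e⟩ := h c.out⁻¹ (fun p hp => by simpa using (fx p c).1 (hf p hp))
        (by simpa using ((mS c).1 hc).2)
      have k : c.out * p ∈ Cen1 t := c1'.2 (by
        rw [show c.out * p * t * (c.out * p)⁻¹ = c.out * (p * t * p⁻¹) * c.out⁻¹ by group, ← e]; group)
      refine ⟨⟨_, k, (Nor T).inv_mem_iff.1 (mnor fun y hy => ?_)⟩, ?_⟩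
      · rw [← hT.eq_of_le hP.isPGroup.to_inf_left (le_inf TP hT.le) inf_le_right]
        exact ⟨mem_of_eq (mul_mem (mul_mem (inv_mem hp) ((fx y c).1 (hf y hy))) hp) (by group),
          cmem (mc1 (inv_mem k)) (hT.le hy)⟩
      · change (c.out * p) • ((1 : G) : G ⧸ P) = c
        rw [MulAction.Quotient.smul_coe, smul_eq_mul, mul_one, QuotientGroup.mk_mul_of_mem _ hp]
        exact c.out_eq'
    · rintro ⟨k, rfl⟩
      refine ⟨iv k k.2.1 ((1 : G) : G ⧸ P) ((mS _).2 ?_), fun p hp => ?_⟩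
      · obtain ⟨x, hx⟩ := QuotientGroup.mk_out_eq_mul P 1
        rw [hx, one_mul]
        exact ⟨mul_mem (mul_mem (inv_mem x.2) tP) x.2, fun m => tM (mem_of_eq (cmem (nM x.2) m)
          (by group))⟩
      · change p • (k : G) • ((1 : G) : G ⧸ P) = (k : G) • ((1 : G) : G ⧸ P)
        rw [MulAction.Quotient.smul_coe, MulAction.Quotient.smul_coe, QuotientGroup.eq]
        exact TP (mem_of_eq (cmem' k.2.2 (inv_mem hp)) (by simp [mul_assoc]))
  have h7 : φ.transfer t = φ ⟨t, tP⟩ := by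
    obtain ⟨j, hj⟩ := Nat.not_even_iff_odd.1 (mt even_iff_two_dvd.1 o)
    rw [h1, hj, pow_succ, pow_mul, sq, ww, one_pow, one_mul]
  refine ⟨φ.transfer.ker, isComplement'_of_disjoint_and_mul_eq_univ (disjoint_def.2 fun hx h =>
    (mem_zp2 tt hx).resolve_right fun e => tM (f1.1 (h7.symm.trans (e ▸ h))))
    (Set.eq_univ_of_forall fun g => ?_)⟩
  by_cases e : φ.transfer g = 1
  · exact ⟨1, one_mem _, g, e, one_mul g⟩
  obtain ⟨y, hy⟩ := QuotientGroup.mk'_surjective _ (φ.transfer g)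
  refine ⟨t, mem_zpowers t, t * g, ?_, by simp [← mul_assoc, tt]⟩
  change φ.transfer (t * g) = 1
  rw [map_mul, h7, ← hy, show QuotientGroup.mk' _ y = φ ⟨t, tP⟩ from
    f2 y fun m => e (hy.symm.trans (f1.2 m)), ww]

theorem grow (hP : IsPGroup 2 P) (h : ¬ IsSylowOf 2 P ⊤) : ∃ x ∈ Nor P, x ∉ P ∧ x * x ∈ P := by
  obtain ⟨S, hS, le⟩ := H5.exists_isSylowOf_ge hP le_top
  have lt := H5.lt_inf_normalizer_of_isPGroup hS.isPGroup (lt_of_le_of_ne le fun e => h (e ▸ hS))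
  obtain ⟨g, hg, h1⟩ := SF.exists_sq_mem hS.isPGroup.to_inf_left (not_le_of_gt lt)
  exact ⟨g, hg.2, h1⟩

theorem two_zp' (hP : IsPGroup 2 P) (h2 : x * x ∈ P) : IsPGroup 2 (zpowers x) := by
  obtain ⟨k, hk⟩ := exists_pow_pow_of_mem hP h2
  exact H9.isPGroup_zpowers (k := k + 1) (by rw [pow_succ', pow_mul, sq, hk])

theorem two_sup {A B : Subgroup G} (hA : IsPGroup 2 A) (hB : IsPGroup 2 B) (h : B ≤ Nor A) :
    IsPGroup 2 ↥(A ⊔ B) := sup_comm A B ▸ hB.to_sup_of_normal_right' hA h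

theorem two_sup_zp (hP : IsPGroup 2 P) (hx : x ∈ Nor P) (h2 : x * x ∈ P) :
    IsPGroup 2 ↥(P ⊔ zpowers x) := two_sup hP (two_zp' hP h2) (zpowers_le.2 hx)

theorem two_of_pow (h : ∀ x ∈ X, ∃ k, x ^ 2 ^ k = 1) : IsPGroup 2 X := fun x =>
  (h x x.2).imp fun _ e => Subtype.ext e

theorem two_ext (hP : IsPGroup 2 P) (h : ∀ x ∈ X, x * x ∈ P) : IsPGroup 2 X := two_of_pow fun x hx =>
  (exists_pow_pow_of_mem hP (h x hx)).elim fun k hk => ⟨k + 1, by rw [pow_succ', pow_mul, sq, hk]⟩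

/-- extension of an additive map -/
theorem ext1 {A : Type*} [AddCommGroup A] {X₀ : Subgroup G} (le : X₀ ≤ X) {f₀ : G → A}
    (a₀ : AddOn X₀ f₀) (sq : ∀ x ∈ X, x * x ∈ a₀.ker) :
    ∃ f : G → A, AddOn X f ∧ ∀ x ∈ X₀, f x = f₀ x := by
  obtain ⟨M, ⟨m1, m2, m3⟩, -, mx⟩ := H9.exists_maximal_ge (fun M : Subgroup G => a₀.ker ≤ M ∧ M ≤ X ∧
    ∀ x ∈ M, x ∈ X₀ → f₀ x = 0) (H := a₀.ker) ⟨le_rfl, fun x hx => le hx.1, fun x hx _ => hx.2⟩
  have nM : X ≤ Nor M := fun x hx => mnor fun y hy =>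
    mem_of_eq (mul_mem (m1 (comm_of_sq sq hx (m2 hy))) hy) (by group)
  have ex : ∀ x ∈ X, ∃ y ∈ X₀, x * y⁻¹ ∈ M := fun x hx => by
    by_contra! hn
    have := mx (M ⊔ zpowers x) ⟨m1.trans le_sup_left, sup_le m2 (zpowers_le.2 hx), fun y hy y0 =>
      ((TW.mem_sup_zp' (m1 (sq x hx)) (nM hx)).1 hy).elim (m3 y · y0) fun e => absurd
        (mem_of_eq (cmem (nM hx) e) (by group)) (hn y⁻¹ (inv_mem y0))⟩ le_sup_left
    exact hn 1 (one_mem _) (by simpa using this.le (mem_sup_right (mem_zpowers x)))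
  choose! s s1 s2 using ex
  have k : ∀ x ∈ X, ∀ y ∈ X₀, x * y⁻¹ ∈ M → f₀ (s x) = f₀ y := fun x hx y hy e => by
    have := m3 _ (mul_mem (inv_mem (s2 x hx)) e) (mem_of_eq (mul_mem (s1 x hx) (inv_mem hy)) (by group))
    rw [show (x * (s x)⁻¹)⁻¹ * (x * y⁻¹) = s x * y⁻¹ by group, a₀ _ (s1 x hx) _ (inv_mem hy),
      a₀.inv hy] at this
    exact add_neg_eq_zero.1 this
  refine ⟨fun x => f₀ (s x), fun x hx y hy => ?_, fun x hx => k x (le hx) x hx (by simp)⟩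
  rw [← a₀ _ (s1 x hx) _ (s1 y hy)]
  exact k _ (mul_mem hx hy) _ (mul_mem (s1 x hx) (s1 y hy))
    (mem_of_eq (mul_mem (cmem (nM hx) (s2 y hy)) (s2 x hx)) (by group))

/-- equivariant extension of an additive map -/
theorem exth {A Λ : Type*} [Field A] (h2 : (2 : A) = 0) [CommGroup Λ] [Finite Λ]
    (o : Odd (Nat.card Λ)) (h : Λ →* G) (χ : Λ → A) (χ0 : ∀ l, χ l ≠ 0)
    (χm : ∀ l m, χ (l * m) = χ l * χ m) {X₀ : Subgroup G} (le : X₀ ≤ X) {f₀ : G → A}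
    (a₀ : AddOn X₀ f₀) (sq : ∀ x ∈ X, x * x ∈ a₀.ker) (n : ∀ l, h l ∈ Nor X)
    (n₀ : ∀ l, h l ∈ Nor X₀) (e₀ : ∀ l, ∀ x ∈ X₀, f₀ (h l * x * (h l)⁻¹) = χ l * f₀ x) :
    ∃ f : G → A, AddOn X f ∧ (∀ x ∈ X₀, f x = f₀ x) ∧
      ∀ l, ∀ x ∈ X, f (h l * x * (h l)⁻¹) = χ l * f x := by
  obtain ⟨f, af, ef⟩ := ext1 le a₀ sq
  have := Fintype.ofFinite Λ
  refine ⟨fun x => ∑ l, (χ l)⁻¹ * f (h l * x * (h l)⁻¹), fun x hx y hy => ?_, fun x hx => ?_,
    fun m x hx => ?_⟩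
  · rw [← Finset.sum_add_distrib]
    refine Finset.sum_congr rfl fun l _ => ?_
    rw [← mul_add, ← af _ (cmem (n l) hx) _ (cmem (n l) hy), conj_mul]
  · refine (Finset.sum_congr (g := fun _ => f₀ x) rfl fun l _ => by
      rw [ef _ (cmem (n₀ l) hx), e₀ l x hx, inv_mul_cancel_left₀ (χ0 l)]).trans ?_
    rw [Finset.sum_const, Finset.card_univ, ← Nat.card_eq_fintype_card]
    obtain ⟨j, hj⟩ := o
    rw [hj, nsmul_eq_mul]; push_cast; rw [h2]; ring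
  · rw [Finset.mul_sum]
    refine Fintype.sum_equiv (Equiv.mulRight m) _ _ fun l => ?_
    have := χ0 m
    have := χ0 l
    rw [Equiv.coe_mulRight, χm, map_mul, show h l * (h m * x * (h m)⁻¹) * (h l)⁻¹ =
      h l * h m * x * (h l * h m)⁻¹ by group]
    field_simp

/-- totally isotropic pairs -/
theorem iso_bd {A B : Type*} [AddCommGroup A] [Finite A] [AddCommGroup B] [Finite B]
    (a2 : ∀ x : A, x + x = 0) (b2 : ∀ x : B, x + x = 0) (f : A → A → B)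
    (h1 : ∀ a b c, f (a + b) c = f a c + f b c) (h2 : ∀ a b c, f a (b + c) = f a b + f a c)
    (hs : ∀ a ≠ 0, ∀ k, ∃ b, f a b = k) {Z : AddSubgroup B} (hZ : Z ≠ ⊤) (I J : AddSubgroup A)
    (h : ∀ a ∈ I, ∀ b ∈ J, f a b ∈ Z) : Nat.card I * Nat.card J ≤ Nat.card A := by
  let _ : Module (ZMod 2) B := AddCommGroup.zmodModule fun x => by rw [two_nsmul, b2]
  obtain ⟨χ, χ0, hχ⟩ := Submodule.exists_le_ker_of_lt_top (AddSubgroup.toZModSubmodule 2 Z)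
    (lt_top_iff_ne_top.2 fun e => hZ (by
      rw [← (AddSubgroup.toZModSubmodule 2).map_top] at e
      exact (AddSubgroup.toZModSubmodule 2).injective e))
  let Φ : I → (A ⧸ J →+ ZMod 2) := fun a => QuotientAddGroup.lift J
    (AddMonoidHom.mk' (fun v => χ (f a v)) fun v w => by rw [h2, map_add])
    fun v hv => hχ (h a a.2 v hv)
  have hi : Function.Injective Φ := fun a b e => Subtype.ext (by_contra fun h0 =>
    χ0 (LinearMap.ext fun k => by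
      obtain ⟨v, rfl⟩ := hs (a + b) (fun e => h0 (add_right_cancel (e.trans (a2 _).symm))) k
      have : χ (f a v) = χ (f b v) := DFunLike.congr_fun e (v : A ⧸ J)
      rw [h1, map_add, this]
      exact CharTwo.add_self_eq_zero _))
  have q2 : ∀ x : A ⧸ J, 2 • x = 0 := fun x => by
    obtain ⟨x, rfl⟩ := QuotientAddGroup.mk_surjective x
    rw [two_nsmul, ← QuotientAddGroup.mk_add, a2]; rfl
  obtain ⟨j, hj⟩ := IsPGroup.iff_card.1 (show IsPGroup 2 (Multiplicative (A ⧸ J)) from fun x =>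
    ⟨1, congrArg Multiplicative.ofAdd (q2 x.toAdd)⟩)
  have : Finite (A ⧸ J →+ ZMod 2) := DFunLike.finite _
  have c2 := Nat.card_le_card_of_injective _ hi
  rw [H2.card_addMonoidHom (a := j) (b := 1) q2 (by decide) hj (by simp), mul_one, ← hj] at c2
  rw [J.card_eq_card_quotient_mul_card_addSubgroup]
  exact Nat.mul_le_mul_right _ c2

end EU
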