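import Cfsg.Agent.W.M5
import Cfsg.Agent.W.U3
import Cfsg.Agent.H2.Quad
import Cfsg.Agent.H2.U3Aut

/-! Field lemmas for a quadratic extension of finite fields of characteristic two. -/

set_option autoImplicit false
set_option linter.unusedSectionVars false
set_option linter.unusedVariables false

namespace EU

open H2

/-- a field with `4 ^ n` elements, `n ≥ 2`, with its involutory automorphism -/
structure Hq (F : Type*) [Field F] [Fintype F] extends Herm F where
  n : ℕ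
  hn : 2 ≤ n
  hF : Fintype.card F = 4 ^ n
  hq : ∀ x, σ x = x ^ 2 ^ n

namespace Hq

variable {F : Type*} [Field F] [Fintype F] (H : Hq F)

/-- the fixed field -/
abbrev K : Type _ := H.toHerm.Kf

@[simp] theorem sk (k : H.K) : H.σ k = k := k.2
theorem twoK : (2 : H.K) = 0 := H.toHerm.two_Kf
theorem aK (k : H.K) : k + k = 0 := by rw [← two_mul, H.twoK, zero_mul]
include H in
theorem aF (k : F) : k + k = 0 := by rw [← two_mul, H.two, zero_mul]
theorem eqK {a b : H.K} : a + b = 0 ↔ a = b := by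
  have := H.twoK; constructor <;> intro h <;> grind
include H in
theorem eqF {a b : F} : a + b = 0 ↔ a = b := by
  have := H.two; constructor <;> intro h <;> grind

/-- the norm -/
def nm (a : F) : H.K := ⟨a * H.σ a, H.mem_Kf.2 (by rw [map_mul, H.invol, mul_comm])⟩
/-- the polar form of the norm -/
def bf (a b : F) : H.K := ⟨H.σ a * b + a * H.σ b, H.mem_Kf.2 (by
  simp only [map_add, map_mul, H.invol, add_comm])⟩

@[simp] theorem nm_coe (a : F) : (H.nm a : F) = a * H.σ a := rfl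
@[simp] theorem bf_coe (a b : F) : (H.bf a b : F) = H.σ a * b + a * H.σ b := rfl

theorem cardK : Nat.card H.K = 2 ^ H.n := H.toHerm.card_Kf.trans (card_K_eq H.toHerm H.hF)
theorem cardF : Nat.card F = (2 ^ H.n) ^ 2 := by
  rw [Nat.card_eq_fintype_card, H.hF, ← pow_mul, mul_comm, pow_mul]; rfl
theorem four_le : 4 ≤ 2 ^ H.n := Nat.pow_le_pow_right two_pos H.hn

theorem ex2 : ∃ κ : H.K, κ ≠ 0 ∧ κ ≠ 1 := by
  obtain ⟨a, h1, h2⟩ := (Finite.one_lt_card_iff_nontrivial (α := H.Kˣ)).1 (by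
    rw [Nat.card_units, H.cardK]; have := H.four_le; omega) |>.1.elim fun a h => h.elim fun b e =>
      (⟨a * b⁻¹, trivial, fun f => e (mul_inv_eq_one.1 f)⟩ : ∃ c : H.Kˣ, True ∧ c ≠ 1)
  exact ⟨a, a.ne_zero, fun e => h2 (Units.ext e)⟩

theorem nm_add (a b : F) : H.nm (a + b) = H.nm a + H.nm b + H.bf a b := by
  ext; simp; ring
theorem nm_mul (a b : F) : H.nm (a * b) = H.nm a * H.nm b := by ext; simp; ring
theorem nm_k (k : H.K) : H.nm k = k * k := by ext; simp
@[simp] theorem nm_zero : H.nm 0 = 0 := by ext; simp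
@[simp] theorem nm_one : H.nm 1 = 1 := by ext; simp
theorem nm_inv (a : F) : H.nm a⁻¹ = (H.nm a)⁻¹ := by ext; simp; ring
theorem nm_sig (a : F) : H.nm (H.σ a) = H.nm a := by ext; simp [H.invol, mul_comm]
theorem nm_eq_zero {a : F} : H.nm a = 0 ↔ a = 0 := by rw [Subtype.ext_iff]; simp
theorem nm_ne {a : F} (h : a ≠ 0) : H.nm a ≠ 0 := mt H.nm_eq_zero.1 h
theorem bf_comm (a b : F) : H.bf a b = H.bf b a := by ext; simp; ring
theorem bf_add (a b c : F) : H.bf a (b + c) = H.bf a b + H.bf a c := by ext; simp; ring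
theorem add_bf (a b c : F) : H.bf (a + b) c = H.bf a c + H.bf b c := by ext; simp; ring
theorem bf_k (k : H.K) (a b : F) : H.bf a (k * b) = k * H.bf a b := by ext; simp; ring
theorem k_bf (k : H.K) (a b : F) : H.bf (k * a) b = k * H.bf a b := by ext; simp; ring
theorem bf_mul (m a b : F) : H.bf (m * a) (m * b) = H.nm m * H.bf a b := by ext; simp; ring
theorem bf_mul' (m a b : F) : H.bf (m * a) b = H.bf a (H.σ m * b) := by
  ext; simp [H.invol]; ring
@[simp] theorem bf_self (a : F) : H.bf a a = 0 := by have := H.two; ext; simp; grind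
@[simp] theorem bf_zero (a : F) : H.bf a 0 = 0 := by ext; simp
@[simp] theorem zero_bf (a : F) : H.bf 0 a = 0 := by ext; simp
theorem bf_om (a : F) : H.bf a (H.ω * a) = H.nm a := by
  have := H.trω; ext; simp; grind
theorem bf_kk (k k' : H.K) (a : F) : H.bf (k * a) (k' * a) = 0 := by
  rw [k_bf, bf_k, bf_self]; simp

theorem ex_bf {a : F} (h : a ≠ 0) (b : H.K) : ∃ a', H.bf a a' = b :=
  ⟨(b / H.nm a : H.K) * (H.ω * a), by rw [bf_k, bf_om, div_mul_cancel₀ _ (H.nm_ne h)]⟩

theorem of_bf {a b : F} (h : a ≠ 0) (e : H.bf a b = 0) : ∃ k : H.K, b = k * a := by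
  have e' := congrArg Subtype.val e
  have := H.two
  have h' : H.σ a ≠ 0 := by simpa using h
  refine ⟨⟨b / a, H.mem_Kf.2 ?_⟩, by simp [h]⟩
  simp at e'
  rw [map_div₀]; field_simp; grind

theorem eq_zero_bf {a : F} (e : ∀ b, H.bf a b = 0) : a = 0 := by
  by_contra h
  obtain ⟨b, hb⟩ := H.ex_bf h 1
  exact one_ne_zero (hb.symm.trans (e b))

theorem eq_of_bf {a a' : F} (e : ∀ b, H.bf a b = H.bf a' b) : a = a' :=
  H.eqF.1 (H.eq_zero_bf fun b => by rw [add_bf, e, aK])

theorem ex_sq (k : H.K) : ∃ s : H.K, s * s = k :=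
  Finite.surjective_of_injective (f := fun y : H.K => y * y) (fun a b h => Subtype.ext
    (H.sq_inj (congrArg Subtype.val h))) k

theorem sqK {a b : H.K} (h : a * a = b * b) : a = b :=
  Subtype.ext (H.sq_inj (congrArg Subtype.val h))

theorem ex_nm (k : H.K) : ∃ a, H.nm a = k := (H.ex_sq k).elim fun s e => ⟨s, (H.nm_k s).trans e⟩

theorem ex_nm' {a : F} (h : a ≠ 0) (k : H.K) : ∃ s : H.K, H.nm (s * a) = k :=
  (H.ex_sq (k / H.nm a)).elim fun s e =>
    ⟨s, by rw [nm_mul, nm_k, e, div_mul_cancel₀ _ (H.nm_ne h)]⟩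

theorem dec2 {m : F} (h : H.σ m ≠ m) (v : F) : ∃ a b : H.K, v = a + b * m := by
  have h2 := H.two
  have h3 : m + H.σ m ≠ 0 := fun e => h (H.eqF.1 e).symm
  have h4 : H.σ m + m ≠ 0 := by rwa [add_comm]
  refine ⟨⟨v + (v + H.σ v) / (m + H.σ m) * m, H.mem_Kf.2 ?_⟩,
    ⟨(v + H.σ v) / (m + H.σ m), H.mem_Kf.2 ?_⟩, by simp; grind⟩
  · simp only [map_add, map_mul, map_div₀, H.invol]; field_simp; grind
  · simp only [map_add, map_div₀, H.invol, add_comm]

theorem om_ne : H.σ H.ω ≠ H.ω := fun e => by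
  have h1 := H.trω; have h2 := H.two; rw [e] at h1; grind

/-- commutators of a subgroup of index at most two -/
theorem k2 (V : AddSubgroup F) (h : ∀ v w, v ∉ V → w ∉ V → v + w ∈ V) (b : H.K) :
    ∃ a ∈ V, ∃ a' ∈ V, H.bf a a' = b := by
  obtain ⟨κ, k0, k1⟩ := H.ex2
  by_cases hV : ∃ a ∈ V, a ≠ 0 ∧ ∃ k : H.K, (k : F) * a ∉ V
  · obtain ⟨a, ha, a0, k, hk⟩ := hV
    obtain ⟨a', e⟩ := H.ex_bf a0 b
    by_cases h' : a' ∈ V
    · exact ⟨a, ha, a', h', e⟩
    · exact ⟨a, ha, _, h _ _ h' hk, by rw [bf_add, e, bf_k, bf_self]; simp⟩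
  push Not at hV
  have hV' : ∀ a ∈ V, ∀ k : H.K, (k : F) * a ∈ V := fun a ha k =>
    (em (a = 0)).elim (fun e => by rw [e, mul_zero]; exact zero_mem _) fun e => hV a ha e k
  have : ∀ v, v ∈ V := fun v => by
    by_contra hv
    have f : ∀ k : H.K, k ≠ 0 → (k : F) * v ∉ V := fun k k0 e => hv (by
      have := hV' _ e k⁻¹
      rwa [← mul_assoc, ← Subfield.coe_mul, inv_mul_cancel₀ k0, Subfield.coe_one, one_mul] at this)
    exact f (1 + κ) (fun e => k1 (H.eqK.1 e).symm) (by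
      simpa [add_mul] using h _ _ hv (f κ k0))
  obtain ⟨a', e⟩ := H.ex_bf one_ne_zero b
  exact ⟨1, this _, a', this _, e⟩

/-- norms of a subgroup of index at most four -/
theorem k4 (V : AddSubgroup F) (hc : Nat.card F ≤ 4 * Nat.card V) (Z : AddSubgroup H.K)
    (h : ∀ a ∈ V, H.nm a ∈ Z) : Z = ⊤ := by
  classical
  by_contra hZ
  let _ : Module (ZMod 2) H.K := AddCommGroup.zmodModule fun x => by rw [two_nsmul, H.aK]
  obtain ⟨χ, χ0, hχ⟩ := Submodule.exists_le_ker_of_lt_top (AddSubgroup.toZModSubmodule 2 Z)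
    (lt_top_iff_ne_top.2 fun e => hZ (by
      rw [← (AddSubgroup.toZModSubmodule 2).map_top] at e
      exact (AddSubgroup.toZModSubmodule 2).injective e))
  have hχ' : ∀ a ∈ V, χ (H.nm a) = 0 := fun a ha => hχ (h a ha)
  have hb : ∀ a ∈ V, ∀ b ∈ V, χ (H.bf a b) = 0 := fun a ha b hb => by
    have := hχ' _ (add_mem ha hb)
    rwa [nm_add, map_add, map_add, hχ' a ha, hχ' b hb, zero_add, zero_add] at this
  let Φ : V → (F ⧸ V →+ ZMod 2) := fun a => QuotientAddGroup.lift V
    (AddMonoidHom.mk' (fun v => χ (H.bf a v)) fun v w => by rw [bf_add, map_add])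
    fun v hv => hb a a.2 v hv
  have hi : Function.Injective Φ := fun a b e => Subtype.ext (H.eqF.1 (by_contra fun h0 =>
    χ0 (LinearMap.ext fun k => by
      obtain ⟨v, rfl⟩ := H.ex_bf h0 k
      have : χ (H.bf a v) = χ (H.bf b v) := DFunLike.congr_fun e (v : F ⧸ V)
      rw [add_bf, map_add, this]
      exact CharTwo.add_self_eq_zero _)))
  have c1 := V.card_eq_card_quotient_mul_card_addSubgroup
  have p : 0 < Nat.card V := Nat.card_pos
  obtain ⟨j, -, hj⟩ := (Nat.dvd_prime_pow Nat.prime_two).1 (show Nat.card (F ⧸ V) ∣ 2 ^ (H.n * 2)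
    from by rw [pow_mul, ← H.cardF, c1]; exact dvd_mul_right _ _)
  have : Finite (F ⧸ V →+ ZMod 2) := DFunLike.finite _
  have c2 := Nat.card_le_card_of_injective _ hi
  rw [card_addMonoidHom (a := j) (b := 1) (fun x => by
    obtain ⟨x, rfl⟩ := QuotientAddGroup.mk_surjective x
    rw [two_nsmul, ← QuotientAddGroup.mk_add, H.aF]; rfl) (by decide) hj (by simp), mul_one,
    ← hj] at c2
  have c3 : Nat.card (F ⧸ V) ≤ 4 := Nat.le_of_mul_le_mul_right (c1 ▸ hc) p
  have c4 := H.four_le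
  have c5 := H.cardF
  have n2 : 2 ^ H.n = 4 := by nlinarith
  have c6 : 4 ≤ Nat.card V := by nlinarith
  obtain ⟨a, ha, a0, -⟩ := W.exists_ne_two (G := Multiplicative F) (H := V.toSubgroup)
    (show 2 < Nat.card V by omega) 1
  obtain ⟨b, hb', b0, ba⟩ := W.exists_ne_two (G := Multiplicative F) (H := V.toSubgroup)
    (show 2 < Nat.card V by omega) a
  change F at a b
  change a ∈ V at ha; change b ∈ V at hb'; change a ≠ 0 at a0; change b ≠ 0 at b0
  have u : ∀ x y : H.K, x ≠ 0 → y ≠ 0 → χ x = 0 → χ y = 0 → x = y := fun x y x0 y0 hx hy => by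
    by_contra e
    refine χ0 (LinearMap.ext fun k => ?_)
    have : Finset.univ = ({0, x, y, x + y} : Finset H.K) := by
      refine (Finset.eq_univ_of_card _ ?_).symm
      have := H.twoK
      rw [← Nat.card_eq_fintype_card, H.cardK, n2, Finset.card_eq_four]
      exact ⟨0, x, y, x + y, x0.symm, y0.symm, by grind, e, by grind, by grind, rfl⟩
    have hk := this ▸ Finset.mem_univ k
    simp only [Finset.mem_insert, Finset.mem_singleton] at hk
    rcases hk with rfl | rfl | rfl | rfl <;> simp [hx, hy]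
  have ab : a + b ≠ 0 := fun e => ba (H.eqF.1 e).symm
  have e1 := congrArg Subtype.val (u _ _ (H.nm_ne a0) (H.nm_ne b0) (hχ' a ha) (hχ' b hb'))
  have e2 := congrArg Subtype.val (u _ _ (H.nm_ne a0) (H.nm_ne ab) (hχ' a ha)
    (hχ' _ (add_mem ha hb')))
  simp only [nm_coe, H.hq, n2] at e1 e2
  have := H.two
  have e3 : a ^ 4 * (a * a + a * b + b * b) = 0 := by grind
  have e4 : a * a + a * b + b * b = 0 := by simpa [a0] using e3
  have e5 : a ^ 5 = 0 := by grind
  exact a0 (by simpa using e5)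

/-- automorphisms commute with `σ` -/
theorem th_sig (θ : F ≃+* F) (a : F) : θ (H.σ a) = H.σ (θ a) := by rw [H.hq, H.hq, map_pow]

/-- restriction of an automorphism to the fixed field -/
def rs (θ : F ≃+* F) (k : H.K) : H.K := ⟨θ k, H.mem_Kf.2 (by rw [← th_sig, sk])⟩
@[simp] theorem rs_coe (θ : F ≃+* F) (k : H.K) : (H.rs θ k : F) = θ k := rfl
theorem nm_th (θ : F ≃+* F) (a : F) : H.nm (θ a) = H.rs θ (H.nm a) := by
  ext; simp [th_sig]
theorem bf_th (θ : F ≃+* F) (a b : F) : H.bf (θ a) (θ b) = H.rs θ (H.bf a b) := by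
  ext; simp [th_sig]

theorem semil (ψ : F →+ F) (hψ : Function.Injective ψ) (χ : H.K → H.K)
    (hχ : ∀ x y, χ (x + y) = χ x + χ y) (h : ∀ a, H.nm (ψ a) = χ (H.nm a)) :
    ∃ κ : F, κ ≠ 0 ∧ ∃ θ : F ≃+* F, ∀ a, ψ a = κ * θ a := by
  classical
  have hl : ψ 1 ≠ 0 := fun h => one_ne_zero (hψ (h.trans (map_zero ψ).symm))
  have hl' : H.σ (ψ 1) ≠ 0 := by simpa using hl
  let g : F →+ F := (AddMonoidHom.mulLeft (ψ 1)⁻¹).comp ψ
  have hg : ∀ a, g a = (ψ 1)⁻¹ * ψ a := fun _ => rfl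
  have hinj : Function.Injective g := fun a b h =>
    hψ (mul_left_cancel₀ (inv_ne_zero hl) (by rwa [hg, hg] at h))
  have hsurj := Finite.surjective_of_injective hinj
  have h1 : g 1 = 1 := by rw [hg, inv_mul_cancel₀ hl]
  have hmul := H.map_mul_of_norm g hsurj h1
    (fun y => if hy : H.σ y = y then (ψ 1 * H.σ (ψ 1))⁻¹ * χ ⟨y, hy⟩ else 0)
    (fun x y hx hy => by
      have hxy : H.σ (x + y) = x + y := by rw [map_add, hx, hy]
      have := congrArg Subtype.val (hχ ⟨x, hx⟩ ⟨y, hy⟩)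
      simp only [dif_pos hx, dif_pos hy, dif_pos hxy]
      rw [← mul_add]
      exact congrArg _ this)
    (fun a => by
      rw [dif_pos (by rw [map_mul, H.invol, mul_comm]), hg, map_mul, map_inv₀]
      have := congrArg Subtype.val (h a)
      change _ = _ * (χ (H.nm a) : F)
      rw [← this, nm_coe]
      field_simp)
  exact ⟨ψ 1, hl, RingEquiv.ofBijective ({ g with map_one' := h1, map_mul' := hmul } : F →+* F)
    ⟨hinj, hsurj⟩, fun a => by
      change ψ a = ψ 1 * g a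
      rw [hg, mul_inv_cancel_left₀ hl]⟩

theorem hF2 : Fintype.card F = 2 ^ (2 * H.n) := by rw [H.hF, pow_mul]; rfl

theorem card_aut : Nat.card (F ≃+* F) ≤ 2 ^ H.n := by
  rw [(ringAut_facts H.hF2).1]
  obtain ⟨m, hm⟩ : ∃ m, H.n = m + 1 := ⟨H.n - 1, by have := H.hn; omega⟩
  have := Nat.lt_two_pow_self (n := m)
  rw [hm, pow_succ]; omega

theorem aut_two {θ : F ≃+* F} (h : ∀ a, θ (θ a) = a) : (∀ a, θ a = a) ∨ ∀ a, θ a = H.σ a := by
  obtain ⟨-, h1, h2⟩ := ringAut_facts H.hF2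
  obtain ⟨i, hi, e⟩ := h1 θ
  obtain ⟨c, hc⟩ := h2 (2 * i) fun x => by
    rw [two_mul, pow_add, pow_mul, ← e, ← e, h]
  have : c < 2 := by
    by_contra! h'
    have := Nat.mul_le_mul_left (2 * H.n) h'
    omega
  rcases show c = 0 ∨ c = 1 by omega with rfl | rfl
  · exact .inl fun a => by rw [e, show i = 0 by omega]; simp
  · exact .inr fun a => by rw [e, H.hq, show i = H.n by omega]

include H in
theorem aut_cyc : IsCyclic (F ≃+* F) := by
  have := charP_two_of H.two
  refine ⟨frobeniusEquiv F 2, fun θ => ?_⟩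
  obtain ⟨i, -, e⟩ := (ringAut_facts H.hF2).2.1 θ
  refine ⟨i, RingEquiv.ext fun x => ?_⟩
  simp only [zpow_natCast]
  rw [e]
  clear e
  induction i with
  | zero => simp
  | succ i ih => rw [pow_succ', RingAut.mul_apply, ih, pow_succ, pow_mul]; rfl

theorem semi_two {κ : F} {θ : F ≃+* F} (h : ∀ a, κ * θ (κ * θ a) = a) :
    ((∀ a, θ a = a) ∧ κ = 1) ∨ ((∀ a, θ a = H.σ a) ∧ H.nm κ = 1) := by
  have h1 : κ * θ κ = 1 := by simpa using h 1
  refine (H.aut_two fun a => ?_).imp (fun e => ⟨e, H.sq_inj (by rwa [e, ← mul_one 1] at h1)⟩)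
    fun e => ⟨e, Subtype.ext (by rwa [e] at h1)⟩
  have := h a
  rwa [map_mul, ← mul_assoc, h1, one_mul] at this

/-- the fixed line of `a ↦ κ σ a` -/
theorem line {κ : F} (h : H.nm κ = 1) : ∃ a₀ : F, a₀ ≠ 0 ∧ κ * H.σ a₀ = a₀ ∧
    ∀ a, κ * H.σ a = a → ∃ k : H.K, a = k * a₀ := by
  have h1 : κ * H.σ κ = 1 := congrArg Subtype.val h
  have h2 := H.two
  have h3 := H.trω
  obtain ⟨v, hv⟩ : ∃ v, v + κ * H.σ v ≠ 0 := by
    by_contra! e
    have e1 := e 1
    have e2 := e H.ω
    rw [map_one] at e1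
    grind
  have f : κ * H.σ (v + κ * H.σ v) = v + κ * H.σ v := by
    simp only [map_add, map_mul, H.invol]; grind
  refine ⟨_, hv, f, fun a e => H.of_bf hv (Subtype.ext ?_)⟩
  generalize v + κ * H.σ v = w at f
  have k0 : κ ≠ 0 := left_ne_zero_of_mul_eq_one h1
  refine mul_left_cancel₀ k0 ?_
  simp only [bf_coe, ZeroMemClass.coe_zero]; grind

/-- a biadditive map that is homogeneous of degree two is bilinear -/
theorem hua (g : H.K → H.K → H.K) (h1 : ∀ a b c, g (a + b) c = g a c + g b c)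
    (h2 : ∀ a b c, g a (b + c) = g a b + g a c)
    (h : ∀ m a b, m ≠ 0 → g (m * a) (m * b) = m * m * g a b) (a b : H.K) :
    g a b = a * b * g 1 1 := by
  have t := H.twoK
  have z1 : ∀ c, g 0 c = 0 := fun c => by have := h1 0 0 c; rw [add_zero] at this; grind
  have z2 : ∀ c, g c 0 = 0 := fun c => by have := h2 c 0 0; rw [add_zero] at this; grind
  have k : ∀ c, c ≠ 0 → g c 1 = c * c * g 1 c⁻¹ := fun c c0 => by
    rw [← h c 1 _ c0, mul_one, mul_inv_cancel₀ c0]
  have k2 : ∀ c, g (c * c) 1 = c * c * g 1 1 := fun c => by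
    by_cases c0 : c = 0
    · simp [c0, z1]
    by_cases c1 : 1 + c = 0
    · rw [show c = 1 by grind]; simp
    have e1 := k _ (mul_ne_zero c0 c1)
    have e2 := k _ c0
    have e3 := k _ c1
    rw [show (c * (1 + c))⁻¹ = c⁻¹ + (1 + c)⁻¹ by field_simp; grind, h2, mul_add c, mul_one,
      h1] at e1
    rw [h1] at e3
    grind
  have k3 : ∀ c, g c 1 = c * g 1 1 := fun c => (H.ex_sq c).elim fun s e => e ▸ k2 s
  by_cases b0 : b = 0
  · simp [b0, z2]
  have := h b (a / b) 1 b0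
  rw [mul_div_cancel₀ _ b0, mul_one, k3] at this
  rw [this]; field_simp

theorem hua' (g : H.K → H.K → H.K) (h1 : ∀ a b c, g (a + b) c = g a c + g b c)
    (h2 : ∀ a b c, g a (b + c) = g a b + g a c)
    (h : ∀ m a b, m ≠ 0 → g (m * a) (m * b) = m * g a b) (a b : H.K) :
    g (a * a) (b * b) = a * b * g 1 1 := by
  have t := H.twoK
  simpa using H.hua (fun a b => g (a * a) (b * b))
    (fun a b c => by rw [← h1]; congr 1; grind) (fun a b c => by rw [← h2]; congr 1; grind)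
    (fun m a b m0 => by rw [← h _ _ _ (mul_ne_zero m0 m0)]; congr 1 <;> ring) a b

/-- an isotopy of the fixed field -/
theorem iso (χ α β : H.K → H.K) (ha : ∀ x y, χ (x + y) = χ x + χ y) (hi : Function.Injective χ)
    (h : ∀ x y, χ (x * y) = α x * β y) : ∃ c : H.K, ∃ i : ℕ, ∀ x, χ x = c * x ^ 2 ^ i := by
  classical
  have t := H.twoK
  have z : χ 0 = 0 := by have := ha 0 0; rw [add_zero] at this; grind
  have c0 : χ 1 ≠ 0 := fun e => one_ne_zero (hi (e.trans z.symm))
  let f : H.K →+* H.K :=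
    { toFun := fun x => χ x / χ 1
      map_one' := div_self c0
      map_zero' := by rw [z, zero_div]
      map_add' := fun x y => by rw [ha, add_div]
      map_mul' := fun x y => by
        have e1 := h x 1
        have e2 := h 1 y
        have e3 := h 1 1
        rw [mul_one] at e1 e3
        rw [one_mul] at e2
        field_simp
        rw [h, e1, e2, e3]; ring }
  obtain ⟨i, -, e⟩ := (ringAut_facts (F := H.K) (k := H.n) (by
    rw [← Nat.card_eq_fintype_card, H.cardK])).2.1 (RingEquiv.ofBijective f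
      (Finite.injective_iff_bijective.1 f.injective))
  exact ⟨χ 1, i, fun x => by rw [← e]; exact (mul_div_cancel₀ _ c0).symm⟩

theorem ex_root (δ : H.K) : ∃ ε : F, ε * ε + ε = δ := by
  have t := H.twoK
  have t' := H.two
  have hω := H.trω
  let p : H.K →+ H.K := AddMonoidHom.mk' (fun x => x * x + x) fun x y => by grind
  have hk : Nat.card p.ker = 2 := Nat.card_eq_two_iff.2 ⟨⟨0, by simp⟩, ⟨1, show (1 : H.K) * 1 + 1 = 0 by
    grind⟩, fun e => zero_ne_one (congrArg Subtype.val e), Set.eq_univ_of_forall fun ⟨x, hx⟩ => by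
      have : x * x + x = 0 := hx
      have : x = 0 ∨ x = 1 := by grind
      exact this.imp Subtype.ext Subtype.ext⟩
  have hi : p.range.index = 2 := AddSubgroup.index_range.trans hk
  by_cases h : δ ∈ p.range
  · obtain ⟨x, rfl⟩ := h
    exact ⟨x, rfl⟩
  obtain ⟨x, e⟩ := (AddSubgroup.add_mem_iff_of_index_two hi (a := δ) (b := H.nm H.ω)).2
    (iff_of_false h fun ⟨x, e⟩ => H.om_ne (by
      have e' : (x : F) * x + x = H.ω * H.σ H.ω := congrArg Subtype.val e
      have : H.ω = x ∨ H.ω = x + 1 := by grind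
      rcases this with e | e <;> rw [e] <;> simp))
  have e' : (x : F) * x + x = δ + H.ω * H.σ H.ω := congrArg Subtype.val e
  exact ⟨x + H.ω, by grind⟩

/-- the action of the torus on `Q / Z` -/
def mu (l : Fˣ) : F := H.σ l / l ^ 2

theorem mu_ne (l : Fˣ) : H.mu l ≠ 0 := by simp [mu]
theorem nm_mu (l : Fˣ) : H.nm (H.mu l) = (H.nm l)⁻¹ := by
  have : H.σ l ≠ 0 := by simp
  ext; simp [mu, H.invol]; field_simp
theorem mu_th (θ : F ≃+* F) (l : Fˣ) : H.mu (Units.map (θ : F →* F) l) = θ (H.mu l) := by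
  simp [mu, th_sig]

theorem ex_mu {k : H.K} (h : k ≠ 0) : ∃ l, H.mu l = k := by
  have : (k : F) ≠ 0 := by simpa using h
  exact ⟨(Units.mk0 _ this)⁻¹, by simp [mu]; field_simp⟩

theorem ex_nu {k : H.K} (h : k ≠ 0) : ∃ l, H.nm (H.mu l) = k := by
  obtain ⟨s, rfl⟩ := H.ex_sq k
  obtain ⟨l, e⟩ := H.ex_mu (left_ne_zero_of_mul h)
  exact ⟨l, by rw [e, nm_k]⟩

theorem ex_l0 : ∃ l : Fˣ, H.nm (H.mu l) = 1 ∧ H.σ (H.mu l) ≠ H.mu l := by
  obtain ⟨ζ, hζ⟩ := W.U.ex_zeta (F := F) (q := 2 ^ H.n) (by rw [← Nat.card_eq_fintype_card, cardF])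
  have e : (ζ : F) * H.σ ζ = 1 := W.U.zeta H.hq hζ ζ (Subgroup.mem_zpowers ζ)
  refine ⟨ζ, by rw [nm_mu, inv_eq_one]; exact Subtype.ext e, fun f => ?_⟩
  have e' := eq_inv_of_mul_eq_one_right e
  simp only [mu, map_div₀, map_pow, e', map_inv₀, inv_inv] at f
  have z0 := ζ.ne_zero
  field_simp at f
  have := orderOf_dvd_of_pow_eq_one (x := ζ) (n := 6) (Units.ext (by simpa using f))
  rw [hζ] at this
  have h4 := H.four_le
  have h5 := Nat.le_of_dvd (by decide) this
  have h6 : 2 ∣ 2 ^ H.n := dvd_pow_self 2 (by have := H.hn; omega)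
  generalize 2 ^ H.n = q at this h4 h5 h6
  obtain rfl : q = 4 := by omega
  exact absurd this (by decide)

theorem irr (I : AddSubgroup F) (h : ∀ l, ∀ a ∈ I, H.mu l * a ∈ I) {a : F} (ha : a ∈ I)
    (a0 : a ≠ 0) (v : F) : v ∈ I := by
  obtain ⟨l, -, hl⟩ := H.ex_l0
  have hk : ∀ k : H.K, ∀ a ∈ I, (k : F) * a ∈ I := fun k a ha => by
    by_cases k0 : k = 0
    · simp [k0]
    · exact (H.ex_mu k0).elim fun l e => e ▸ h l a ha
  obtain ⟨x, y, e⟩ := H.dec2 hl (v / a)
  rw [← div_mul_cancel₀ v a0, e, add_mul, mul_assoc]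
  exact add_mem (hk _ _ ha) (hk _ _ (h _ _ ha))

/-- the torus action as a homomorphism -/
def muH : Fˣ →* Fˣ := MonoidHom.mk' (fun l => Units.mk0 _ (H.mu_ne l)) fun a b => by
  ext; simp [mu]; ring

theorem card_mu : 2 * H.muH.range.index + 2 < Nat.card H.muH.range := by
  classical
  have c := H.muH.range.card_mul_index
  rw [Nat.card_units, H.cardF] at c
  have k : ∀ l ∈ H.muH.ker, H.σ l = l ^ 2 := fun l hl => by
    have : H.σ l / l ^ 2 = 1 := congrArg Units.val hl
    exact (div_eq_one_iff_eq (by simp)).1 this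
  have k3 : ∀ l ∈ H.muH.ker, l ^ 3 = 1 := fun l hl => Units.ext (by
    have := H.invol l
    rw [k l hl, map_pow, k l hl] at this
    refine mul_left_cancel₀ l.ne_zero ?_
    simp only [Units.val_pow_eq_pow_val, Units.val_one]
    rw [mul_one]; nth_rewrite 3 [← this]; ring)
  have c3 : H.muH.range.index ≤ 3 := by
    rw [Subgroup.index_range]
    exact (Subgroup.card_le_of_le fun l hl => (mem_rootsOfUnity 3 l).2 (k3 l hl)).trans
      (card_rootsOfUnity F 3)
  rcases H.hn.eq_or_lt with e | e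
  · have : H.muH.range.index = 1 := by
      rw [Subgroup.index_range, Subgroup.card_eq_one, eq_bot_iff]
      intro l hl
      have e1 := k l hl
      rw [H.hq, ← e] at e1
      have e2 : (l : F) ^ 3 = 1 := by simpa using congrArg Units.val (k3 l hl)
      exact Units.ext (H.sq_inj (by simp only [Units.val_one]; grind))
    rw [this, ← e] at c
    omega
  have : 8 ≤ 2 ^ H.n := Nat.pow_le_pow_right two_pos e
  have : 64 ≤ (2 ^ H.n) ^ 2 := by nlinarith
  by_contra! h
  have := Nat.mul_le_mul (h.trans (show _ ≤ 8 by omega)) c3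
  omega

theorem mob {a b ρ u : F} (a0 : a ≠ 0) (ab : a ≠ b) (ρ1 : ρ ≠ 1) (u0 : u ≠ 0) (f g : Fˣ → F)
    (hf : ∀ l, u * H.mu l ≠ 1 → u * H.mu l * b ≠ a → f l ≠ 0 ∧
      (1 + u * H.mu l) * f l = a + u * H.mu l * b ∧
      (1 + ρ * (u * H.mu l)) * g l = a + ρ * (u * H.mu l) * b)
    (hc : ∀ l l' l'', f l ≠ 0 → f l = H.mu l'' * f l' → g l = H.mu l'' * g l') : False := by
  classical
  have t := H.two
  let B := H.muH.range
  have : Fintype (Fˣ ⧸ B) := Fintype.ofFinite _
  choose L hL using fun m : B => m.2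
  have hL' : ∀ m : B, H.mu (L m) = m.1 := fun m => congrArg Units.val (hL m)
  let s : Finset B := Finset.univ.filter fun m => u * m.1 ≠ 1 ∧ u * m.1 * b ≠ a
  have cs : Nat.card B ≤ s.card + 2 := by
    have c : ∀ (p : B → Prop) [DecidablePred p], (∀ x y, p x → p y → x = y) →
        (Finset.univ.filter p).card ≤ 1 := fun p _ h => Finset.card_le_one.2 fun x hx y hy =>
      h x y (by simpa using hx) (by simpa using hy)
    have c1 := c (fun m => u * m.1 = 1) fun x y hx hy =>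
      Subtype.ext (Units.ext (mul_left_cancel₀ u0 (hx.trans hy.symm)))
    have c2 := c (fun m => u * m.1 * b = a) fun x y hx hy => Subtype.ext (Units.ext
      (mul_left_cancel₀ u0 (mul_right_cancel₀ (fun e => a0 (by rw [← hx, e, mul_zero]))
        (hx.trans hy.symm))))
    rw [Nat.card_eq_fintype_card, ← Finset.card_univ]
    refine (Finset.card_le_card (t := s ∪ (_ ∪ _)) fun m _ => ?_).trans
      ((Finset.card_union_le _ _).trans (Nat.add_le_add_left ((Finset.card_union_le _ _).trans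
        (Nat.add_le_add c1 c2)) _))
    simp only [s, Finset.mem_union, Finset.mem_filter, Finset.mem_univ, true_and]
    tauto
  have hs : ∀ m ∈ s, u * H.mu (L m) ≠ 1 ∧ u * H.mu (L m) * b ≠ a := fun m hm => by
    rw [hL']; exact (Finset.mem_filter.1 hm).2
  obtain ⟨y, -, hy⟩ := Finset.exists_lt_card_fiber_of_mul_lt_card_of_maps_to (s := s)
    (t := (Finset.univ : Finset (Fˣ ⧸ B))) (n := 2)
    (f := fun m => if h : f (L m) = 0 then 1 else (Units.mk0 _ h : Fˣ)) (fun _ _ => Finset.mem_univ _)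
    (by
      have := H.card_mu
      rw [Finset.card_univ, ← Nat.card_eq_fintype_card, ← Subgroup.index]
      change 2 * B.index + 2 < Nat.card B at this
      change B.index * 2 < _
      omega)
  obtain ⟨m1, h1, m2, h2, m3, h3, n12, n13, n23⟩ := Finset.two_lt_card.1 hy
  simp only [Finset.mem_filter] at h1 h2 h3
  obtain ⟨f1, p1, q1⟩ := hf _ (hs _ h1.1).1 (hs _ h1.1).2
  have key : ∀ m ∈ s, (if h : f (L m) = 0 then 1 else ((Units.mk0 _ h : Fˣ) : Fˣ ⧸ B)) = y →
      (a + ρ * (u * m.1) * b) * (1 + u * m.1) =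
        g (L m1) / f (L m1) * ((1 + ρ * (u * m.1)) * (a + u * m.1 * b)) := fun m hm e => by
    obtain ⟨f2, p2, q2⟩ := hf _ (hs _ hm).1 (hs _ hm).2
    rw [← h1.2, dif_neg f1, dif_neg f2, eq_comm, QuotientGroup.eq] at e
    obtain ⟨l, e⟩ := e
    have e' : H.mu l = (f (L m1))⁻¹ * f (L m) := (congrArg Units.val e).trans (by simp)
    have e1 : f (L m) = H.mu l * f (L m1) := by rw [e']; field_simp
    rw [← hL', ← p2, ← q2, hc _ _ _ f2 e1, e1]
    field_simp
  have k1 := key _ h1.1 h1.2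
  have k2 := key _ h2.1 h2.2
  have k3 := key _ h3.1 h3.2
  have d : ∀ {x y : B}, x ≠ y → u * x.1 ≠ u * y.1 := fun h e =>
    h (Subtype.ext (Units.ext (mul_left_cancel₀ u0 e)))
  have d12 := d n12
  have d13 := d n13
  have d23 := d n23
  have z1 : u * m1.1 ≠ 0 := mul_ne_zero u0 m1.1.ne_zero
  generalize g (L m1) / f (L m1) = κ at k1 k2 k3
  generalize u * m1.1 = x at *
  generalize u * m2.1 = y at *
  generalize u * m3.1 = z at *
  have r1 : (x - y) * (x - z) * (y - z) * (a * (1 + κ)) = 0 := by grind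
  have r2 : κ = 1 := by
    simp only [mul_eq_zero, sub_eq_zero, d12, d13, d23, a0, false_or] at r1
    exact (H.eqF.1 r1).symm
  subst r2
  have r3 : x * (1 + ρ) * (a + b) = 0 := by grind
  simp only [mul_eq_zero, z1, H.eqF, ρ1.symm, ab, false_or] at r3

end Hq

end EU
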