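import Cfsg.Agent.EU.B

/-! Coordinates for an embedded Sylow 2-subgroup of `U₃(q)`. -/

set_option autoImplicit false
set_option linter.unusedSectionVars false
set_option linter.unusedVariables false

namespace EU

open Cfsg Subgroup FT H4 GW H2
open H5 (IsSylowOf mem_of_eq)

namespace Hq

variable {F : Type*} [Field F] [Fintype F] (H : Hq F)

/-- the involutory automorphism -/
def sg : F ≃+* F := RingEquiv.ofRingHom H.σ H.σ (RingHom.ext H.invol) (RingHom.ext H.invol)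

@[simp] theorem sg_apply (a : F) : H.sg a = H.σ a := rfl
theorem sg_ne : H.sg ≠ 1 := fun e => H.om_ne (DFunLike.congr_fun e H.ω)
theorem sg_sq : H.sg * H.sg = 1 := RingEquiv.ext H.invol
theorem aut2 {θ : F ≃+* F} (h : θ * θ = 1) : θ = 1 ∨ θ = H.sg :=
  (H.aut_two fun a => DFunLike.congr_fun h a).imp RingEquiv.ext RingEquiv.ext
include H in
theorem aut_comm (a b : F ≃+* F) : a * b = b * a := by
  have := H.aut_cyc
  exact IsCyclic.commGroup.mul_comm a b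

theorem pow_sg {θ : F ≃+* F} {k : ℕ} (h : θ ^ 2 ^ k = 1) (h1 : θ ≠ 1) : ∃ j, θ ^ 2 ^ j = H.sg := by
  induction k with
  | zero => exact absurd (by simpa using h) h1
  | succ k ih =>
    rw [pow_succ, pow_mul, sq] at h
    exact (H.aut2 h).elim ih fun e => ⟨k, e⟩

@[simp] theorem rs_one (k : H.K) : H.rs 1 k = k := rfl
@[simp] theorem rs_sg (k : H.K) : H.rs H.sg k = k := Subtype.ext k.2
theorem rs_add (θ : F ≃+* F) (a b : H.K) : H.rs θ (a + b) = H.rs θ a + H.rs θ b := by ext; simp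
theorem rs_mul (θ : F ≃+* F) (a b : H.K) : H.rs θ (a * b) = H.rs θ a * H.rs θ b := by ext; simp
theorem rs_eq_zero {θ : F ≃+* F} {a : H.K} : H.rs θ a = 0 ↔ a = 0 := by
  rw [Subtype.ext_iff, Subtype.ext_iff (a1 := a)]; simp

theorem of_rs {θ : F ≃+* F} (h : ∀ k, H.rs θ k = k) : θ = 1 ∨ θ = H.sg := by
  have hk : ∀ k : H.K, θ k = k := fun k => congrArg Subtype.val (h k)
  have t := H.two
  have e1 := congrArg θ H.trω
  have e2 := hk (H.nm H.ω)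
  have e3 := H.trω
  simp only [nm_coe, map_add, map_mul, map_one] at e1 e2
  have : θ H.ω = H.ω ∨ θ H.ω = H.σ H.ω := by grind
  refine this.imp (fun e => RingEquiv.ext fun a => ?_) fun e => RingEquiv.ext fun a => ?_ <;>
    obtain ⟨x, y, rfl⟩ := H.dec2 H.om_ne a <;> simp [hk, e]

theorem fixl (κ : F) : ∃ a₀ : F, a₀ ≠ 0 ∧ ∀ a, κ * H.σ a = a → ∃ k : H.K, a = k * a₀ := by
  by_cases h : ∃ a₀ ≠ 0, κ * H.σ a₀ = a₀
  · obtain ⟨a₀, h0, h⟩ := h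
    refine ⟨a₀, h0, fun a e => H.of_bf h0 (Subtype.ext ?_)⟩
    have k0 : κ ≠ 0 := fun e => h0 (by rw [← h, e, zero_mul])
    have := H.two
    refine mul_left_cancel₀ k0 ?_
    simp only [bf_coe, ZeroMemClass.coe_zero]; grind
  · exact ⟨1, one_ne_zero, fun a e => ⟨0, by_contra fun n => h ⟨a, by simpa using n, e⟩⟩⟩

/-- the line through a vector -/
def ln (a₀ : F) : AddSubgroup F := (AddMonoidHom.mk' (fun k : H.K => (k : F) * a₀) fun a b => by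
  simp [add_mul]).range
theorem mem_ln {a₀ a : F} : a ∈ H.ln a₀ ↔ ∃ k : H.K, a = k * a₀ := exists_congr fun _ => eq_comm
theorem card_ln (a₀ : F) : Nat.card (H.ln a₀) ≤ 2 ^ H.n :=
  H.cardK ▸ Nat.card_le_card_of_surjective _ (AddMonoidHom.rangeRestrict_surjective _)

theorem bf_ln {a₀ a b : F} (ha : a ∈ H.ln a₀) (hb : b ∈ H.ln a₀) : H.bf a b = 0 := by
  obtain ⟨k, rfl⟩ := H.mem_ln.1 ha
  obtain ⟨k', rfl⟩ := H.mem_ln.1 hb
  exact H.bf_kk ..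
theorem ex_ln {a₀ : F} (h : a₀ ≠ 0) (b : H.K) : ∃ a ∈ H.ln a₀, H.nm a = b :=
  (H.ex_nm' h b).elim fun s e => ⟨_, H.mem_ln.2 ⟨s, rfl⟩, e⟩

include H in
theorem odd_units : Odd (Nat.card Fˣ) := by
  rw [Nat.card_units, H.cardF]
  exact Nat.Even.sub_odd (Nat.one_le_pow _ _ (by positivity)) (Nat.even_pow.2 ⟨Nat.even_pow.2
    ⟨even_two, by have := H.hn; omega⟩, two_ne_zero⟩) odd_one

include H in
theorem pow2 {κ : F} {k : ℕ} (h : κ ^ 2 ^ k = 1) : κ = 1 := by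
  induction k with
  | zero => simpa using h
  | succ k ih => exact ih (H.sq_inj (by rw [← sq, ← pow_mul, ← pow_succ, h, mul_one]))

theorem mu_mul (l m : Fˣ) : H.mu (l * m) = H.mu l * H.mu m := congrArg Units.val (H.muH.map_mul l m)

theorem linF (g : F →+ F) (h : ∀ l a, g (H.mu l * a) = H.mu l * g a) (a : F) : g a = a * g 1 := by
  obtain ⟨l, -, hl⟩ := H.ex_l0
  have hk : ∀ (k : H.K) a, g (k * a) = k * g a := fun k a => by
    by_cases k0 : k = 0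
    · simp [k0]
    · exact (H.ex_mu k0).elim fun l e => e ▸ h l a
  obtain ⟨x, y, rfl⟩ := H.dec2 hl a
  have e1 := hk x 1
  have e2 := h l 1
  rw [mul_one] at e1 e2
  rw [map_add, e1, hk, e2]; ring

theorem linK (g : H.K →+ H.K) (h : ∀ l a, g (H.nm (H.mu l) * a) = H.nm (H.mu l) * g a) (a : H.K) :
    g a = a * g 1 := by
  by_cases a0 : a = 0
  · simp [a0]
  · obtain ⟨l, rfl⟩ := H.ex_nu a0
    simpa using h l 1

end Hq

/-- an embedding of the model group -/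
structure Qd (G : Type*) [Group G] {F : Type*} [Field F] [Fintype F] (H : Hq F) where
  u : U3 H.toHerm →* G
  inj : Function.Injective u

namespace Qd

variable {G : Type*} [Group G] {F : Type*} [Field F] [Fintype F] {H : Hq F} (q : Qd G H)

/-- central elements of the model -/
def cz (H : Hq F) (b : H.K) : U3 H.toHerm := ⟨0, b, by simp [H.aF]⟩
@[simp] theorem cz_a (b : H.K) : (cz H b).a = 0 := rfl
@[simp] theorem cz_b (b : H.K) : (cz H b).b = b := rfl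

/-- the subgroup `Q` -/
def Q : Subgroup G := q.u.range
/-- the centre, parametrised -/
def zc (b : H.K) : G := q.u (cz H b)

theorem zc_add (a b : H.K) : q.zc (a + b) = q.zc a * q.zc b := by
  rw [zc, zc, zc, ← map_mul]; congr 1; ext <;> simp
@[simp] theorem zc_zero : q.zc 0 = 1 := by
  rw [zc, ← map_one q.u]; congr 1
theorem zc_inj {a b : H.K} : q.zc a = q.zc b ↔ a = b :=
  ⟨fun e => Subtype.ext (congrArg U3.b (q.inj e)), fun e => e ▸ rfl⟩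
theorem zc_eq_one {a : H.K} : q.zc a = 1 ↔ a = 0 := by rw [← q.zc_zero, zc_inj]
theorem zc_sq (a : H.K) : q.zc a * q.zc a = 1 := by rw [← zc_add, H.aK, zc_zero]
@[simp] theorem zc_inv (a : H.K) : (q.zc a)⁻¹ = q.zc a := inv2 (q.zc_sq a)

/-- the centre -/
def Z : Subgroup G where
  carrier := {g | ∃ b, g = q.zc b}
  one_mem' := ⟨0, q.zc_zero.symm⟩
  mul_mem' := by rintro _ _ ⟨a, rfl⟩ ⟨b, rfl⟩; exact ⟨_, (q.zc_add a b).symm⟩
  inv_mem' := by rintro _ ⟨a, rfl⟩; exact ⟨a, q.zc_inv a⟩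

open Classical in
/-- the coordinate on the centre -/
noncomputable def ze (g : G) : H.K := if h : ∃ b, g = q.zc b then h.choose else 0
/-- elements inducing inner automorphisms -/
def CQ : Subgroup G := Cen q.Q ⊔ q.Q
open Classical in
/-- the coordinate on `Q / Z` -/
noncomputable def ia (g : G) : F := if h : ∃ x, g * (q.u x)⁻¹ ∈ Cen q.Q then h.choose.a else 0

variable {g x y z k c : G} {X : Subgroup G}

theorem zZ (a : H.K) : q.zc a ∈ q.Z := ⟨a, rfl⟩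
theorem zQ (a : H.K) : q.zc a ∈ q.Q := ⟨_, rfl⟩
theorem Z_le : q.Z ≤ q.Q := by rintro _ ⟨a, rfl⟩; exact q.zQ a
@[simp] theorem ze_zc (a : H.K) : q.ze (q.zc a) = a := by
  have : ∃ b, q.zc a = q.zc b := ⟨a, rfl⟩
  rw [ze, dif_pos this]; exact (q.zc_inj.1 this.choose_spec).symm
variable {q} in
theorem zc_ze (h : z ∈ q.Z) : q.zc (q.ze z) = z := by obtain ⟨a, rfl⟩ := h; rw [ze_zc]
theorem ze_add : AddOn q.Z q.ze := by
  rintro _ ⟨a, rfl⟩ _ ⟨b, rfl⟩; rw [← zc_add]; simp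
@[simp] theorem ze_one : q.ze 1 = 0 := q.ze_add.one
variable {q} in
theorem ze0 (h : z ∈ q.Z) : q.ze z = 0 ↔ z = 1 := by obtain ⟨a, rfl⟩ := h; simp [zc_eq_one]
variable {q} in
theorem zz (h : z ∈ q.Z) : z * z = 1 := by obtain ⟨a, rfl⟩ := h; exact q.zc_sq a
theorem Z_cen : q.Z ≤ Cen q.Q := by
  rintro _ ⟨a, rfl⟩
  refine cen.2 ?_
  rintro _ ⟨x, rfl⟩
  rw [zc, ← map_mul, ← map_mul]; congr 1; ext <;> simp [add_comm]
theorem cen_le : Cen q.Q ≤ q.CQ := le_sup_left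
theorem Q_le : q.Q ≤ q.CQ := le_sup_right
theorem mem_CQ : g ∈ q.CQ ↔ ∃ c ∈ Cen q.Q, ∃ x ∈ q.Q, c * x = g :=
  mem_sup_of_le_normalizer_right (cnor le_rfl)
theorem CQ_nor : q.CQ ≤ Nor q.Q := sup_le (cnor le_rfl) le_normalizer
theorem nor_CQ : Nor q.Q ≤ Nor q.CQ := nsup (ncen le_rfl) le_rfl

theorem cen_u {x : U3 H.toHerm} : q.u x ∈ Cen q.Q ↔ x.a = 0 := by
  rw [← U3.mem_center_iff', mem_center_iff, cen]
  exact ⟨fun h y => q.inj (by rw [map_mul, map_mul, h _ ⟨y, rfl⟩]), by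
    rintro h _ ⟨y, rfl⟩; rw [← map_mul, ← map_mul, h]⟩

theorem ia_eq (hc : c ∈ Cen q.Q) (x : U3 H.toHerm) : q.ia (c * q.u x) = x.a := by
  have : ∃ y, c * q.u x * (q.u y)⁻¹ ∈ Cen q.Q := ⟨x, by simpa using hc⟩
  rw [ia, dif_pos this]
  have e := this.choose_spec
  rw [mul_assoc, mul_mem_cancel_left hc, ← map_inv, ← map_mul, cen_u] at e
  exact (H.eqF.1 e).symm

theorem ia_u (x : U3 H.toHerm) : q.ia (q.u x) = x.a := by simpa using q.ia_eq (one_mem _) x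
variable {q}
theorem ia_cen (hc : c ∈ Cen q.Q) : q.ia c = 0 := by simpa using q.ia_eq hc 1
theorem ia_Z (hc : c ∈ q.Z) : q.ia c = 0 := ia_cen (q.Z_cen hc)
@[simp] theorem ia_zc (a : H.K) : q.ia (q.zc a) = 0 := ia_Z (q.zZ a)
theorem ia_add : AddOn q.CQ q.ia := fun a ha b hb => by
  obtain ⟨c, hc, _, ⟨x, rfl⟩, rfl⟩ := q.mem_CQ.1 ha
  obtain ⟨d, hd, _, ⟨y, rfl⟩, rfl⟩ := q.mem_CQ.1 hb
  rw [show c * q.u x * (d * q.u y) = c * d * q.u (x * y) by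
    rw [map_mul, mul_assoc c d, ← mul_assoc d, cen.1 hd _ ⟨x, rfl⟩]; group,
    q.ia_eq (mul_mem hc hd), q.ia_eq hc, q.ia_eq hd, U3.mul_a]
@[simp] theorem ia_one : q.ia 1 = 0 := ia_add.one
theorem ia_inv (h : g ∈ q.CQ) : q.ia g⁻¹ = q.ia g := by
  rw [ia_add.inv h, neg_eq_iff_add_eq_zero, H.aF]
theorem ia_cQ (hc : c ∈ Cen q.Q) (hx : x ∈ q.CQ) : q.ia (c * x) = q.ia x := by
  rw [ia_add _ (q.cen_le hc) _ hx, ia_cen hc, zero_add]
theorem cen_of (h : g ∈ q.CQ) (e : q.ia g = 0) : g ∈ Cen q.Q := by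
  obtain ⟨c, hc, _, ⟨x, rfl⟩, rfl⟩ := q.mem_CQ.1 h
  exact mul_mem hc (q.cen_u.2 (q.ia_eq hc x ▸ e))
variable (q) in
theorem exQ (a : F) : ∃ x ∈ q.Q, q.ia x = a := ⟨_, ⟨U3.sec _ a, rfl⟩, q.ia_u _⟩
theorem memZ (h : x ∈ q.Q) (e : q.ia x = 0) : x ∈ q.Z := by
  obtain ⟨x, rfl⟩ := h
  rw [ia_u] at e
  have := x.h
  exact ⟨⟨x.b, H.mem_Kf.2 (H.eqF.1 (by rw [add_comm, this, e, zero_mul]))⟩,
    congrArg q.u (U3.ext e rfl)⟩
theorem sqQ (h : x ∈ q.Q) : x * x = q.zc (H.nm (q.ia x)) := by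
  obtain ⟨x, rfl⟩ := h
  rw [ia_u, ← map_mul, ← sq, zc]; congr 1
  exact U3.ext (U3.sq_a x) (U3.sq_b x)
theorem cZ (hg : g ∈ q.CQ) (b : H.K) : g * q.zc b = q.zc b * g := by
  obtain ⟨c, hc, x, hx, rfl⟩ := q.mem_CQ.1 hg
  rw [mul_assoc, ← cen.1 (q.Z_cen (q.zZ b)) x hx, ← mul_assoc, cen.1 hc _ (q.zQ b), mul_assoc]
theorem cZ' (hg : g ∈ q.CQ) (hz : z ∈ q.Z) : g * z = z * g := by
  obtain ⟨b, rfl⟩ := hz; exact cZ hg b
theorem cmQ (hg : g ∈ q.CQ) (hx : x ∈ q.Q) : g * x = q.zc (H.bf (q.ia g) (q.ia x)) * (x * g) := by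
  obtain ⟨c, hc, _, ⟨y, rfl⟩, rfl⟩ := q.mem_CQ.1 hg
  obtain ⟨x, rfl⟩ := hx
  have := H.two
  rw [q.ia_eq hc, ia_u, ← mul_assoc (q.u x), ← cen.1 hc _ ⟨x, rfl⟩, ← mul_assoc,
    ← mul_assoc, ← cZ (q.cen_le hc), mul_assoc, mul_assoc, mul_assoc, zc, ← map_mul, ← map_mul,
    ← map_mul]
  congr 2; ext <;> simp <;> grind
theorem cjQ (hg : g ∈ q.CQ) (hx : x ∈ q.Q) :
    g * x * g⁻¹ = q.zc (H.bf (q.ia g) (q.ia x)) * x := by rw [cmQ hg hx]; group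
variable (q) in
theorem cardZ : Nat.card q.Z = 2 ^ H.n :=
  H.cardK ▸ (Nat.card_congr (Equiv.ofBijective (fun b => (⟨q.zc b, q.zZ b⟩ : q.Z))
    ⟨fun a b e => q.zc_inj.1 (congrArg Subtype.val e), by rintro ⟨_, a, rfl⟩; exact ⟨a, rfl⟩⟩)).symm
variable (q) in
theorem cardQ : Nat.card q.Q = (2 ^ H.n) ^ 3 := by
  rw [(ia_add.mono q.Q_le).card_eq q.exQ (Y := q.Z) fun x =>
    ⟨fun h => ⟨q.Z_le h, ia_Z h⟩, fun h => memZ h.1 h.2⟩, cardZ, H.cardF, pow_succ _ 2]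
theorem sq1 (h : x ∈ q.Q) (e : x * x = 1) : x ∈ q.Z :=
  memZ h (by rwa [sqQ h, zc_eq_one, H.nm_eq_zero] at e)
variable (q) in
theorem twoQ : IsPGroup 2 q.Q := U3.isPGroup.of_surjective _ q.u.rangeRestrict_surjective
variable (q) in
theorem twoZ : IsPGroup 2 q.Z := q.twoQ.to_le q.Z_le
variable (q) in
theorem ex_sq (b : H.K) : ∃ x ∈ q.Q, x * x = q.zc b := by
  obtain ⟨a, rfl⟩ := H.ex_nm b
  obtain ⟨x, hx, rfl⟩ := q.exQ a
  exact ⟨x, hx, sqQ hx⟩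

variable (q) in
/-- groups with the same square map as `Q` -/
structure Sp (X : Subgroup G) : Prop where
  le : q.Q ≤ X
  le' : X ≤ q.CQ
  sq : ∀ x ∈ X, x * x = q.zc (H.nm (q.ia x))

variable (q) in
theorem spQ : q.Sp q.Q := ⟨le_rfl, q.Q_le, fun _ => sqQ⟩

variable (q) in
/-- semilinear action -/
def Ac (g : G) (p : F × (F ≃+* F)) : Prop :=
  p.1 ≠ 0 ∧ ∀ x ∈ q.Q, q.ia (g * x * g⁻¹) = p.1 * p.2 (q.ia x)

open Classical in
variable (q) in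
/-- the semilinear data -/
noncomputable def kt (g : G) : F × (F ≃+* F) := if h : ∃ p, q.Ac g p then h.choose else 1
variable (q) in
/-- the scalar -/
noncomputable def ka (g : G) : F := (q.kt g).1
variable (q) in
/-- the field automorphism -/
noncomputable def th (g : G) : F ≃+* F := (q.kt g).2

theorem uniq {κ : F} {θ : F ≃+* F} (k0 : κ ≠ 0)
    (h : ∀ x ∈ q.Q, q.ia (g * x * g⁻¹) = κ * θ (q.ia x)) : q.ka g = κ ∧ q.th g = θ := by
  have e : ∃ p, q.Ac g p := ⟨(κ, θ), k0, h⟩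
  have s := e.choose_spec
  rw [ka, th, kt, dif_pos e]
  generalize e.choose = p at s
  have k : ∀ a, p.1 * p.2 a = κ * θ a := fun a => by
    obtain ⟨x, hx, rfl⟩ := q.exQ a
    rw [← s.2 x hx, h x hx]
  have k1 : p.1 = κ := by simpa using k 1
  exact ⟨k1, RingEquiv.ext fun a => mul_left_cancel₀ k0 (k1 ▸ k a)⟩

variable [Finite G]

namespace Sp

variable (h : q.Sp X)
include h

theorem ia0 (hx : x ∈ X) : q.ia x = 0 ↔ x * x = 1 := by rw [h.sq x hx, zc_eq_one, H.nm_eq_zero]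

theorem norZ : Nor X ≤ Nor q.Z := fun g hg => mnor (by
  rintro _ ⟨b, rfl⟩
  obtain ⟨x, hx, e⟩ := q.ex_sq b
  rw [← e, ← conj_mul, h.sq _ (cmem hg (h.le hx))]
  exact q.zZ _)

theorem ex (hg : g ∈ Nor X) : q.ka g ≠ 0 ∧ ∀ x ∈ X, q.ia (g * x * g⁻¹) = q.ka g * q.th g (q.ia x) := by
  have a := ia_add.mono h.le'
  obtain ⟨ψ, e⟩ := a.fac (fun a => (q.exQ a).imp fun x e => ⟨h.le e.1, e.2⟩)
    (φ := fun x => q.ia (g * x * g⁻¹)) (fun x hx y hy => by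
      rw [← a _ (cmem hg hx) _ (cmem hg hy), conj_mul]) fun x hx e =>
      (h.ia0 (cmem hg hx)).2 (W.csq ((h.ia0 hx).1 e))
  obtain ⟨κ, k0, θ, f⟩ := H.semil ψ ((injective_iff_map_eq_zero _).2 fun a ha => by
    obtain ⟨x, hx, rfl⟩ := q.exQ a
    rw [← e x (h.le hx), h.ia0 (cmem hg (h.le hx)), conj_mul, conj_eq_one_iff] at ha
    exact (h.ia0 (h.le hx)).2 ha) (fun b => q.ze (g * q.zc b * g⁻¹)) (fun a b => by
      rw [← q.ze_add _ (cmem (h.norZ hg) (q.zZ a)) _ (cmem (h.norZ hg) (q.zZ b)), conj_mul, zc_add])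
    fun a => by
      obtain ⟨x, hx, rfl⟩ := q.exQ a
      rw [← sqQ hx, ← conj_mul, h.sq _ (cmem hg (h.le hx)), ze_zc, e x (h.le hx)]
  obtain ⟨rfl, rfl⟩ := uniq k0 fun x hx => (e x (h.le hx)).trans (f _)
  exact ⟨k0, fun x hx => (e x hx).trans (f _)⟩

theorem ka_ne (hg : g ∈ Nor X) : q.ka g ≠ 0 := (h.ex hg).1
theorem act (hg : g ∈ Nor X) (hx : x ∈ X) : q.ia (g * x * g⁻¹) = q.ka g * q.th g (q.ia x) :=
  (h.ex hg).2 x hx

theorem mul (hg : g ∈ Nor X) (hk : k ∈ Nor X) :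
    q.ka (g * k) = q.ka g * q.th g (q.ka k) ∧ q.th (g * k) = q.th g * q.th k :=
  uniq (mul_ne_zero (h.ka_ne hg) (by simpa using h.ka_ne hk)) fun x hx => by
    rw [show g * k * x * (g * k)⁻¹ = g * (k * x * k⁻¹) * g⁻¹ by group, h.act hg (cmem hk (h.le hx)),
      h.act hk (h.le hx), map_mul, mul_assoc]; rfl

theorem th_mul (hg : g ∈ Nor X) (hk : k ∈ Nor X) : q.th (g * k) = q.th g * q.th k := (h.mul hg hk).2

/-- the field automorphism as a homomorphism -/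
noncomputable def thH : Nor X →* (F ≃+* F) := MonoidHom.mk' (fun g => q.th g) fun a b => h.th_mul a.2 b.2

theorem th_inv (hg : g ∈ Nor X) : q.th g⁻¹ = (q.th g)⁻¹ := h.thH.map_inv ⟨g, hg⟩
theorem th_pow (hg : g ∈ Nor X) (n : ℕ) : q.th (g ^ n) = q.th g ^ n := h.thH.map_pow ⟨g, hg⟩ n
theorem th_cm (hg : g ∈ Nor X) (hk : k ∈ Nor X) : q.th (g * k * g⁻¹ * k⁻¹) = 1 := by
  rw [h.th_mul (mul_mem (mul_mem hg hk) (inv_mem hg)) (inv_mem hk), h.th_mul (mul_mem hg hk)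
    (inv_mem hg), h.th_mul hg hk, h.th_inv hg, h.th_inv hk, H.aut_comm (q.th g)]; group
theorem th_cj (hg : g ∈ Nor X) (hk : k ∈ Nor X) : q.th (g * k * g⁻¹) = q.th k := by
  rw [h.th_mul (mul_mem hg hk) (inv_mem hg), h.th_mul hg hk, h.th_inv hg, H.aut_comm (q.th g)]; group

theorem actZ (hg : g ∈ Nor X) (b : H.K) :
    g * q.zc b * g⁻¹ = q.zc (H.nm (q.ka g) * H.rs (q.th g) b) := by
  obtain ⟨a, rfl⟩ := H.ex_nm b
  obtain ⟨x, hx, rfl⟩ := q.exQ a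
  rw [← sqQ hx, ← conj_mul, h.sq _ (cmem hg (h.le hx)), h.act hg (h.le hx), H.nm_mul, H.nm_th]

theorem tr (hg : g ∈ Nor X) (e : q.ka g = 1) (e' : q.th g = 1) (hx : x ∈ X) :
    q.ia (g * x * g⁻¹) = q.ia x := by rw [h.act hg hx, e, e', one_mul]; rfl

theorem ka1 (hg : g ∈ Nor X) {j : ℕ} (e : g ^ 2 ^ j = 1) (e' : q.th g = 1) : q.ka g = 1 := by
  have k : ∀ n, q.ka (g ^ n) = q.ka g ^ n := fun n => by
    induction n with
    | zero => simpa using (uniq (q := q) (g := 1) (θ := 1) one_ne_zero (by simp)).1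
    | succ n ih => rw [pow_succ', (h.mul hg (pow_mem hg n)).1, ih, e', pow_succ']; rfl
  exact H.pow2 (by rw [← k, e, ← pow_zero g, k, pow_zero])

theorem tr2 {P : Subgroup G} (hP : IsPGroup 2 P) (gP : g ∈ P) (hg : g ∈ Nor X) (e' : q.th g = 1)
    (hx : x ∈ X) : q.ia (g * x * g⁻¹) = q.ia x :=
  (exists_pow_pow_of_mem hP gP).elim fun _ e => h.tr hg (h.ka1 hg e e') e' hx

theorem two (hg : g ∈ Nor X) (e : q.th (g * g) = 1) : q.th g = 1 ∨ q.th g = H.sg :=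
  H.aut2 (h.th_mul hg hg ▸ e)

theorem fixl (hg : g ∈ Nor X) (e : q.th g = H.sg) :
    ∃ a₀, a₀ ≠ 0 ∧ ∀ x ∈ X, q.ia (g * x * g⁻¹) = q.ia x → q.ia x ∈ H.ln a₀ :=
  (H.fixl (q.ka g)).imp fun a₀ f => ⟨f.1, fun x hx e' =>
    H.mem_ln.2 (f.2 _ (by rw [h.act hg hx, e] at e'; exact e'))⟩

end Sp

omit [Finite G] in
theorem triv (h : ∀ x ∈ q.Q, q.ia (g * x * g⁻¹) = q.ia x) : q.ka g = 1 ∧ q.th g = 1 :=
  uniq one_ne_zero (by simpa using h)

omit [Finite G] in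
theorem kt_CQ (h : g ∈ q.CQ) : q.ka g = 1 ∧ q.th g = 1 := triv fun x hx => ia_add.conj h (q.Q_le hx)
omit [Finite G] in
theorem th_CQ (h : g ∈ q.CQ) : q.th g = 1 := (kt_CQ h).2
omit [Finite G] in
@[simp] theorem th_one : q.th 1 = 1 := th_CQ (one_mem _)

theorem actC (hg : g ∈ Nor q.Q) (hx : x ∈ q.CQ) : q.ia (g * x * g⁻¹) = q.ka g * q.th g (q.ia x) := by
  obtain ⟨c, hc, x, m, rfl⟩ := q.mem_CQ.1 hx
  rw [← conj_mul, ia_cQ (cmem (mcen hg) hc) (q.Q_le (cmem hg m)), ia_cQ hc (q.Q_le m),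
    q.spQ.act hg m]

/-- an involution of field type -/
theorem invl (hy : y ∈ Nor q.Q) (yy : y * y = 1) (e : q.th y = H.sg) : ∃ a₀ : F, a₀ ≠ 0 ∧
    (∀ b, y * q.zc b = q.zc b * y) ∧ (∀ x ∈ q.CQ, q.ia (y * x * y⁻¹) = q.ia x ↔ q.ia x ∈ H.ln a₀) ∧
    ∀ x ∈ q.Q, q.ia x ∈ H.ln a₀ → y * x * y⁻¹ = x⁻¹ := by
  have n1 : H.nm (q.ka y) = 1 := Subtype.ext (by
    have := (q.spQ.mul hy hy).1
    rw [yy, (kt_CQ (one_mem _)).1, e] at this
    exact this.symm)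
  obtain ⟨a₀, a0, f1, f2⟩ := H.line n1
  have cz : ∀ b, y * q.zc b = q.zc b * y := fun b => by
    rw [← mul_inv_eq_iff_eq_mul, q.spQ.actZ hy, n1, e]; simp
  have t := H.two
  have n2 : q.ka y * H.σ (q.ka y) = 1 := congrArg Subtype.val n1
  refine ⟨a₀, a0, cz, fun x hx => ?_, fun x hx m => ?_⟩
  · rw [actC hy hx, e, H.mem_ln]
    exact ⟨f2 _, fun ⟨k, e⟩ => by rw [e, H.sg_apply, map_mul, H.sk, mul_left_comm, f1]⟩
  obtain ⟨k, ek⟩ := H.mem_ln.1 m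
  obtain ⟨v, hv, ev⟩ := q.exQ (H.ω * q.ia x)
  have hw := cmem hy hv
  have e1 : q.ia (y * v * y⁻¹) = H.σ H.ω * q.ia x := by
    rw [q.spQ.act hy hv, e, ev, ek]; simp only [H.sg_apply, map_mul, H.sk]; grind
  have e2 : q.ia (v * (y * v * y⁻¹)) = q.ia x := by
    have := H.trω
    rw [ia_add _ (q.Q_le hv) _ (q.Q_le hw), e1, ev]; grind
  obtain ⟨b, eb⟩ := memZ (mul_mem (inv_mem (mul_mem hv hw)) hx) (by
    rw [ia_add _ (q.Q_le (inv_mem (mul_mem hv hw))) _ (q.Q_le hx), ia_inv (q.Q_le (mul_mem hv hw)),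
      e2, H.aF])
  have e3 : x = v * (y * v * y⁻¹) * q.zc b := by rw [← eb]; group
  refine eq_inv_of_mul_eq_one_left ?_
  have e4 : y * x * y⁻¹ = y * v * y⁻¹ * v * q.zc b := by
    rw [e3, ← conj_mul, ← conj_mul, cz, mul_inv_cancel_right]
    congr 2
    rw [show y * (y * v * y⁻¹) * y⁻¹ = y * y * v * (y * y)⁻¹ by group, yy]; group
  rw [e4]
  nth_rewrite 1 [e3]
  have c1 := cZ (q.Q_le hv)
  have c2 := cZ (q.Q_le hw)
  have s1 := sqQ hv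
  have s2 := sqQ hw
  rw [e1, H.nm_mul, H.nm_sig, ← H.nm_mul, ← ev] at s2
  generalize y * v * y⁻¹ = w at *
  calc w * v * q.zc b * (v * w * q.zc b) = w * (v * (q.zc b * v)) * (w * q.zc b) := by group
    _ = w * (v * v) * (q.zc b * q.zc b) * w := by rw [← c1, c2]; group
    _ = 1 := by rw [s1, zc_sq, mul_one, c2, mul_assoc, s2, zc_sq]

/-- recognition of inner automorphisms -/
theorem inn {h₀ b : G} {m : F} (m1 : m ≠ 1) (hm : H.nm m = 1) (hh : h₀ ∈ Nor q.Q)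
    (ah : ∀ x ∈ q.Q, q.ia (h₀ * x * h₀⁻¹) = m * q.ia x) (hg : g ∈ Nor q.Q)
    (ag : ∀ x ∈ q.Q, q.ia (g * x * g⁻¹) = q.ia x) (hb : g * h₀ * g⁻¹ * h₀⁻¹ ∈ q.CQ) : g ∈ q.CQ := by
  have m0 : m ≠ 0 := fun e => by simp [e] at hm
  have zg : ∀ b, g * q.zc b * g⁻¹ = q.zc b := fun b => by
    rw [q.spQ.actZ hg, (triv ag).1, (triv ag).2]; simp
  have zh : ∀ b, h₀ * q.zc b * h₀⁻¹ = q.zc b := fun b => by
    obtain ⟨e1, e2⟩ := uniq (θ := 1) m0 ah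
    rw [q.spQ.actZ hh, e1, e2, hm]; simp
  have mZ : ∀ x ∈ q.Q, g * x * g⁻¹ * x⁻¹ ∈ q.Z := fun x hx => memZ (mul_mem (cmem hg hx) (inv_mem hx))
    (by rw [ia_add _ (q.Q_le (cmem hg hx)) _ (q.Q_le (inv_mem hx)), ag x hx, ia_inv (q.Q_le hx), H.aF])
  obtain ⟨φ, e⟩ := (ia_add.mono q.Q_le).fac q.exQ (φ := fun x => q.ze (g * x * g⁻¹ * x⁻¹))
    (fun x hx y hy => by
      rw [← q.ze_add _ (mZ x hx) _ (mZ y hy), mul_assoc _ x⁻¹, cZ' (q.Q_le (inv_mem hx)) (mZ y hy)]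
      congr 1; group) fun x hx e => by
      obtain ⟨b, rfl⟩ := memZ hx e
      rw [zg]; simp [zc_sq]
  have e' : ∀ x ∈ q.Q, g * x * g⁻¹ = q.zc (φ (q.ia x)) * x := fun x hx => by
    rw [← e x hx, zc_ze (mZ x hx)]; group
  have k : ∀ a, φ (m * a) + φ a = H.bf (q.ia (g * h₀ * g⁻¹ * h₀⁻¹)) (m * a) := fun a => by
    obtain ⟨x, hx, rfl⟩ := q.exQ a
    have hy := mul_mem (q.zQ (φ (q.ia x))) hx
    have e1 := cjQ hb (cmem hh (cmem hg hy))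
    have e2 : g * (q.zc (φ (q.ia x)) * x) * g⁻¹ = x := by
      rw [← conj_mul, zg, e' x hx, ← mul_assoc, zc_sq, one_mul]
    have e3 : g⁻¹ * x * g = q.zc (φ (q.ia x)) * x := by rw [← cj (g := g), e2]; group
    rw [e2, ah x hx, show g * h₀ * g⁻¹ * h₀⁻¹ * (h₀ * x * h₀⁻¹) * (g * h₀ * g⁻¹ * h₀⁻¹)⁻¹ =
      g * (h₀ * (g⁻¹ * x * g) * h₀⁻¹) * g⁻¹ by group, e3, ← conj_mul (b := h₀), zh, ← conj_mul, zg,
      e' _ (cmem hh hx), ah x hx, ← mul_assoc, ← zc_add, mul_left_inj, zc_inj] at e1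
    rw [← e1, add_comm]
  have m2 : m + 1 ≠ 0 := fun e => m1 (H.eqF.1 e)
  obtain ⟨y, hy, ey⟩ := q.exQ (H.σ (m / (m + 1)) * q.ia (g * h₀ * g⁻¹ * h₀⁻¹))
  refine q.mem_CQ.2 ⟨g * y⁻¹, cen.2 fun x hx => ?_, y, hy, by group⟩
  have hx' := cmem' (le_normalizer hy) hx
  rw [← mul_inv_eq_iff_eq_mul, show g * y⁻¹ * x * (g * y⁻¹)⁻¹ = g * (y⁻¹ * x * y) * g⁻¹ by group,
    e' _ hx', ← cj (g := y), ← conj_mul, cZ (q.Q_le hy), show y * (y⁻¹ * x * y) * y⁻¹ = x by group,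
    mul_inv_cancel_right, cjQ (q.Q_le hy) hx, ey, H.bf_mul', H.invol]
  have := ia_add.conj (q.Q_le (inv_mem hy)) (q.Q_le hx)
  rw [inv_inv] at this
  rw [this, show m / (m + 1) * q.ia x = m * (q.ia x / (m + 1)) by ring, ← k, ← map_add]
  congr 3; field_simp

end Qd

end EU
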