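import Cfsg.Agent.EU.C
import Cfsg.Agent.H8.Char4

/-! The standing hypotheses and their derivation. -/

set_option autoImplicit false
set_option linter.unusedSectionVars false
set_option linter.unusedVariables false

namespace EU

open Cfsg Subgroup FT H4 GW H2 BS BS.SU3 W.U
open H5 (IsSylowOf mem_of_eq)

/-- the standing hypotheses -/
structure Hy (G : Type*) [Group G] {F : Type*} [Field F] [Fintype F] (H : Hq F) extends Qd G H where
  E : Subgroup G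
  U : Subgroup G
  Y : Subgroup G
  h : Fˣ →* G
  ee : ∀ e ∈ E, e * e = 1
  ne : E ≠ ⊥
  cE : ∀ e ∈ E, e ≠ 1 → Cen1 e = E ⊔ U
  cm : ∀ e ∈ E, ∀ v ∈ U, v * e = e * v
  EU : ∀ e ∈ E, e ∈ U → e = 1
  QU : toQd.Q ≤ U
  hU : ∀ l, h l ∈ U
  hN : ∀ l, h l ∈ Nor toQd.Q
  ha : ∀ l, ∀ x ∈ toQd.Q, toQd.ia (h l * x * (h l)⁻¹) = H.mu l * toQd.ia x
  frat : ∀ X ≤ E ⊔ U, IsPGroup 2 X → ∃ c ∈ E ⊔ U, ∀ x ∈ X, c * x * c⁻¹ ∈ Nor toQd.Q
  YU : Y ≤ U
  y3 : ∀ y ∈ Y, y ^ 3 = 1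
  YQ : Y ≤ Cen toQd.Q
  Yh : ∀ y ∈ Y, ∀ l, y * h l = h l * y
  YY : ∀ y ∈ Y, ∀ y' ∈ Y, y * y' = y' * y
  ker : ∀ g ∈ U, g ∈ Nor toQd.Q → (∀ x ∈ toQd.Q, toQd.ia (g * x * g⁻¹) = toQd.ia x) →
    ∃ x ∈ toQd.Q, ∃ y ∈ Y, g = x * y

section
variable {F : Type*} [Field F] [Fintype F] {H : Herm F} {n : ℕ} (hn : 1 ≤ n)
  (hF : Fintype.card F = 4 ^ n) (hq : ∀ x, H.σ x = x ^ 2 ^ n)
include hn hF

theorem cardQ' : Nat.card (split hq).Q = (2 ^ n) ^ 3 := by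
  rw [show (split hq).Q = (U3.toSU hq).range from rfl, ← Nat.card_congr (MonoidHom.ofInjective
    (U3.toSU_injective hq)).toEquiv, ← card_top, Ly.card_U3 ⊤ (fun _ => True) (by simp),
    card_K_eq H hF, Nat.card_congr (Equiv.subtypeUnivEquiv fun _ => trivial),
    Nat.card_eq_fintype_card, hF, show 4 = 2 * 2 from rfl, mul_pow]
  ring

theorem cardD' : Nat.card (tor hq).range ∣ 4 ^ n - 1 := by
  rw [← hF, ← Nat.card_eq_fintype_card, ← Nat.card_units]; exact card_range_dvd _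

theorem r1' : W.R1 (split hq) (tor hq).range := by
  refine ⟨(U3.sylowSU hq).2, fun e => ?_, isCyclic_of_surjective _ (tor hq).rangeRestrict_surjective,
    (Nat.Even.sub_odd (Nat.one_le_pow _ _ four_pos) (Nat.even_pow.2 ⟨by decide, by omega⟩)
      odd_one).of_dvd_nat (cardD' hn hF hq), ?_, fun g ⟨l, hl⟩ => ?_⟩
  · have := cardQ' hn hF hq
    rw [e, card_bot, eq_comm, Nat.pow_eq_one, Nat.pow_eq_one] at this
    omega
  · rintro _ ⟨l, rfl⟩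
    refine mem_normalizer_fintype ?_
    rintro _ ⟨x, rfl⟩
    exact (tor_U hq l x).elim fun y e => ⟨y, e.1.symm⟩
  refine (mul_mem_cancel_left (mem_sup_right (MonoidHom.mem_range.2
    ⟨Units.mk0 (H.σ l) (by simpa using ne_zero_of_act hl), rfl⟩))).1
      (mem_sup_left (U3.mem_range_of_fix hq _ ?_))
  rw [← vec_e (H := H)]
  change act _ _ = _
  rw [act_mul, hl, act_tor]
  simp [H.invol, ne_zero_of_act hl]

end

theorem two_le {F L : Type*} [Field F] [Fintype F] [Group L] [Finite L] {n : ℕ}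
    (hF : Fintype.card F = 4 ^ n) (hq : IsQuasisimple L) (e : L ⧸ center L ≃* PSU 3 F (2 ^ n)) :
    2 ≤ n := by
  by_contra! hn
  have := Fintype.one_lt_card (α := F)
  obtain rfl : n = 1 := by
    rcases n with _ | n
    · omega
    · omega
  obtain ⟨H, h⟩ := exists_herm le_rfl hF
  have d := (r1' le_rfl hF h).dvd
  rw [cardQ' le_rfl hF] at d
  have := H8.isSolvable_of_card_dvd_prime_pow_mul Nat.prime_two Nat.prime_three 3 3 _ _ rfl
    (d.trans (Nat.mul_dvd_mul_right (Nat.mul_dvd_mul_left _ (cardD' le_rfl hF h)) _))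
  have := hq.1
  have := hq.2
  exact Group.IsPerfect.not_isSolvable (L ⧸ center L) (solvable_of_solvable_injective
    (f := e.toMonoidHom) e.injective)

variable {G : Type*} [Group G] [Finite G] {F : Type*} [Field F] [Fintype F]

theorem ker_su (H : Hq F) (f : SU 3 F (2 ^ H.n) →* G) (hf : ∀ g, f g = 1 → g ∈ center _)
    (c3 : ∀ y ∈ f.range, y ∈ Cen f.range → y ^ 3 = 1) (q : Qd G H)
    (hu : q.u = f.comp (U3.toSU H.hq)) {g : G} (n0 : g ∈ Nor f.range) (hg : g ∈ Nor q.Q)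
    (ag : ∀ x ∈ q.Q, q.ia (g * x * g⁻¹) = q.ia x) : ∃ x ∈ q.Q, x⁻¹ * g ∈ Cen f.range := by
  have r := r1' (by have := H.hn; omega) H.hF H.hq
  let S := split H.hq
  let B := S.H.map f
  have mB : ∀ k, f k ∈ B ↔ k ∈ S.H := fun k => by
    refine ⟨fun ⟨k', h1, h2⟩ => ?_, mem_map_of_mem f⟩
    have := hf (k'⁻¹ * k) (by rw [map_mul, map_inv, h2, inv_mul_cancel])
    exact (mul_mem_cancel_left (inv_mem h1)).1 ((core_Bor H.hq).ge.trans (normalCore_le _) this)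
  have eQ : q.Q = S.Q.map f := by rw [Qd.Q, hu, MonoidHom.range_comp]; rfl
  have QB : q.Q ≤ B := eQ ▸ map_mono S.Q_le
  have ww : f S.t * f S.t = 1 := by rw [← map_mul, S.t_sq, map_one]
  have un : ∀ x ∈ q.Q, f S.t * x * f S.t ∈ B → x = 1 := fun x hx e => by
    obtain ⟨x, m, rfl⟩ := eQ.le hx
    rw [← map_mul, ← map_mul, mB] at e
    rw [S.uniq x m e, map_one]
  have cv : ∀ k ∈ f.range, k ∉ B → ∃ x ∈ q.Q, ∃ b ∈ B, k = x * f S.t * b := by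
    rintro _ ⟨k, rfl⟩ h
    obtain ⟨x, hx, e⟩ := S.cover k (mt (mB k).2 h)
    exact ⟨_, eQ.ge (mem_map_of_mem f hx), _, (mB _).2 e, by simp only [map_mul, map_inv]; group⟩
  have hN : ∀ l, f (tor H.hq l) ∈ Nor q.Q := fun l =>
    eQ ▸ le_normalizer_map f (mem_map_of_mem f (r.nor ⟨l, rfl⟩))
  have ha : ∀ l, ∀ x ∈ q.Q, q.ia (f (tor H.hq l) * x * (f (tor H.hq l))⁻¹) = H.mu l * q.ia x := by
    rintro l _ ⟨x, rfl⟩
    obtain ⟨y, e, e1, -⟩ := tor_U H.hq l x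
    rw [q.ia_u, hu, MonoidHom.comp_apply, ← map_inv, ← map_mul, ← map_mul, e,
      ← MonoidHom.comp_apply, ← hu, q.ia_u, e1]; rfl
  have dB : ∀ b ∈ B, ∃ x ∈ q.Q, ∃ l, b = x * f (tor H.hq l) := by
    rintro _ ⟨b, hb, rfl⟩
    obtain ⟨x, hx, _, ⟨l, rfl⟩, rfl⟩ := (mem_sup_of_le_normalizer_left r.nor).1 (r.sup hb)
    exact ⟨_, eQ.ge (mem_map_of_mem f hx), l, map_mul ..⟩
  have tB : ∀ l, f (tor H.hq l) ∈ B := fun l => (mB _).2 ⟨_, by rw [act_tor]; simp; rfl⟩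
  have tw : ∀ l, f S.t * f (tor H.hq l) * f S.t ∈ B := fun l => by
    rw [← map_mul, ← map_mul, mB]
    exact ⟨l, by
      change act (T H.hq * _ * T H.hq) _ = _
      rw [act_mul, act_mul, act_T, act_tor, act_T]; simp⟩
  obtain ⟨x₁, m1, e1⟩ := q.exQ 1
  have eB : ∀ k ∈ f.range, k ∈ B ↔ k ∈ Nor q.Q := fun k hk => ⟨fun h => by
    obtain ⟨x, hx, l, rfl⟩ := dB k h
    exact mul_mem (le_normalizer hx) (hN l), fun h => by_contra fun h' => by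
    obtain ⟨x, hx, b, hb, rfl⟩ := cv k hk h'
    obtain ⟨x', hx', l, rfl⟩ := dB b hb
    rw [mul_mem_cancel_right (mul_mem (le_normalizer hx') (hN l)),
      mul_mem_cancel_left (le_normalizer hx)] at h
    have := un x₁ m1 (QB (mem_of_eq (cmem h m1) (by rw [inv2 ww])))
    simp [this] at e1⟩
  have B0 : B ≤ f.range := map_le_range _ _
  have nB : ∀ g ∈ Nor f.range, g ∈ Nor q.Q → ∀ b ∈ B, g * b * g⁻¹ ∈ B := fun g h1 h2 b hb =>
    (eB _ (cmem h1 (B0 hb))).2 (mul_mem (mul_mem h2 ((eB _ (B0 hb)).1 hb)) (inv_mem h2))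
  have cB : ∀ b ∈ B, (∀ x ∈ q.Q, q.ia (b * x * b⁻¹) = q.ia x) →
      ∃ x ∈ q.Q, ∃ l, f (tor H.hq l) ∈ Cen q.Q ∧ b = x * f (tor H.hq l) := fun b hb e => by
    obtain ⟨x, hx, l, rfl⟩ := dB b hb
    have := e x₁ m1
    rw [show x * f (tor H.hq l) * x₁ * (x * f (tor H.hq l))⁻¹ = x * (f (tor H.hq l) * x₁ *
      (f (tor H.hq l))⁻¹) * x⁻¹ by group, Qd.ia_add.conj (q.Q_le hx) (q.Q_le (cmem (hN l) m1)), ha _ _ m1,
      e1, mul_one] at this
    refine ⟨x, hx, l, cen.2 ?_, rfl⟩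
    rintro _ ⟨y, rfl⟩
    obtain ⟨y', e, a1, a2⟩ := tor_U H.hq l y
    have a3 := congrArg Subtype.val (H.nm_mu l)
    rw [this] at a3
    simp only [H.nm_one, OneMemClass.coe_one, Subfield.coe_inv, Hq.nm_coe] at a3
    rw [← a3, one_mul] at a2
    rw [show H.σ l / l ^ 2 = 1 from this, one_mul] at a1
    rw [← mul_inv_eq_iff_eq_mul, hu, MonoidHom.comp_apply, ← map_inv, ← map_mul, ← map_mul, e,
      U3.ext a1 a2]
  obtain ⟨l₀, l1, l2⟩ := H.ex_l0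
  have l3 : H.mu l₀ ≠ 1 := fun e => l2 (by rw [e, map_one])
  have k1 : ∀ g ∈ Nor f.range, g ∈ Nor q.Q → (∀ x ∈ q.Q, q.ia (g * x * g⁻¹) = q.ia x) →
      ∃ x ∈ q.Q, ∃ l, f (tor H.hq l) ∈ Cen q.Q ∧ g * f (tor H.hq l₀) * g⁻¹ * (f (tor H.hq l₀))⁻¹ =
        x * f (tor H.hq l) := fun g n0 hg ag =>
    cB _ (mul_mem (nB g n0 hg _ (tB _)) (inv_mem (tB _))) fun x hx => by
      obtain ⟨y, hy, rfl⟩ : ∃ y ∈ q.Q, x = f (tor H.hq l₀) * (g * y * g⁻¹) * (f (tor H.hq l₀))⁻¹ :=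
        ⟨_, cmem' hg (cmem' (hN l₀) hx), by group⟩
      rw [ha _ _ (cmem hg hy), ag y hy, ← ha _ y hy, ← ag _ (cmem (hN l₀) hy)]
      congr 1; group
  obtain ⟨x, hx, l, a1, a2⟩ := k1 g n0 hg ag
  obtain ⟨c, hc, x, hx, rfl⟩ := q.mem_CQ.1 (Qd.inn (b := 1) l3 l1 (hN l₀) (ha l₀) hg ag
    (a2 ▸ mul_mem (q.Q_le hx) (q.cen_le a1)))
  have Q0 : q.Q ≤ f.range := QB.trans B0
  rw [mul_mem_cancel_right (le_normalizer (Q0 hx))] at n0
  have nw : ∀ c ∈ Nor f.range, c ∈ Nor q.Q → c * f S.t * c⁻¹ ∉ B := fun c h1 h2 e =>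
    S.t_nmem ((mB _).1 (mem_of_eq (nB _ (inv_mem h1) (inv_mem h2) _ e) (by group)))
  obtain ⟨x', hx', b, hb, e⟩ := cv _ (cmem n0 ⟨_, rfl⟩) (nw c n0 (mcnor hc))
  have z' : x' ∈ Cen q.Q := by
    obtain ⟨z, hz, l, a1, a2⟩ := k1 c n0 (mcnor hc) fun x hx => by rw [cen.1 hc x hx]; simp
    have hz' : z ∈ Cen q.Q := (mul_mem_cancel_right a1).1 (a2 ▸ mem_of_eq (mul_mem hc
      (cmem (mcen (hN l₀)) (inv_mem hc))) (by group))
    have a3 := nB c n0 (mcnor hc) _ (tw l₀)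
    rw [← conj_mul, ← conj_mul, eq_mul_of_mul_inv_eq a2] at a3
    nth_rewrite 1 [← inv2 (W.csq ww)] at a3
    rw [e] at a3
    have a4 := un _ (mul_mem (mul_mem (inv_mem hx') hz) (cmem (hN (l * l₀)) hx'))
      (mem_of_eq (mul_mem (mul_mem (mul_mem hb a3) (inv_mem hb)) (inv_mem (tw (l * l₀)))) (by
        simp only [map_mul, mul_inv_rev, inv2 ww]
        rw [← mul_left_inj (f S.t)]
        simp only [mul_assoc, ww, mul_one, mul_inv_cancel_left]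
        rw [← mul_assoc (f S.t) (f S.t), ww, one_mul]))
    have a5 := congrArg q.ia (eq_inv_of_mul_eq_one_right a4)
    rw [ha _ _ hx', mul_inv_rev, inv_inv, Qd.ia_cQ (inv_mem hz') (q.Q_le hx'), H.mu_mul] at a5
    have a6 := ha l x₁ m1
    rw [cen.1 a1 x₁ m1, mul_inv_cancel_right, e1, mul_one] at a6
    rw [← a6, one_mul] at a5
    exact Qd.cen_of (q.Q_le hx') (by_contra fun n => l3 (mul_right_cancel₀ n (by rw [a5, one_mul])))
  refine ⟨x' * (c * x * c⁻¹), mul_mem hx' (cmem (mcnor hc) hx), ?_⟩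
  rw [show (x' * (c * x * c⁻¹))⁻¹ * (c * x) = c * x⁻¹ * (c⁻¹ * x'⁻¹ * c) * x by group,
    mul_assoc c, ← cen.1 (cmem' (mcen (mcnor hc)) (inv_mem z')) _ (inv_mem hx),
    show c * (c⁻¹ * x'⁻¹ * c * x⁻¹) * x = x'⁻¹ * c by group]
  have hd : x'⁻¹ * c ∈ Cen q.Q := mul_mem (inv_mem z') hc
  have nd : x'⁻¹ * c ∈ Nor f.range := mul_mem (inv_mem (le_normalizer (Q0 hx'))) n0
  have ed : (f S.t)⁻¹ * (x'⁻¹ * c * f S.t * (x'⁻¹ * c)⁻¹) ∈ B := mem_of_eq (mul_mem hb (QB hx')) (by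
    rw [show x'⁻¹ * c * f S.t * (x'⁻¹ * c)⁻¹ = x'⁻¹ * (c * f S.t * c⁻¹) * x' by group, e]; group)
  generalize x'⁻¹ * c = d at hd nd ed
  have k2 : ∀ k ∈ f.range, k⁻¹ * (d * k * d⁻¹) ∈ B := fun k hk => by
    by_cases m : k ∈ B
    · exact mul_mem (inv_mem m) (nB d nd (mcnor hd) k m)
    obtain ⟨y, hy, b, hb, rfl⟩ := cv k hk m
    refine mem_of_eq (mul_mem (mul_mem (inv_mem hb) ed) (nB d nd (mcnor hd) b hb)) ?_
    rw [← conj_mul, ← conj_mul, cen.1 hd y hy]; group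
  obtain ⟨k, hk⟩ := mul_mem (inv_mem (MonoidHom.mem_range.2 ⟨S.t, rfl⟩)) (cmem nd ⟨S.t, rfl⟩)
  have k3 : k ∈ center _ := (core_Bor H.hq).le fun m => (mB _).1 (mem_of_eq (mul_mem
    (k2 _ ⟨S.t * m⁻¹, rfl⟩) (inv_mem (k2 _ ⟨m⁻¹, rfl⟩))) (by
      simp only [map_mul, map_inv, hk]; group))
  have k4 : f k ∈ Cen f.range := cen.2 (by
    rintro _ ⟨m, rfl⟩; rw [← map_mul, ← map_mul, mem_center_iff.1 k3])
  have k5 := c3 _ ⟨k, rfl⟩ k4
  have k6 : f k * f k = 1 := by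
    have := W.csq (g := d) ww
    rw [← mul_inv_cancel_left (f S.t) (d * f S.t * d⁻¹), ← hk, mul_assoc, ← mul_assoc (f k),
      cen.1 k4 _ ⟨S.t, rfl⟩, mul_assoc, ← mul_assoc, ww, one_mul] at this
    exact this
  rw [pow_succ, sq, k6, one_mul, hk, inv_mul_eq_one, eq_comm, ← c1'] at k5
  rw [cen_iff_le, MonoidHom.range_eq_map, ← split_L H.hq, Split.L, MonoidHom.map_closure, closure_le]
  rintro _ ⟨y, hy | rfl, rfl⟩
  · exact cen_iff_le.1 hd (eQ.ge (mem_map_of_mem f hy))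
  · exact c1s.1 k5

theorem exists_hy (t : G) (E U U₀ : Subgroup G)
    (hEU : IsInternalDirectProduct E U (Cen1 t)) (hE : IsElementaryAbelian 2 E) (hE1 : E ≠ ⊥)
    (hU₀ : U₀ ≤ U) (hU₀n : (U₀.subgroupOf U).Normal) (hq : IsQuasisimple ↥U₀)
    (n : ℕ) (hF : Fintype.card F = 4 ^ n) (ε : (↥U₀ ⧸ center ↥U₀) ≃* PSU 3 F (2 ^ n))
    (hCU : U ⊓ Cen U₀ = (center ↥U₀).map U₀.subtype)
    (hC : ∀ e ∈ E, orderOf e = 2 → Cen1 e = Cen1 t) : ∃ (H : Hq F) (D : Hy G H), D.E = E := by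
  have hn := two_le hF hq ε
  obtain ⟨H₀, h₀⟩ := exists_herm (by omega) hF
  let H : Hq F := ⟨H₀, n, hn, hF, h₀⟩
  have := hq.1
  let π := ε.toMonoidHom.comp (QuotientGroup.mk' (center U₀))
  have kπ : ∀ z, π z = 1 ↔ z ∈ center U₀ := fun z =>
    (map_eq_one_iff _ ε.injective).trans (QuotientGroup.eq_one_iff z)
  obtain ⟨c3, cv⟩ := cover hn hF (π := π) ⟨ε.surjective.comp (QuotientGroup.mk'_surjective _),
    fun z hz => mem_center_iff.1 ((kπ z).1 hz)⟩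
  obtain ⟨f, fr, fk⟩ : ∃ f : SU 3 F (2 ^ n) →* G, f.range = U₀ ∧ ∀ g, f g = 1 → g ∈ center _ := by
    rcases cv with i | ⟨⟨e⟩⟩
    · let e := (MulEquiv.ofBijective π ⟨i, ε.surjective.comp (QuotientGroup.mk'_surjective _)⟩).symm
      refine ⟨U₀.subtype.comp (e.toMonoidHom.comp (QuotientGroup.mk' _)), ?_, fun g hg =>
        (QuotientGroup.eq_one_iff g).1 ((map_eq_one_iff _ e.injective).1 (Subtype.ext hg))⟩
      rw [MonoidHom.range_comp, MonoidHom.range_eq_top.2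
        (e.surjective.comp (QuotientGroup.mk'_surjective _)), ← MonoidHom.range_eq_map, range_subtype]
    · refine ⟨U₀.subtype.comp e.symm.toMonoidHom, ?_, fun g hg =>
        (map_eq_one_iff _ e.symm.injective).1 (Subtype.ext hg) ▸ one_mem _⟩
      rw [MonoidHom.range_comp, MonoidHom.range_eq_top.2 e.symm.surjective,
        ← MonoidHom.range_eq_map, range_subtype]
  subst fr
  let q : Qd G H := ⟨f.comp (U3.toSU h₀), (injective_iff_map_eq_one _).2 fun x e =>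
    U3.eq_one_of_central h₀ x (fk _ e)⟩
  have eQ : q.Q = (U3.toSU h₀).range.map f := MonoidHom.range_comp ..
  have Q0 : q.Q ≤ f.range := eQ ▸ map_le_range _ _
  have nU : U ≤ Nor f.range := (normal_subgroupOf_iff_le_normalizer hU₀).1 hU₀n
  obtain ⟨-, -, cm, dj, sp⟩ := hEU
  have ee : ∀ e ∈ E, e * e = 1 := fun e he => sq e ▸ hE.2 e he
  have y3 : ∀ y ∈ f.range, y ∈ Cen f.range → y ^ 3 = 1 := fun y h1 h2 =>
    congrArg Subtype.val (c3 ⟨y, h1⟩ ((kπ _).2 (mem_center_iff.2 fun g =>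
      Subtype.ext (cen.1 h2 g g.2).symm)))
  have r := r1' (by omega) hF h₀
  refine ⟨H, ⟨q, E, U, f.range ⊓ Cen f.range, f.comp (tor h₀), ee, hE1, fun e he e1 =>
    (hC e he (orderOf_eq_prime (hE.2 e he) e1)).trans sp.symm, fun e he v hv => (cm e he v hv).symm,
    fun e h1 h2 => W.eq1 dj h1 h2, Q0.trans hU₀, fun l => hU₀ ⟨_, rfl⟩, fun l =>
    eQ ▸ le_normalizer_map f (mem_map_of_mem f (r.nor ⟨l, rfl⟩)), ?_, fun X hX h2 => ?_,
    inf_le_left.trans hU₀, fun y hy => y3 y hy.1 hy.2, inf_le_right.trans (centralizer_le Q0),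
    fun y hy l => cen.1 hy.2 _ ⟨_, rfl⟩, fun y hy y' hy' => cen.1 hy.2 _ hy'.1,
    fun g hg n a => ?_⟩, rfl⟩
  · rintro l _ ⟨x, rfl⟩
    obtain ⟨y, e, e1, -⟩ := tor_U h₀ l x
    rw [q.ia_u]
    refine Eq.trans (congrArg q.ia ?_) ((q.ia_u y).trans e1)
    exact (by simp only [map_mul, map_inv]; rfl : _ = f _).trans (congrArg f e)
  · obtain ⟨P, hP, le⟩ := H5.exists_isSylowOf_ge h2 hX
    have nC : E ⊔ U ≤ Nor f.range := sup_le (cnor fun e he => cen.2 fun v hv => cm e he v (hU₀ hv)) nU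
    have s := (H5.isSylowOf_top (U3.sylowSU h₀)).map f
    rw [← MonoidHom.range_eq_map] at s
    obtain ⟨k, hk, e⟩ := (hP.inf_of_le_normalizer (hU₀.trans le_sup_right) (hP.le.trans nC)).exists_conj s
    refine ⟨k, mem_sup_right (hU₀ hk), fun x hx => ?_⟩
    rw [eQ]
    exact e ▸ le_normalizer_map _ (mem_map_of_mem (MulAut.conj k).toMonoidHom
      (minf (le_normalizer (le hx)) (nC (hX hx))))
  · obtain ⟨x, hx, e⟩ := ker_su H f fk y3 q rfl (nU hg) n a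
    obtain ⟨y, -, hy⟩ := hCU.le ⟨U.mul_mem (U.inv_mem (hU₀ (Q0 hx))) hg, e⟩
    exact ⟨x, hx, x⁻¹ * g, ⟨hy ▸ y.2, e⟩, by group⟩

end EU
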