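import Cfsg.Agent.EU.D

/-! Basic structure of the centralizer. -/

set_option autoImplicit false
set_option linter.unusedSectionVars false
set_option linter.unusedVariables false

namespace EU

open Cfsg Subgroup FT H4 GW H2 Qd
open H5 (IsSylowOf mem_of_eq)

theorem add_half {A : Type*} [AddCommGroup A] [Finite A] {I J : AddSubgroup A} (h : I < J) :
    2 * Nat.card I ≤ Nat.card J :=
  TW.half (G := Multiplicative A) (M := I.toSubgroup) (S := J.toSubgroup)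
    (AddSubgroup.toSubgroup.lt_iff_lt.2 h)

theorem cjc {G : Type*} [Group G] {g x y : G} :
    g * x * g⁻¹ * (g * y * g⁻¹) = g * y * g⁻¹ * (g * x * g⁻¹) ↔ x * y = y * x := by
  rw [conj_mul, conj_mul, cj]

theorem cjc' {G : Type*} [Group G] {g x y : G} :
    g⁻¹ * x * g * (g⁻¹ * y * g) = g⁻¹ * y * g * (g⁻¹ * x * g) ↔ x * y = y * x := by
  simpa only [inv_inv] using cjc (g := g⁻¹)

theorem csq' {G : Type*} [Group G] {g x : G} (h : x * x = 1) : g⁻¹ * x * g * (g⁻¹ * x * g) = 1 := by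
  rw [show g⁻¹ * x * g * (g⁻¹ * x * g) = g⁻¹ * (x * x) * g by group, h]; group

namespace Hy

variable {G : Type*} [Group G] [Finite G] {F : Type*} [Field F] [Fintype F] {H : Hq F} (s : Hy G H)

/-- the centralizer -/
def C : Subgroup G := s.E ⊔ s.U
/-- the normalizer of `Q` in `C` -/
def D : Subgroup G := s.C ⊓ Nor s.Q
/-- `E × Z` -/
def A : Subgroup G := s.E ⊔ s.Z
/-- `E × Q` -/
def R0 : Subgroup G := s.E ⊔ s.Q
/-- conjugates of the involutions of `E` -/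
def Cls (y : G) : Prop := ∃ g, ∃ e ∈ s.E, e ≠ 1 ∧ y = g * e * g⁻¹

variable {s} {e e' g x y z k c p : G} {X P B : Subgroup G}

theorem Ecm (he : e ∈ s.E) (he' : e' ∈ s.E) : e * e' = e' * e := comm_of_ee s.ee he he'
theorem EC (he : e ∈ s.E) (hc : c ∈ s.C) : c * e = e * c :=
  c1.1 ((sup_le (fun _ h => c1.2 (Ecm h he)) fun _ h => c1.2 (s.cm e he _ h) : s.C ≤ Cen1 e) hc)
theorem EC' (he : e ∈ s.E) (hc : c ∈ s.C) : c * e * c⁻¹ = e := by rw [EC he hc]; group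
theorem cC (he : e ∈ s.E) (h1 : e ≠ 1) : c ∈ s.C ↔ c * e = e * c := by rw [C, ← s.cE e he h1, c1]
theorem einv (he : e ∈ s.E) : e⁻¹ = e := inv2 (s.ee e he)
theorem mem_C : c ∈ s.C ↔ ∃ e ∈ s.E, ∃ v ∈ s.U, e * v = c :=
  mem_sup_of_le_normalizer_right (cnor fun e he => cen.2 fun v hv => (s.cm e he v hv).symm)
variable (s)
theorem exE : ∃ e ∈ s.E, e ≠ 1 := by
  by_contra! h; exact s.ne (eq_bot_iff.2 h)
theorem E_C : s.E ≤ s.C := le_sup_left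
theorem U_C : s.U ≤ s.C := le_sup_right
theorem Q_C : s.Q ≤ s.C := s.QU.trans s.U_C
theorem hC (l : Fˣ) : s.h l ∈ s.C := s.U_C (s.hU l)
theorem hD (l : Fˣ) : s.h l ∈ s.D := ⟨s.hC l, s.hN l⟩
theorem E_cen : s.E ≤ Cen s.Q := fun e he => cen.2 fun v hv => (EC he (s.Q_C hv)).symm
theorem twoE : IsPGroup 2 s.E := two_of_pow fun e he => ⟨1, by rw [pow_one, sq, s.ee e he]⟩
theorem C_norE : s.C ≤ Nor s.E := cnor fun c hc => cen.2 fun e he => EC he hc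
theorem C_norU : s.C ≤ Nor s.U := sup_le (cnor fun e he => cen.2 fun v hv => (s.cm e he v hv).symm)
  le_normalizer
theorem E_R0 : s.E ≤ s.R0 := le_sup_left
theorem Q_R0 : s.Q ≤ s.R0 := le_sup_right
theorem E_A : s.E ≤ s.A := le_sup_left
theorem Z_A : s.Z ≤ s.A := le_sup_right
theorem A_R0 : s.A ≤ s.R0 := sup_le_sup_left s.Z_le _
theorem A_cen : s.A ≤ Cen s.Q := sup_le s.E_cen s.Z_cen
theorem R0_CQ : s.R0 ≤ s.CQ := sup_le_sup_right s.E_cen _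
theorem R0_D : s.R0 ≤ s.D := le_inf (sup_le s.E_C s.Q_C) (s.R0_CQ.trans s.CQ_nor)
theorem E_D : s.E ≤ s.D := s.E_R0.trans s.R0_D
theorem Y_D : s.Y ≤ s.D := le_inf (s.YU.trans s.U_C) (cnor s.YQ)
theorem D_R0 : s.D ≤ Nor s.R0 := nsup (inf_le_left.trans s.C_norE) inf_le_right
theorem norZ : Nor s.Q ≤ Nor s.Z := s.spQ.norZ
theorem D_A : s.D ≤ Nor s.A := nsup (inf_le_left.trans s.C_norE) (inf_le_right.trans s.norZ)
theorem twoR0 : IsPGroup 2 s.R0 := by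
  rw [R0, sup_comm]; exact two_sup s.twoQ s.twoE (cnor s.E_cen)
theorem D_C : s.D ≤ s.C := inf_le_left
theorem D_N : s.D ≤ Nor s.Q := inf_le_right
variable {s}
theorem mem_R0 : x ∈ s.R0 ↔ ∃ e ∈ s.E, ∃ v ∈ s.Q, e * v = x :=
  mem_sup_of_le_normalizer_right (cnor s.E_cen)
theorem mem_A : x ∈ s.A ↔ ∃ e ∈ s.E, ∃ b, e * s.zc b = x :=
  (mem_sup_of_le_normalizer_right ((cnor s.E_cen).trans s.norZ)).trans ⟨fun ⟨e, he, _, ⟨b, rfl⟩, h⟩ =>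
    ⟨e, he, b, h⟩, fun ⟨e, he, b, h⟩ => ⟨e, he, _, s.zZ b, h⟩⟩
theorem EQ (he : e ∈ s.E) (h : e ∈ s.Q) : e = 1 := s.EU e he (s.QU h)
theorem iaE (he : e ∈ s.E) : s.ia e = 0 := ia_cen (s.E_cen he)
theorem ezc (he : e ∈ s.E) (b : H.K) : e * s.zc b = s.zc b * e := (EC he (s.Q_C (s.zQ b))).symm
variable (s) in
theorem spR0 : s.Sp s.R0 := ⟨s.Q_R0, s.R0_CQ, fun x hx => by
  obtain ⟨e, he, v, hv, rfl⟩ := mem_R0.1 hx
  rw [ia_cQ (s.E_cen he) (s.Q_le hv), ← sqQ hv, mul_assoc, ← mul_assoc v, EC he (s.Q_C hv), mul_assoc,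
    ← mul_assoc, s.ee e he, one_mul]⟩
theorem memA (h : x ∈ s.R0) (e : s.ia x = 0) : x ∈ s.A := by
  obtain ⟨e, he, v, hv, rfl⟩ := mem_R0.1 h
  rw [ia_cQ (s.E_cen he) (s.Q_le hv)] at e
  exact mul_mem (s.E_A he) (s.Z_A (memZ hv e))
theorem memA' (h : x ∈ s.R0) (e : x * x = 1) : x ∈ s.A := memA h ((s.spR0.ia0 h).2 e)
theorem iaA (h : x ∈ s.A) : s.ia x = 0 := ia_cen (s.A_cen h)
theorem AA (h : x ∈ s.A) : x * x = 1 := (s.spR0.ia0 (s.A_R0 h)).1 (iaA h)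
theorem A_R (h : x ∈ s.A) (hy : y ∈ s.R0) : y * x = x * y := by
  obtain ⟨e, he, b, rfl⟩ := mem_A.1 h
  rw [← mul_assoc, EC he (s.R0_D hy).1, mul_assoc, cZ (s.R0_CQ hy), mul_assoc]
theorem memQ (h : x ∈ s.R0) (hU : x ∈ s.U) : x ∈ s.Q := by
  obtain ⟨e, he, v, hv, rfl⟩ := mem_R0.1 h
  rwa [s.EU e he ((mul_mem_cancel_right (s.QU hv)).1 hU), one_mul]
variable (s)
theorem cardA : Nat.card s.A = Nat.card s.E * 2 ^ H.n := by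
  rw [A, sup_comm, H5.card_sup_of_disjoint ((cnor s.E_cen).trans s.norZ)
    (eq_bot_iff.2 fun x hx => EQ hx.2 (s.Z_le hx.1)), cardZ, mul_comm]
theorem cardR0 : Nat.card s.R0 = Nat.card s.E * (2 ^ H.n) ^ 3 := by
  rw [R0, sup_comm, H5.card_sup_of_disjoint (cnor s.E_cen)
    (eq_bot_iff.2 fun x hx => EQ hx.2 hx.1), cardQ, mul_comm]
theorem two_le : 2 ≤ Nat.card s.E := (Subgroup.one_lt_card_iff_ne_bot _).2 s.ne

/-- the chosen Sylow 2-subgroup of `C` -/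
noncomputable def T : Subgroup G := (H5.exists_isSylowOf_ge s.twoR0 s.R0_D).choose
theorem T_syl : IsSylowOf 2 s.T s.D := (H5.exists_isSylowOf_ge s.twoR0 s.R0_D).choose_spec.1
theorem R0_T : s.R0 ≤ s.T := (H5.exists_isSylowOf_ge s.twoR0 s.R0_D).choose_spec.2
theorem T_D : s.T ≤ s.D := s.T_syl.le
theorem T_C : s.T ≤ s.C := s.T_D.trans inf_le_left
theorem T_N : s.T ≤ Nor s.Q := s.T_D.trans inf_le_right
theorem twoT : IsPGroup 2 s.T := s.T_syl.isPGroup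
theorem E_T : s.E ≤ s.T := s.E_R0.trans s.R0_T
theorem Q_T : s.Q ≤ s.T := s.Q_R0.trans s.R0_T
variable {s}
theorem toT (hX : X ≤ s.C) (h2 : IsPGroup 2 X) : ∃ c ∈ s.C, ∀ x ∈ X, c * x * c⁻¹ ∈ s.T := by
  obtain ⟨c, hc, e⟩ := s.frat X hX h2
  obtain ⟨d, hd, f⟩ := s.T_syl.exists_conj_le (Q := conjS c X) (h2.map _) fun x hx =>
    ⟨mem_of_eq (cmem (le_normalizer hc) (hX (mem_conjS.1 hx))) (by group),
      mem_of_eq (e _ (mem_conjS.1 hx)) (by group)⟩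
  exact ⟨d * c, mul_mem hd.1 hc, fun x hx =>
    mem_of_eq (f (conj_mem_conjS (conj_mem_conjS hx))) (by group)⟩
variable (s) in
theorem T_syl' : IsSylowOf 2 s.T s.C := H5.isSylowOf_of_maximal s.T_C s.twoT fun R h2 h1 h3 => by
  obtain ⟨c, -, e⟩ := toT h3 h2
  refine (eq_of_le_of_card_ge h1 ?_).ge
  rw [← card_conjS c]
  exact card_le_of_le fun x hx => mem_of_eq (e _ (mem_conjS.1 hx)) (by group)
theorem inT (hP : IsPGroup 2 P) (h : s.T ≤ P) (hg : g ∈ P) (hc : g ∈ s.C) : g ∈ s.T :=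
  (s.T_syl'.eq_of_le hP.to_inf_left (le_inf h s.T_C) inf_le_right).le ⟨hg, hc⟩
theorem mem_T (h : x ∈ s.T) : ∃ e ∈ s.E, ∃ v ∈ s.T ⊓ s.U, e * v = x := by
  obtain ⟨e, he, v, hv, rfl⟩ := mem_C.1 (s.T_C h)
  exact ⟨e, he, v, ⟨(mul_mem_cancel_left (s.E_T he)).1 h, hv⟩, rfl⟩

theorem hE (l : Fˣ) (he : e ∈ s.E) : s.h l * e * (s.h l)⁻¹ = e := EC' he (s.hC l)
variable (s) in
theorem kt_h (l : Fˣ) : s.ka (s.h l) = H.mu l ∧ s.th (s.h l) = 1 := uniq (H.mu_ne l) (s.ha l)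
variable (s) in
theorem hz (l : Fˣ) (b : H.K) : s.h l * s.zc b * (s.h l)⁻¹ = s.zc (H.nm (H.mu l) * b) := by
  rw [s.spQ.actZ (s.hN l), (s.kt_h l).1, (s.kt_h l).2]; rfl
theorem zeh (l : Fˣ) (hz : z ∈ s.Z) : s.ze (s.h l * z * (s.h l)⁻¹) = H.nm (H.mu l) * s.ze z := by
  obtain ⟨b, rfl⟩ := hz; rw [s.hz]; simp
theorem iah (l : Fˣ) (hx : x ∈ s.CQ) : s.ia (s.h l * x * (s.h l)⁻¹) = H.mu l * s.ia x := by
  rw [actC (s.hN l) hx, (s.kt_h l).1, (s.kt_h l).2]; rfl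
theorem odd_h (l : Fˣ) : Odd (orderOf (s.h l)) :=
  H.odd_units.of_dvd_nat ((orderOf_map_dvd _ l).trans (orderOf_dvd_natCard l))

theorem hth (hX : s.Sp X) (hg : g ∈ Nor X) (hh : ∀ l, s.h l ∈ Nor X) (l : Fˣ) :
    ∃ l', H.mu l' = s.th g (H.mu l) ∧ ∀ x ∈ X, s.ia (g * s.h l * g⁻¹ * (s.h l')⁻¹ * x *
      (g * s.h l * g⁻¹ * (s.h l')⁻¹)⁻¹) = s.ia x := by
  refine ⟨_, H.mu_th _ l, fun x hx => ?_⟩
  generalize hl : Units.map (s.th g : F →* F) l = l'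
  have e : H.mu l' = s.th g (H.mu l) := hl ▸ H.mu_th _ l
  obtain ⟨y, hy, rfl⟩ : ∃ y ∈ X, x = s.h l' * (g * y * g⁻¹) * (s.h l')⁻¹ :=
    ⟨_, cmem' hg (cmem' (hh l') hx), by group⟩
  rw [iah l' (hX.le' (cmem hg hy)), hX.act hg hy, e, mul_left_comm, ← map_mul, ← iah l (hX.le' hy),
    ← hX.act hg (cmem (hh l) hy)]
  congr 1; group

theorem YR (hy : y ∈ s.Y) (hx : x ∈ s.R0) : y * x = x * y := by
  obtain ⟨e, he, v, hv, rfl⟩ := mem_R0.1 hx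
  rw [← mul_assoc, EC he (s.Y_D hy).1, mul_assoc, cen.1 (s.YQ hy) v hv, mul_assoc]

theorem ker1 (hg : g ∈ s.D) (h : ∀ x ∈ s.Q, s.ia (g * x * g⁻¹) = s.ia x) :
    ∃ r ∈ s.R0, ∃ y ∈ s.Y, g = r * y := by
  obtain ⟨e, he, v, hv, rfl⟩ := mem_C.1 hg.1
  have n := (mul_mem_cancel_left (s.D_N (s.E_D he))).1 (s.D_N hg)
  obtain ⟨x, hx, y, hy, rfl⟩ := s.ker v hv n fun x hx => by
    rw [← h x hx, ← (ia_add.conj (s.cen_le (s.E_cen he)) (s.Q_le (cmem n hx)))]; congr 1; group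
  exact ⟨_, mul_mem (s.E_R0 he) (s.Q_R0 hx), y, hy, (mul_assoc ..).symm⟩

theorem ker2 (hg : g ∈ s.D) {j : ℕ} (e : g ^ 2 ^ j = 1) (h : s.th g = 1) : g ∈ s.R0 := by
  obtain ⟨r, hr, y, hy, rfl⟩ := ker1 hg fun x => s.spQ.tr hg.2 (s.spQ.ka1 hg.2 e h) h
  obtain ⟨i, hi⟩ := exists_pow_pow_of_mem s.twoR0 hr
  have : (r * y) ^ 2 ^ (j + i) = 1 := by rw [pow_add, pow_mul, e, one_pow]
  rw [Commute.mul_pow (YR hy hr).symm, add_comm, pow_add, pow_mul, hi, one_pow, one_mul,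
    ← pow_add] at this
  rwa [eq_one_of_pow_coprime this (s.y3 y hy) (Nat.Coprime.pow_left _ (by norm_num)), mul_one]

theorem kerT (hg : g ∈ s.T) (h : s.th g = 1) : g ∈ s.R0 :=
  (exists_pow_pow_of_mem s.twoT hg).elim fun _ e => ker2 (s.T_D hg) e h

theorem cq (hg : g ∈ s.C) (h : g ∈ Cen s.Q) : ∃ a ∈ s.A, ∃ y ∈ s.Y, g = a * y := by
  obtain ⟨r, hr, y, hy, rfl⟩ := ker1 ⟨hg, mcnor h⟩ fun x hx => by rw [cen.1 h x hx]; simp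
  exact ⟨r, memA hr (ia_cen ((mul_mem_cancel_right (s.YQ hy)).1 h)), y, hy, rfl⟩

theorem zfix {b : H.K} (h : ∀ l, s.h l * s.zc b = s.zc b * s.h l) : b = 0 := by
  obtain ⟨κ, k0, k1⟩ := H.ex2
  obtain ⟨l, e⟩ := H.ex_nu k0
  have := s.hz l b
  rw [h, mul_inv_cancel_right, zc_inj, e] at this
  exact by_contra fun n => k1 (mul_right_cancel₀ n (by rw [← this, one_mul]))

theorem ti (he : e ∈ s.E) (h1 : e ≠ 1) (h : g * e * g⁻¹ ∈ s.E) : g ∈ Nor s.E := by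
  have hc : ∀ c, c ∈ s.C ↔ g⁻¹ * c * g ∈ s.C := fun c => by
    rw [cC h (by simpa using h1), cC he h1, ← cj (g := g⁻¹)]; simp [mul_assoc]
  refine mnor fun x hx => ?_
  have cx : ∀ c ∈ s.C, c * (g * x * g⁻¹) = g * x * g⁻¹ * c := fun c m => by
    rw [← cj (g := g⁻¹)]; simpa [mul_assoc] using EC hx ((hc c).1 m)
  obtain ⟨a, ha, y, hy, e1⟩ := cq ((hc (g * x * g⁻¹)).2 (mem_of_eq (s.E_C hx) (by group)))
    (cen.2 fun v hv => (cx v (s.Q_C hv)).symm)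
  have e2 := W.csq (g := g) (s.ee x hx)
  rw [e1, mul_assoc, ← mul_assoc y, YR hy (s.A_R0 ha), mul_assoc, ← mul_assoc, AA ha, one_mul,
    ← sq] at e2
  rw [eq_one_of_pow_coprime e2 (s.y3 y hy) (by norm_num), mul_one] at e1
  obtain ⟨e', he', b, rfl⟩ := mem_A.1 ha
  rwa [e1, zfix (s := s) (b := b) fun l => mul_left_cancel (a := e') (by
    rw [← mul_assoc, ← EC he' (s.hC l), mul_assoc, ← e1, cx _ (s.hC l), e1, mul_assoc]), zc_zero, mul_one]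

theorem back (hP : IsPGroup 2 P) (h : s.T ≤ P) (hg : g ∈ P) (he : e ∈ s.E) (h1 : e ≠ 1)
    (m : g * e * g⁻¹ ∈ s.E) : g ∈ s.T := by
  obtain ⟨z, hz, z1, -, -, c⟩ := U6.exists_fixed s.twoE (hP.to_le (zpowers_le.2 hg))
    (zpowers_le.2 (ti he h1 m)) s.ne
  exact inT hP h hg ((cC hz z1).2 (cen.1 c g (mem_zpowers g)).symm)

theorem genQ (h : ∀ a, ∃ x ∈ X, x ∈ s.Q ∧ s.ia x = a) : s.Q ≤ X := fun x hx => by
  obtain ⟨y, h1, h2, e⟩ := h (s.ia x)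
  obtain ⟨b, eb⟩ := memZ (mul_mem (inv_mem h2) hx) (by
    rw [ia_add _ (s.Q_le (inv_mem h2)) _ (s.Q_le hx), ia_inv (s.Q_le h2), e, H.aF])
  obtain ⟨a, rfl⟩ := H.ex_nm b
  obtain ⟨w, w1, w2, rfl⟩ := h a
  exact (mul_mem_cancel_left (inv_mem h1)).1 (eb ▸ sqQ w2 ▸ mul_mem w1 w1)

theorem NQ {l : Fˣ} (l1 : H.mu l ≠ 1) (hQ : s.Q ≤ conjS g s.R0) (h1 : g⁻¹ * s.h l * g ∈ s.C)
    (h2 : s.h l ∈ Nor (conjS g s.R0)) : g ∈ Nor s.Q := by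
  have n : g⁻¹ * s.h l * g ∈ Nor s.Q := mnor fun x hx => memQ
    (mem_of_eq (mem_conjS.1 (cmem h2 (conj_mem_conjS (s.Q_R0 hx)))) (by group))
    (cmem (s.C_norU h1) (s.QU hx))
  refine (Nor s.Q).inv_mem_iff.1 (mnor fun x hx => mem_of_eq (mem_conjS.1
    (genQ (X := conjS g s.Q) (fun a => ?_) hx)) (by group))
  obtain ⟨x, hx, e⟩ := s.exQ (a / (1 + H.mu l))
  have m := cmem (s.hN l) (inv_mem hx)
  have : 1 + H.mu l ≠ 0 := fun e => l1 (H.eqF.1 e).symm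
  refine ⟨x * (s.h l * x⁻¹ * (s.h l)⁻¹), mem_conjS.2 ?_, mul_mem hx m, by
    rw [ia_add _ (s.Q_le hx) _ (s.Q_le m), s.ha l _ (inv_mem hx), ia_inv (s.Q_le hx), e]; field_simp⟩
  obtain ⟨e, he, v, hv, f⟩ := mem_R0.1 (mem_conjS.1 (hQ hx))
  refine mem_of_eq (mul_mem hv (cmem n (inv_mem hv))) ?_
  have f1 : x = g * (e * v) * g⁻¹ := by rw [f]; group
  have f2 := EC he (mul_mem (mul_mem (s.Q_C hv) h1) (inv_mem (s.Q_C hv)))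
  generalize hk : g⁻¹ * s.h l * g = k at f2
  rw [show s.h l = g * k * g⁻¹ by rw [← hk]; group, f1]
  calc _ = e * (v * k * v⁻¹ * e⁻¹) * k⁻¹ := by rw [einv he, f2, ← mul_assoc e, s.ee e he]; group
    _ = _ := by group

theorem hA {l : Fˣ} (l1 : H.nm (H.mu l) = 1) (hx : x ∈ s.A) : s.h l * x = x * s.h l := by
  obtain ⟨e, he, b, rfl⟩ := mem_A.1 hx
  rw [← mul_inv_eq_iff_eq_mul, ← conj_mul, hE l he, s.hz, l1, one_mul]

theorem norQ (hg : g ∈ Nor s.R0) : g ∈ Nor s.Q := by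
  obtain ⟨l, l1, l2⟩ := H.ex_l0
  obtain ⟨e, he, e1⟩ := s.exE
  have e0 : conjS g s.R0 = s.R0 := (mem_normalizer_iff_conjS ..).1 hg
  refine NQ (l := l) (fun e => l2 (by rw [e, map_one])) (s.Q_R0.trans e0.ge) ((cC he e1).2 ?_)
    (by rw [e0]; exact s.D_R0 (s.hD l))
  rw [← cj (g := g)]
  simpa [mul_assoc] using hA l1 (memA' (cmem hg (s.E_R0 he)) (W.csq (s.ee e he)))

theorem k2Q (h : ∀ a ∈ s.Q, ∀ b ∈ s.Q, a ∉ B → b ∉ B → a * b ∈ B) (b : H.K) :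
    ∃ r ∈ s.Q ⊓ B, ∃ r' ∈ s.Q ⊓ B, H.bf (s.ia r) (s.ia r') = b := by
  have a := ia_add.mono (inf_le_left.trans s.Q_le : s.Q ⊓ B ≤ _)
  obtain ⟨_, ⟨r, hr, rfl⟩, _, ⟨r', hr', rfl⟩, e⟩ := H.k2 a.img (fun v w hv hw => by
    obtain ⟨x, hx, rfl⟩ := s.exQ v
    obtain ⟨y, hy, rfl⟩ := s.exQ w
    exact ⟨_, ⟨mul_mem hx hy, h x hx y hy (fun m => hv ⟨x, ⟨hx, m⟩, rfl⟩) fun m =>
      hw ⟨y, ⟨hy, m⟩, rfl⟩⟩, ia_add _ (s.Q_le hx) _ (s.Q_le hy)⟩) b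
  exact ⟨r, hr, r', hr', e⟩

theorem cmm (hx : x ∈ s.CQ) (hy : y ∈ s.Q) :
    x * y * x⁻¹ * y⁻¹ = s.zc (H.bf (s.ia x) (s.ia y)) := by rw [cjQ hx hy]; group

theorem k2R (g : G) (h : ∀ a ∈ s.Q, ∀ b ∈ s.Q, g * a * g⁻¹ ∉ B → g * b * g⁻¹ ∉ B →
    g * (a * b) * g⁻¹ ∈ B) (b : H.K) : ∃ r ∈ s.Q, ∃ r' ∈ s.Q, g * r * g⁻¹ ∈ B ∧ g * r' * g⁻¹ ∈ B ∧
      r * r' * r⁻¹ * r'⁻¹ = s.zc b := by
  obtain ⟨r, hr, r', hr', e⟩ := k2Q (B := B.comap (MulAut.conj g).toMonoidHom) h b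
  exact ⟨r, hr.1, r', hr'.1, hr.2, hr'.2, by rw [cmm (s.Q_le hr.1) hr'.1, e]⟩

theorem ab2 (g : G) (h : ∀ a ∈ s.Q, ∀ b ∈ s.Q, g * a * g⁻¹ ∉ B → g * b * g⁻¹ ∉ B →
    g * (a * b) * g⁻¹ ∈ B) (hB : ∀ a ∈ B, ∀ b ∈ B, a * b = b * a) : False := by
  obtain ⟨r, -, r', -, h1, h2, e⟩ := k2R g h 1
  have := hB _ h1 _ h2
  rw [conj_mul, conj_mul, cj] at this
  rw [this, mul_inv_cancel_right, mul_inv_cancel, eq_comm, zc_eq_one] at e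
  exact one_ne_zero e

theorem nofix (hX : s.Sp X) (hg : g ∈ Nor X) (e : s.th g = H.sg)
    (h : ∀ a ∈ s.Q, ∀ b ∈ s.Q, a ∉ B → b ∉ B → a * b ∈ B)
    (f : ∀ x ∈ s.Q ⊓ B, s.ia (g * x * g⁻¹) = s.ia x) : False := by
  obtain ⟨a₀, -, k⟩ := hX.fixl hg e
  obtain ⟨r, hr, r', hr', e⟩ := k2Q h 1
  exact zero_ne_one ((H.bf_ln (k r (hX.le hr.1) (f r hr)) (k r' (hX.le hr'.1) (f r' hr'))).symm.trans e)

theorem cyc (hX : s.Sp X) (hx : x ∈ Nor X) (hy : y ∈ Nor X) (h1 : s.th (x * x) = 1)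
    (h2 : s.th (y * y) = 1) (n1 : s.th x ≠ 1) (n2 : s.th y ≠ 1) : s.th (x * y) = 1 := by
  rw [hX.th_mul hx hy, (hX.two hx h1).resolve_left n1, (hX.two hy h2).resolve_left n2, H.sg_sq]

theorem card_th (hX : X ≤ Nor s.Q) (h : ∀ x ∈ X, s.th x = 1 → x ∈ B) :
    Nat.card X ≤ 2 ^ H.n * Nat.card B := by
  let f := s.spQ.thH.comp (inclusion hX)
  rw [← f.ker.index_mul_card, index_ker]
  refine Nat.mul_le_mul ((card_le_card_group _).trans H.card_aut) ?_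
  rw [← card_map_of_injective X.subtype_injective]
  exact card_le_of_le (by rintro _ ⟨x, hx, rfl⟩; exact h x x.2 hx)

theorem L0 (hX : X ≤ s.T) (h : ∀ x ∈ X, x * x ∈ Cen X) (hc : Nat.card s.R0 ≤ Nat.card X) :
    X = s.R0 := by
  refine eq_of_le_of_card_ge ?_ hc
  have n := hX.trans s.T_N
  have a := ia_add.mono (inf_le_right.trans s.R0_CQ : X ⊓ s.R0 ≤ _)
  by_cases hA : ∀ x ∈ X, s.th (x * x) = 1
  · intro y hy
    by_contra y1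
    have c1 := TW.idx2 (inf_le_right : X ⊓ s.R0 ≤ _) (hc.trans (TW.idx2' inf_le_left
      fun a ha b hb a1 b1 => ⟨mul_mem ha hb, kerT (hX (mul_mem ha hb)) (cyc s.spQ (n ha) (n hb) (hA a ha)
        (hA b hb) (fun e => a1 ⟨ha, kerT (hX ha) e⟩) fun e => b1 ⟨hb, kerT (hX hb) e⟩)⟩))
    have c2 := fun a ha b hb => c1 a (s.Q_R0 ha) b (s.Q_R0 hb)
    obtain ⟨r, hr, r', hr', e⟩ := k2Q c2 1
    refine nofix s.spQ (n hy) ((s.spQ.two (n hy) (hA y hy)).resolve_left fun e => y1 (kerT (hX hy) e))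
      c2 fun x hx => ?_
    have m := mul_mem (cmem (n hy) hx.1) (inv_mem hx.1)
    have f : ∀ r ∈ s.Q ⊓ (X ⊓ s.R0), H.bf (s.ia r) (s.ia (y * x * y⁻¹ * x⁻¹)) = 0 := fun r hr => by
      rw [← s.zc_eq_one, ← cmm (s.Q_le hr.1) m, ← cen.1 (comm_of_sq h hy hx.2.1) r hr.2.1]; group
    obtain ⟨k, ek⟩ := H.of_bf (fun z => by simp [z] at e) (f r hr)
    have := f r' hr'
    rw [ek, H.bf_k, H.bf_comm, e, mul_one] at this
    rw [this, ia_add _ (s.Q_le (cmem (n hy) hx.1)) _ (s.Q_le (inv_mem hx.1)), ia_inv (s.Q_le hx.1)] at ek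
    exact H.eqF.1 (by simpa using ek)
  exfalso
  push Not at hA
  obtain ⟨x, hx, x1⟩ := hA
  obtain ⟨i, hi⟩ := exists_pow_pow_of_mem s.twoT (hX (mul_mem hx hx))
  obtain ⟨j, hj⟩ := H.pow_sg (k := i) (by rw [← s.spQ.th_pow (n (mul_mem hx hx)), hi, th_one]) x1
  rw [← s.spQ.th_pow (n (mul_mem hx hx))] at hj
  obtain ⟨a₀, a0, f⟩ := s.spR0.fixl (s.D_R0 (s.T_D (hX (pow_mem (mul_mem hx hx) _)))) hj
  have lt : a.img < H.ln a₀ := lt_of_le_of_ne (by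
    rintro _ ⟨r, hr, rfl⟩
    exact f r hr.2 (by rw [cen.1 (pow_mem (h x hx) _) r hr.1]; simp)) fun e => x1 (by
      have k : ∀ b, H.nm (s.ka x) * H.rs (s.th x) b = b := fun b => by
        obtain ⟨v, hv, rfl⟩ := H.ex_ln a0 b
        obtain ⟨r, hr, rfl⟩ := e.ge hv
        rw [← s.zc_inj, ← s.spQ.actZ (n hx), ← s.spR0.sq r hr.2, ← cen.1 (h r hr.1) x hx]; group
      have k1 : H.nm (s.ka x) = 1 := by simpa [Subtype.ext_iff] using k 1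
      rw [s.spQ.th_mul (n hx) (n hx)]
      rcases H.of_rs (θ := s.th x) (by simpa [k1] using k) with e | e <;> simp [e, H.sg_sq])
  have c1 := (add_half lt).trans (H.card_ln a₀)
  have c2 := a.card_le (I := a.img) (Y := s.A) (fun x hx => ⟨x, hx, rfl⟩) fun x hx => memA hx.2
  have c3 := card_th (B := X ⊓ s.R0) n fun x hx e => ⟨hx, kerT (hX hx) e⟩
  rw [cardA] at c2
  rw [cardR0] at hc
  have c4 := s.two_le
  have c5 := H.four_le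
  generalize 2 ^ H.n = q at *
  have c6 := (hc.trans c3).trans (Nat.mul_le_mul_left _ c2)
  have c7 : 2 * (Nat.card s.E * q ^ 3) ≤ Nat.card s.E * q ^ 3 := by
    calc _ ≤ q * ((2 * Nat.card a.img) * (Nat.card s.E * q)) := by nlinarith
      _ ≤ q * (q * (Nat.card s.E * q)) := by gcongr
      _ = _ := by ring
  have : 0 < Nat.card s.E * q ^ 3 := by positivity
  omega

theorem toT' (he : e ∈ s.E) (e1 : e ≠ 1) (hX : X ≤ Cen1 (g * e * g⁻¹)) (h2 : IsPGroup 2 X) :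
    ∃ k, k * e * k⁻¹ = g * e * g⁻¹ ∧ ∀ x ∈ X, k⁻¹ * x * k ∈ s.T := by
  obtain ⟨c, hc, f⟩ := toT (X := conjS g⁻¹ X) (fun x hx => (cC he e1).2 (by
    have := c1.1 (hX (mem_conjS.1 hx))
    rwa [inv_inv, cjc] at this)) (h2.map _)
  exact ⟨g * c⁻¹, by rw [mul_assoc g, EC he (inv_mem hc)]; group, fun x hx =>
    mem_of_eq (f _ (conj_mem_conjS hx)) (by group)⟩

theorem NI (he : e ∈ s.E) (e1 : e ≠ 1) (hX : X ≤ Cen1 (g * e * g⁻¹)) (h2 : IsPGroup 2 X)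
    (h : ∀ x ∈ X, x * x ∈ Cen X) (hc : Nat.card s.R0 ≤ Nat.card X) :
    ∃ k, k * e * k⁻¹ = g * e * g⁻¹ ∧ X = conjS k s.R0 := by
  obtain ⟨k, e2, f⟩ := toT' he e1 hX h2
  refine ⟨k, e2, ?_⟩
  rw [← L0 (X := conjS k⁻¹ X) (fun x hx => mem_of_eq (f _ (mem_conjS.1 hx)) (by group))
    (fun x hx => cen.2 fun y hy => ?_) (by rwa [card_conjS]), conjS_conjS_inv]
  have := cen.1 (h _ (mem_conjS.1 hx)) _ (mem_conjS.1 hy)
  rwa [inv_inv, conj_mul, cjc] at this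

theorem NI2 (hy : s.Cls y) (hX : X ≤ Cen1 y) (h2 : IsPGroup 2 X) (h : ∀ x ∈ X, x * x ∈ Cen X)
    (hc : Nat.card s.R0 ≤ Nat.card X) :
    Nat.card X = Nat.card s.R0 ∧ ∀ x ∈ X, x * x = 1 → ∀ x' ∈ X, x * x' = x' * x := by
  obtain ⟨g, e, he, e1, rfl⟩ := hy
  obtain ⟨k, -, rfl⟩ := NI he e1 hX h2 h hc
  refine ⟨card_conjS .., fun x hx xx x' hx' => ?_⟩
  exact cjc'.1 (A_R (memA' (mem_conjS.1 hx) (csq' xx)) (mem_conjS.1 hx')).symm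

theorem sqR (hx : x ∈ s.R0) : x * x ∈ Cen s.R0 :=
  cen.2 fun y hy => by rw [s.spR0.sq x hx, cZ (s.R0_CQ hy)]

theorem noZ (hy : s.Cls y) : y ∉ s.Z := fun hz => by
  obtain ⟨g, e, he, e1, rfl⟩ := hy
  obtain ⟨k, e2, f⟩ := NI he e1 (X := s.R0) (fun x hx => c1.2 (cZ' (s.R0_CQ hx) hz)) s.twoR0
    (fun _ => sqR) le_rfl
  refine e1 (EQ he (s.Z_le (mem_of_eq (cmem' (s.spR0.norZ ((mem_normalizer_iff_conjS ..).2 f.symm))
    (e2 ▸ hz)) (by group))))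

theorem Cls.sq (hy : s.Cls y) : y * y = 1 := by
  obtain ⟨g, e, he, -, rfl⟩ := hy; exact W.csq (s.ee e he)
theorem Cls.conj (hy : s.Cls y) (g : G) : s.Cls (g * y * g⁻¹) := by
  obtain ⟨k, e, he, e1, rfl⟩ := hy; exact ⟨g * k, e, he, e1, by group⟩
theorem cls (he : e ∈ s.E) (e1 : e ≠ 1) (g : G) : s.Cls (g * e * g⁻¹) := ⟨g, e, he, e1, rfl⟩

theorem EA (hy : s.Cls y) (hB : B ≤ Cen1 y) (h : ∀ b ∈ B, b * b = 1) :
    Nat.card B ≤ 2 * (Nat.card s.E * 2 ^ H.n) := by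
  obtain ⟨g, e, he, e1, rfl⟩ := hy
  obtain ⟨k, -, f⟩ := toT' he e1 hB (two_of_pow fun b hb => ⟨1, by rw [pow_one, _root_.sq, h b hb]⟩)
  have sq : ∀ b ∈ B, k⁻¹ * b * k * (k⁻¹ * b * k) = 1 := fun b hb => csq' (h b hb)
  refine (TW.idx2' (M := B ⊓ conjS k s.A) inf_le_left fun a ha b hb a1 b1 => ⟨mul_mem ha hb,
    mem_conjS.2 (memA' (kerT (f _ (mul_mem ha hb)) ?_) (sq _ (mul_mem ha hb)))⟩).trans
      (Nat.mul_le_mul_left _ ((card_le_of_le inf_le_right).trans (by rw [card_conjS, cardA])))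
  rw [show k⁻¹ * (a * b) * k = k⁻¹ * a * k * (k⁻¹ * b * k) by group]
  exact cyc s.spQ (s.T_N (f a ha)) (s.T_N (f b hb)) (by simp [sq a ha]) (by simp [sq b hb])
    (fun e => a1 ⟨ha, mem_conjS.2 (memA' (kerT (f a ha) e) (sq a ha))⟩)
    fun e => b1 ⟨hb, mem_conjS.2 (memA' (kerT (f b hb) e) (sq b hb))⟩

theorem inA (hx : x ∈ s.T) (xx : x * x = 1) (h : ∀ a ∈ s.Q, ∀ b ∈ s.Q, a ∉ B → b ∉ B → a * b ∈ B)
    (f : ∀ v ∈ s.Q ⊓ B, s.ia (x * v * x⁻¹) = s.ia v) : x ∈ s.A :=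
  memA' (kerT hx ((s.spQ.two (s.T_N hx) (by simp [xx])).resolve_right fun e =>
    nofix s.spQ (s.T_N hx) e h f)) xx

theorem sgt (hX : s.Sp X) (h : ∀ r ∈ s.Q, g * r * g⁻¹ ∈ Nor X) (hx : x ∈ s.R0) :
    s.th (g * x * g⁻¹ * (g * x * g⁻¹)) = 1 := by
  obtain ⟨r, hr, r', hr', -, -, e⟩ := k2R (s := s) (B := ⊤) 1 (by simp) (H.nm (s.ia x))
  rw [conj_mul, s.spR0.sq x hx, ← e, ← hX.th_cm (h r hr) (h r' hr')]
  congr 1; group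

theorem AB2 {R : Subgroup G} (hX : s.Sp X) (he : e ∈ s.E) (hP : P ≤ Nor X)
    (h : ∀ r ∈ s.R0, g * r * g⁻¹ ∈ P) (h1 : s.th (g * e * g⁻¹) ≠ 1)
    (hR : ∀ a ∈ P, ∀ b ∈ P, s.th a = 1 → s.th b = 1 → a ∉ R → b ∉ R → a * b ∈ R)
    (ab : ∀ a ∈ R ⊓ Cen1 (g * e * g⁻¹), ∀ b ∈ R ⊓ Cen1 (g * e * g⁻¹), a * b = b * a) : False := by
  have yy := W.csq (g := g) (s.ee e he)
  have cy : ∀ r ∈ s.R0, g * r * g⁻¹ ∈ Cen1 (g * e * g⁻¹) := fun r hr =>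
    c1.2 (by rw [conj_mul, conj_mul, EC he (s.R0_D hr).1])
  have yP := h e (s.E_R0 he)
  have sg := fun r hr => sgt (x := r) hX (fun r hr => hP (h r (s.Q_R0 hr))) hr
  have ey := sg e (s.E_R0 he)
  generalize g * e * g⁻¹ = y at *
  have mB := fun x => TW.mem_sup_zp' (M := R ⊓ Cen1 y) (x := x) (yy ▸ one_mem _)
    (mcnor (cen.2 fun x hx => (c1.1 hx.2).symm))
  have cc : y ∈ Cen1 y := c1.2 rfl
  refine ab2 (s := s) (B := R ⊓ Cen1 y ⊔ zpowers y) g (fun a ha b hb a1 b1 => ?_)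
    fun a ha b hb => ?_
  · have k : ∀ a ∈ s.R0, g * a * g⁻¹ ∉ R ⊓ Cen1 y ⊔ zpowers y → ∃ a' ∈ P ⊓ Cen1 y, s.th a' = 1 ∧
        a' ∉ R ∧ a'⁻¹ * (g * a * g⁻¹) ∈ zpowers y := fun a ha a1 => by
      rw [mB, not_or] at a1
      by_cases t1 : s.th (g * a * g⁻¹) = 1
      · exact ⟨_, ⟨h a ha, cy a ha⟩, t1, fun m => a1.1 ⟨m, cy a ha⟩,
          mem_of_eq (one_mem _) (by group)⟩
      · exact ⟨_, ⟨mul_mem (h a ha) yP, mul_mem (cy a ha) cc⟩, cyc hX (hP (h a ha)) (hP yP) (sg a ha)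
          ey t1 h1, fun m => a1.2 ⟨m, mul_mem (cy a ha) cc⟩,
          mem_of_eq (inv_mem (mem_zpowers y)) (by group)⟩
    obtain ⟨a', m1, m2, m3, m4⟩ := k a (s.Q_R0 ha) a1
    obtain ⟨b', n1, n2, n3, n4⟩ := k b (s.Q_R0 hb) b1
    refine mem_of_eq (mul_mem (mul_mem (mem_sup_left ⟨hR a' m1.1 b' n1.1 m2 n2 m3 n3,
      mul_mem m1.2 n1.2⟩) (mem_sup_right (cmem' (mzp n1.2) m4))) (mem_sup_right n4)) (by group)
  have k : ∀ a ∈ R ⊓ Cen1 y ⊔ zpowers y, R ⊓ Cen1 y ≤ Cen1 a ∧ y ∈ Cen1 a := fun a ha => by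
    refine (sup_le (fun a ha => ⟨cen.2 fun b hb => ab a ha b hb, ha.2⟩) (zpowers_le.2 ⟨cen.2
      fun b hb => (c1.1 hb.2).symm, cc⟩) : _ ≤ Cen (R ⊓ Cen1 y) ⊓ Cen1 y) ha |>.imp cen_iff_le.1 c1s.1
  exact c1.1 (sup_le (k b hb).1 (zpowers_le.2 (k b hb).2) ha)

end Hy

end EU
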