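import Cfsg.Agent.EU.E

/-! The basic extension step. -/

set_option autoImplicit false
set_option linter.unusedSectionVars false
set_option linter.unusedVariables false

namespace EU

open Cfsg Subgroup FT H4 GW H2 Qd
open H5 (IsSylowOf mem_of_eq)

theorem AddOn.mul {G A : Type*} [Group G] [AddCommGroup A] {X : Subgroup G} {f : G → A}
    (h : AddOn X f) {a b : G} (ha : a ∈ X) (hb : b ∈ X) : f (a * b) = f a + f b := h a ha b hb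

theorem AddOn.div {G A : Type*} [Group G] [AddCommGroup A] {X : Subgroup G} {f : G → A}
    (h : AddOn X f) {a b : G} (ha : a ∈ X) (hb : b ∈ X) (e : f a = f b) : f (a⁻¹ * b) = 0 := by
  rw [h.mul (inv_mem ha) hb, h.inv ha, e, neg_add_cancel]

/-- the commutator with `e`, read through `ℓ` -/
def om {G A : Type*} [Group G] (ℓ : G → A) (e k : G) : A := ℓ (k * e * k⁻¹ * e)

theorem ab6 {X : Type*} [Group X] {K : Subgroup X} (h6 : ∀ x ∈ K, x ^ 6 = 1)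
    (h2 : ∀ x ∈ K, ∀ y ∈ K, Commute (x * x) y) {x y : X} (hx : x ∈ K) (hy : y ∈ K) :
    Commute x y := by
  have k : ∀ a ∈ K, ∀ b ∈ K, a * a = 1 → b * b = 1 → Commute a b := fun a ha b hb aa bb => by
    have e1 := h6 _ (mul_mem ha hb)
    have e2 : a * b * (a * b) * (a * b * (a * b)) = 1 := by
      nth_rewrite 1 [← mul_one (a * b * (a * b)), ← aa, ← mul_assoc (a * b * (a * b)),
        (h2 _ (mul_mem ha hb) a ha).eq]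
      simp only [mul_assoc, ← mul_assoc a a, ← mul_assoc b b, aa, bb, one_mul]
    rw [show (a * b) ^ 6 = a * b * (a * b) * (a * b * (a * b)) * (a * b * (a * b)) by
      simp only [pow_succ, pow_zero, one_mul, mul_assoc], e2, one_mul] at e1
    exact (inv2 e1).symm.trans (by rw [mul_inv_rev, inv2 aa, inv2 bb])
  have f : ∀ x : X, x = x ^ 3 * (x * x)⁻¹ := fun x => by group
  have g : ∀ x ∈ K, x ^ 3 * x ^ 3 = 1 := fun x hx => by rw [← pow_add, h6 x hx]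
  rw [f x, f y]
  exact ((k _ (pow_mem hx 3) _ (pow_mem hy 3) (g x hx) (g y hy)).mul_right
    (h2 y hy _ (pow_mem hx 3)).symm.inv_right).mul_left
    (h2 x hx _ (mul_mem (pow_mem hy 3) (inv_mem (mul_mem hy hy)))).inv_left

namespace Hy

variable {G : Type*} [Group G] [Finite G] {F : Type*} [Field F] [Fintype F] {H : Hq F} {s : Hy G H}
  {e e' g x y z k c p w : G} {X P B W K N : Subgroup G}

variable (s) in
/-- elements centralizing `E` modulo `W` -/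
def KE (N W : Subgroup G) : Subgroup G where
  carrier := {k | k ∈ N ⊓ Nor W ∧ ∀ e ∈ s.E, k * e * k⁻¹ * e ∈ W}
  one_mem' := ⟨one_mem _, fun e he => by simp [s.ee e he]⟩
  mul_mem' := fun {a b} ha hb => ⟨mul_mem ha.1 hb.1, fun e he => mem_of_eq (mul_mem
    (cmem ha.1.2 (hb.2 e he)) (ha.2 e he)) (by nth_rewrite 2 [← einv he]; group)⟩
  inv_mem' := fun {a} ha => ⟨inv_mem ha.1, fun e he => mem_of_eq (cmem' ha.1.2
    (inv_mem (ha.2 e he))) (by simp only [mul_inv_rev, einv he]; group)⟩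

theorem nor_KE (hc : g ∈ s.C) (h1 : g ∈ Nor N) (h2 : g ∈ Nor W) : g ∈ Nor (s.KE N W) :=
  mnor fun k hk => ⟨cmem (minf h1 (le_normalizer h2)) hk.1, fun e he => mem_of_eq (cmem h2 (hk.2 e he))
    (by rw [← conj_mul, ← conj_mul, ← conj_mul, EC' he hc]; group)⟩

variable (s) in
/-- output of the extension step -/
structure Co {A : Type*} [Field A] (W K V : Subgroup G) (ℓ : G → A) : Prop where
  le : W ≤ V
  le' : V ≤ K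
  add : ∀ e ∈ s.E, AddOn K (om ℓ e)
  cm : ∀ k ∈ K, ∀ k' ∈ K, k * k' * k⁻¹ * k'⁻¹ ∈ W
  sq : ∀ k ∈ V, k * k ∈ W
  z0 : ∀ e ∈ s.E, ∀ k ∈ W, om ℓ e k = 0
  ker : ∀ e ∈ s.E, e ≠ 1 → ∀ k ∈ V, om ℓ e k = 0 → k ∈ W
  sur : ∀ e ∈ s.E, e ≠ 1 → ∀ a, ∃ k ∈ V, om ℓ e k = a
  nor : ∀ g ∈ Nor W, g ∈ Nor K → (∀ l, ∃ l' c, g * s.h l * g⁻¹ = c * s.h l' ∧
    ∀ k ∈ K, c * k * c⁻¹ * k⁻¹ ∈ W) → g ∈ Nor V

theorem core {A : Type*} [Field A] (h2 : (2 : A) = 0) {ℓ : G → A} {ν : Fˣ → A} (aℓ : AddOn W ℓ)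
    (WK : W ≤ K) (EK : s.E ≤ K) (YK : s.Y ≤ K) (KN : K ≤ Nor W)
    (kE : ∀ k ∈ K, ∀ e ∈ s.E, k * e * k⁻¹ * e ∈ W) (iv : ∀ k ∈ K, ∀ w ∈ W, ℓ (k * w * k⁻¹) = ℓ w)
    (ker : ∀ e ∈ s.E, e ≠ 1 → ∀ k ∈ K, om ℓ e k = 0 →
      ∃ w ∈ W, ∃ e ∈ s.E, ∃ y ∈ s.Y, k = w * (e * y))
    (hW : ∀ l, s.h l ∈ Nor W) (hK : ∀ l, s.h l ∈ Nor K)
    (hℓ : ∀ l, ∀ w ∈ W, ℓ (s.h l * w * (s.h l)⁻¹) = ν l * ℓ w)
    (irr : ∀ I : AddSubgroup A, (∀ l, ∀ a ∈ I, ν l * a ∈ I) → ∀ a ∈ I, a ≠ 0 → ∀ v, v ∈ I)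
    {l₁ : Fˣ} (ν1 : ν l₁ ≠ 1) (inp : ∃ k ∈ K, ∃ e ∈ s.E, om ℓ e k ≠ 0) :
    ∃ V, s.Co W K V ℓ := by
  have ad : ∀ e ∈ s.E, AddOn K (om ℓ e) := fun e he a ha b hb => by
    simp only [om]
    rw [← iv a ha _ (kE b hb e he), add_comm, ← aℓ _ (cmem (KN ha) (kE b hb e he)) _ (kE a ha e he)]
    congr 1; nth_rewrite 4 [← einv he]; group
  have z0 : ∀ e ∈ s.E, ∀ k ∈ W, om ℓ e k = 0 := fun e he k hk => by
    rw [om, show k * e * k⁻¹ * e = k * (e * k⁻¹ * e⁻¹) by rw [einv he]; group, aℓ _ hk _ (cmem (KN (EK he))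
      (inv_mem hk)), iv e (EK he) _ (inv_mem hk), aℓ.inv hk, add_neg_cancel]
  have eyC : ∀ e ∈ s.E, ∀ y ∈ s.Y, e * y ∈ s.C := fun e he y hy =>
    mul_mem (s.E_C he) (s.D_C (s.Y_D hy))
  have b0 : ∀ e ∈ s.E, ∀ w ∈ W, ∀ e' ∈ s.E, ∀ y ∈ s.Y,
      om ℓ e (w * (e' * y)) = 0 := fun e he w hw e' he' y hy => by
    rw [← z0 e he w hw, om, om, mul_assoc w, EC he (eyC e' he' y hy)]; congr 2; group
  have oh : ∀ e ∈ s.E, ∀ l, ∀ k ∈ K, om ℓ e (s.h l * k * (s.h l)⁻¹) =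
      ν l * om ℓ e k := fun e he l k hk => by
    rw [om, om, ← hℓ l _ (kE k hk e he), ← conj_mul, ← conj_mul, ← conj_mul, hE l he]; congr 2; group
  have su : ∀ e ∈ s.E, e ≠ 1 → ∀ a, ∃ k ∈ K, om ℓ e k = a := fun e he e1 a => by
    obtain ⟨k, hk, e₀, h₀, n⟩ := inp
    refine irr (ad e he).img ?_ _ ⟨k, hk, rfl⟩ (fun z => ?_) a
    · rintro l _ ⟨k, hk, rfl⟩; exact ⟨_, cmem (hK l) hk, oh e he l k hk⟩
    · obtain ⟨w, hw, e', he', y, hy, rfl⟩ := ker e he e1 k hk z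
      exact n (b0 e₀ h₀ w hw e' he' y hy)
  have n1 : 1 + ν l₁ ≠ 0 := fun e => ν1 (by grind)
  have od : ∀ e ∈ s.E, ∀ k ∈ K, om ℓ e (k * (s.h l₁ * k⁻¹ * (s.h l₁)⁻¹)) = (1 + ν l₁) * om ℓ e k :=
      fun e he k hk => by
    rw [ad e he _ hk _ (cmem (hK l₁) (inv_mem hk)), oh e he l₁ _ (inv_mem hk), (ad e he).inv hk]; grind
  obtain ⟨X, _, _, π, -, hπ⟩ := exists_quo (le_refl (Nor W))
  let κ : K →* X := π.comp (inclusion KN)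
  let η : Fˣ →* X := π.comp (s.h.codRestrict _ hW)
  have κ1 : ∀ k : K, κ k = 1 ↔ (k : G) ∈ W := fun k => H5.map_eq_one_iff_of_ker hπ
  have κh : ∀ l (k : K), κ ⟨_, cmem (hK l) k.2⟩ = η l * κ k * (η l)⁻¹ := fun l k => by
    simp only [κ, η, MonoidHom.comp_apply, ← map_inv π, ← map_mul]; rfl
  have κb : ∀ (k : K), ∀ w ∈ W, ∀ e (he : e ∈ s.E) y (hy : y ∈ s.Y), (k : G) = w * (e * y) →
      κ k = κ ⟨e * y, mul_mem (EK he) (YK hy)⟩ := fun k w hw e he y hy f => by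
    rw [← mul_inv_eq_one, ← map_inv, ← map_mul, κ1]
    exact mem_of_eq hw (eq_mul_inv_of_mul_eq f.symm)
  have hey : ∀ l, ∀ e ∈ s.E, ∀ y ∈ s.Y, s.h l * (e * y) * (s.h l)⁻¹ = e * y := fun l e he y hy => by
    rw [← conj_mul, hE l he, ← s.Yh y hy, mul_inv_cancel_right]
  obtain ⟨e₁, h₁, n₁⟩ := s.exE
  let B := (ad e₁ h₁).ker
  have c1 : ∀ l (b : K), (b : G) ∈ B → Commute (η l) (κ b) := fun l b hb => by
    obtain ⟨w, hw, e, he, y, hy, f⟩ := ker e₁ h₁ n₁ b b.2 hb.2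
    rw [κb b w hw e he y hy f, Commute, SemiconjBy, ← mul_inv_eq_iff_eq_mul, ← κh]
    congr 1; exact Subtype.ext (hey l e he y hy)
  have c2 : ∀ b b' : K, (b : G) ∈ B → (b' : G) ∈ B → Commute (κ b) (κ b') := fun b b' hb hb' => by
    obtain ⟨w, hw, e, he, y, hy, f⟩ := ker e₁ h₁ n₁ b b.2 hb.2
    obtain ⟨w', hw', e', he', y', hy', f'⟩ := ker e₁ h₁ n₁ b' b'.2 hb'.2
    rw [κb b w hw e he y hy f, κb b' w' hw' e' he' y' hy' f']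
    refine Commute.map (Subtype.ext ?_) κ
    change e * y * (e' * y') = e' * y' * (e * y)
    rw [← mul_assoc, EC he' (eyC e he y hy), ← mul_assoc (e' * y'), EC he (eyC e' he' y' hy')]
    simp only [mul_assoc]
    rw [s.YY y hy y' hy', ← mul_assoc, Ecm he' he, mul_assoc]
  have c3 : ∀ k b : K, (b : G) ∈ B → Commute (κ k) (κ b) := fun k b hb => by
    obtain ⟨k', hk', f⟩ := su e₁ h₁ n₁ (om ℓ e₁ k / (1 + ν l₁))
    have m := mul_mem hk' (cmem (hK l₁) (inv_mem hk'))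
    have f1 := c2 (⟨_, m⟩⁻¹ * k) b ⟨mul_mem (inv_mem m) k.2,
      (ad e₁ h₁).div m k.2 (by rw [od e₁ h₁ k' hk', f, mul_div_cancel₀ _ n1])⟩ hb
    have f2 := c1 l₁ (⟨k', hk'⟩⁻¹ * b * ⟨k', hk'⟩) ⟨mul_mem (mul_mem (inv_mem hk') b.2) hk',
      ((by simpa using (ad e₁ h₁).conj (inv_mem hk') b.2 :
        om ℓ e₁ (k'⁻¹ * b * k') = _)).trans hb.2⟩
    rw [← mul_inv_cancel_left ⟨_, m⟩ k, map_mul]
    refine Commute.mul_left ?_ f1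
    rw [show (⟨_, m⟩ : K) = ⟨k', hk'⟩ * ⟨_, cmem (hK l₁) (⟨k', hk'⟩⁻¹ : K).2⟩ from rfl, map_mul, κh,
      map_inv, ← mul_assoc, ← mul_assoc]
    refine Commute.mul_left ?_ (c1 l₁ b hb).inv_left
    simp only [map_mul, map_inv] at f2
    exact (cjc' (g := κ ⟨k', hk'⟩)).1 (by simpa [mul_assoc] using f2.eq)
  have sB : ∀ k ∈ K, k * k ∈ B := fun k hk => ⟨mul_mem hk hk, by
    rw [ad e₁ h₁ k hk k hk, ← two_mul, h2, zero_mul]⟩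
  have ey3 : ∀ e ∈ s.E, ∀ y ∈ s.Y, (e * y) ^ 3 = e := fun e he y hy => by
    rw [Commute.mul_pow (EC he (s.D_C (s.Y_D hy))).symm, s.y3 y hy, mul_one, pow_succ, sq, s.ee e he,
      one_mul]
  have c4 : ∀ k : K, κ k ^ 6 = 1 := fun k => by
    obtain ⟨w, hw, e, he, y, hy, f⟩ := ker e₁ h₁ n₁ _ (sB k k.2).1 (sB k k.2).2
    have f1 : κ k ^ 6 = κ ⟨e, EK he⟩ := by
      rw [show 6 = 2 * 3 from rfl, pow_mul, sq, ← map_mul, κb (k * k) w hw e he y hy f, ← map_pow]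
      congr 1; exact Subtype.ext (ey3 e he y hy)
    by_cases e1 : e = 1
    · rw [f1, κ1]; simp [e1]
    have m : (k : G) ^ 6 * e⁻¹ ∈ W := (κ1 (k ^ 6 * ⟨e, EK he⟩⁻¹)).1 (by
      rw [map_mul, map_pow, map_inv, f1, mul_inv_cancel])
    obtain ⟨w, hw, e', he', y, hy, f⟩ := ker e he e1 k k.2 (by
      rw [om, show k * e * (k : G)⁻¹ * e = k * ((k : G) ^ 6 * e⁻¹)⁻¹ * (k : G)⁻¹ * ((k : G) ^ 6 * e⁻¹) by
        nth_rewrite 2 [← einv he]; group, aℓ _ (cmem (KN k.2) (inv_mem m)) _ m, iv k k.2 _ (inv_mem m),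
        aℓ.inv m, neg_add_cancel])
    rw [κb k w hw e' he' y hy f, ← map_pow, ← map_one κ]
    congr 1; refine Subtype.ext ?_
    change (e' * y) ^ (3 * 2) = 1
    rw [pow_mul, ey3 e' he' y hy, sq, s.ee e' he']
  have c5 : ∀ k k' : K, Commute (κ k) (κ k') := fun k k' => ab6 (K := κ.range)
    (by rintro _ ⟨k, rfl⟩; exact c4 k) (by
      rintro _ ⟨k, rfl⟩ _ ⟨k', rfl⟩
      exact map_mul κ k k ▸ (c3 k' (k * k) (sB k k.2)).symm) ⟨k, rfl⟩ ⟨k', rfl⟩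
  let δ : K →* X := MonoidHom.mk' (fun k => κ k * κ ⟨_, cmem (hK l₁) k⁻¹.2⟩) fun a b => by
    have e1 := (c5 ⟨_, cmem (hK l₁) a⁻¹.2⟩ (b * ⟨_, cmem (hK l₁) b⁻¹.2⟩)).eq
    rw [map_mul] at e1
    rw [mul_assoc (κ a), e1, κh, κh, κh]
    simp only [map_mul, map_inv]; group
  let V := (δ.range.comap κ).map K.subtype
  have mV : ∀ k, k ∈ V ↔ ∃ k' ∈ K, ∃ w ∈ W, k = k' * (s.h l₁ * k'⁻¹ * (s.h l₁)⁻¹) * w := fun k => by
    constructor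
    · rintro ⟨k, ⟨k', f⟩, rfl⟩
      refine ⟨k', k'.2, _, (κ1 ((k' * ⟨_, cmem (hK l₁) k'⁻¹.2⟩)⁻¹ * k)).1 ?_,
        (mul_inv_cancel_left _ _).symm⟩
      rw [map_mul, map_inv, map_mul, inv_mul_eq_one]; exact f
    · rintro ⟨k', hk', w, hw, rfl⟩
      refine ⟨⟨k', hk'⟩ * ⟨_, cmem (hK l₁) (⟨k', hk'⟩⁻¹ : K).2⟩ * ⟨w, WK hw⟩, ⟨⟨k', hk'⟩, ?_⟩, rfl⟩
      rw [map_mul, (κ1 ⟨w, _⟩).2 hw, mul_one, map_mul]; rfl
  have VK : V ≤ K := map_subtype_le _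
  have WV : W ≤ V := fun w hw => (mV w).2 ⟨1, one_mem _, w, hw, by simp⟩
  have kV : ∀ e ∈ s.E, e ≠ 1 → ∀ k ∈ V, om ℓ e k = 0 → k ∈ W := fun e he e1 k hk f => by
    obtain ⟨k', hk', w, hw, rfl⟩ := (mV k).1 hk
    rw [ad e he _ (mul_mem hk' (cmem (hK l₁) (inv_mem hk'))) _ (WK hw), z0 e he w hw, add_zero, od e he k' hk', mul_eq_zero] at f
    obtain ⟨w', hw', e', he', y, hy, rfl⟩ := ker e he e1 k' hk' (f.resolve_left n1)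
    refine mul_mem (mem_of_eq (mul_mem hw' (cmem (hW l₁) (inv_mem hw'))) ?_) hw
    rw [mul_inv_rev, ← conj_mul, conj_inv.symm, conj_inv.symm, hey l₁ e' he' y hy]; group
  have sV : ∀ e ∈ s.E, e ≠ 1 → ∀ a, ∃ k ∈ V, om ℓ e k = a := fun e he e1 a => by
    obtain ⟨k, hk, f⟩ := su e he e1 (a / (1 + ν l₁))
    exact ⟨_, (mV _).2 ⟨k, hk, 1, one_mem _, (mul_one _).symm⟩, by
      rw [od e he k hk, f, mul_div_cancel₀ _ n1]⟩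
  have hV : ∀ l, s.h l ∈ Nor V := fun l => mnor fun k hk => by
    obtain ⟨k', hk', w, hw, rfl⟩ := (mV k).1 hk
    refine (mV _).2 ⟨_, cmem (hK l) hk', _, cmem (hW l) hw, ?_⟩
    have : s.h l₁ = s.h l * s.h l₁ * (s.h l)⁻¹ := by rw [← map_mul, mul_comm, map_mul]; group
    conv_rhs => rw [this]
    group
  refine ⟨V, WV, VK, ad, fun k hk k' hk' => (κ1 (⟨k, hk⟩ * ⟨k', hk'⟩ * ⟨k, hk⟩⁻¹ * ⟨k', hk'⟩⁻¹)).1 ?_,
    fun k hk => kV e₁ h₁ n₁ _ (mul_mem hk hk) (sB k (VK hk)).2, z0, kV, sV,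
    fun g g1 g2 f => mnor fun k hk => ?_⟩
  · simp only [map_mul, map_inv, (c5 _ ⟨k', hk'⟩).eq]; group
  obtain ⟨k', hk', w, hw, rfl⟩ := (mV k).1 hk
  obtain ⟨l, c, f1, f2⟩ := f l₁
  have m := cmem g2 hk'
  have m' := cmem (hK l) (inv_mem m)
  have e3 : g * (k' * (s.h l₁ * k'⁻¹ * (s.h l₁)⁻¹) * w) * g⁻¹ = g * k' * g⁻¹ * (g * s.h l₁ * g⁻¹ *
    (g * k' * g⁻¹)⁻¹ * (g * s.h l₁ * g⁻¹)⁻¹) * (g * w * g⁻¹) := by group
  rw [e3, f1]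
  generalize g * k' * g⁻¹ = k at m m'
  refine mul_mem (mem_of_eq (mul_mem (WV (cmem (KN m) (f2 _ m')))
    (show k * (s.h l * k⁻¹ * (s.h l)⁻¹) ∈ V from ?_)) (by group)) (WV (cmem g1 hw))
  obtain ⟨v, hv, f⟩ := sV e₁ h₁ n₁ (om ℓ e₁ k)
  obtain ⟨w, hw, e, he, y, hy, f3⟩ := ker e₁ h₁ n₁ _ (mul_mem (inv_mem (VK hv)) m)
    ((ad e₁ h₁).div (VK hv) m f)
  have mv := mul_mem hv (WV hw)
  refine mem_of_eq (mul_mem mv (cmem (hV l) (inv_mem mv))) ?_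
  rw [show k = v * w * (e * y) by rw [mul_assoc, ← f3]; group, mul_inv_rev _ (e * y), ← conj_mul,

    ← conj_inv, ← conj_inv, hey l e he y hy]
  group

theorem hD' (hg : g ∈ s.D) (l : Fˣ) : ∃ l', ∃ e ∈ s.E, ∃ v ∈ s.Q, ∃ y ∈ s.Y,
    g * s.h l * g⁻¹ = e * v * y * s.h l' := by
  obtain ⟨l', -, f⟩ := hth s.spQ (s.D_N hg) s.hN l
  obtain ⟨r, hr, y, hy, e1⟩ := ker1 (mul_mem (cmem (le_normalizer hg) (s.hD l)) (inv_mem (s.hD l'))) f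
  obtain ⟨e, he, v, hv, rfl⟩ := mem_R0.1 hr
  exact ⟨l', e, he, v, hv, y, hy, eq_mul_of_mul_inv_eq e1⟩

theorem CQ_Z : s.CQ ≤ Cen s.Z := fun g hg => cen.2 fun _ => cZ' hg

theorem cadd (hX : X ≤ Cen s.Z) (h : ∀ x ∈ X, x * y * x⁻¹ * y⁻¹ ∈ s.Z) :
    AddOn X fun x => s.ze (x * y * x⁻¹ * y⁻¹) := fun a ha b hb => by
  simp only
  rw [add_comm, ← s.ze_add _ (h b hb) _ (h a ha), ← mul_inv_cancel_right (b * y * b⁻¹ * y⁻¹) a,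
    ← cen.1 (hX ha) _ (h b hb)]
  congr 1; group

theorem cadd' (hX : X ≤ Cen s.Z) (h : ∀ x ∈ X, y * x * y⁻¹ * x⁻¹ ∈ s.Z) :
    AddOn X fun x => s.ze (y * x * y⁻¹ * x⁻¹) := fun a ha b hb => by
  simp only
  rw [← s.ze_add _ (h a ha) _ (h b hb), ← mul_inv_cancel_right (y * b * y⁻¹ * b⁻¹) a,
    ← cen.1 (hX ha) _ (h b hb)]
  congr 1; group

theorem pair {Y : Subgroup G} {f f' : G → H.K} (af : AddOn X f) (sf : ∀ a, ∃ x ∈ X, f x = a)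
    (af' : AddOn Y f') (sf' : ∀ a, ∃ x ∈ Y, f' x = a) {φ : G → G → H.K}
    (h1 : ∀ y ∈ Y, AddOn X (φ · y)) (h2 : ∀ x ∈ X, AddOn Y (φ x))
    (z1 : ∀ y ∈ Y, ∀ x ∈ X, f x = 0 → φ x y = 0) (z2 : ∀ x ∈ X, ∀ y ∈ Y, f' y = 0 → φ x y = 0)
    (n1 : ∀ l, s.h l ∈ Nor X) (n2 : ∀ l, s.h l ∈ Nor Y)
    (e1 : ∀ l, ∀ x ∈ X, f (s.h l * x * (s.h l)⁻¹) = H.nm (H.mu l) * f x)
    (e2 : ∀ l, ∀ x ∈ Y, f' (s.h l * x * (s.h l)⁻¹) = H.nm (H.mu l) * f' x)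
    (e3 : ∀ l, ∀ x ∈ X, ∀ y ∈ Y, φ (s.h l * x * (s.h l)⁻¹) (s.h l * y * (s.h l)⁻¹) =
      H.nm (H.mu l) * φ x y) :
    ∃ γ, ∀ x ∈ X, ∀ y ∈ Y, φ x y * φ x y = γ * γ * (f x * f' y) := by
  obtain ⟨g, g1, g2, g3⟩ := af.fac2 sf af' sf' h1 h2 z1 z2
  refine ⟨g 1 1, fun x hx y hy => ?_⟩
  obtain ⟨a, ea⟩ := H.ex_sq (f x)
  obtain ⟨b, eb⟩ := H.ex_sq (f' y)
  rw [g3 x hx y hy, ← ea, ← eb, H.hua' g g1 g2 fun m a b m0 => ?_]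
  · ring
  obtain ⟨l, rfl⟩ := H.ex_nu m0
  obtain ⟨x, hx, rfl⟩ := sf a
  obtain ⟨y, hy, rfl⟩ := sf' b
  rw [← e1 l x hx, ← e2 l y hy, ← g3 _ (cmem (n1 l) hx) _ (cmem (n2 l) hy), e3 l x hx y hy, g3 x hx y hy]

theorem abel {f : G → H.K} (af : AddOn X f) (sf : ∀ a, ∃ x ∈ X, f x = a) (hX : X ≤ Cen s.Z)
    (z : ∀ x ∈ X, f x = 0 → x ∈ Cen X) (m : ∀ x ∈ X, ∀ y ∈ X, x * y * x⁻¹ * y⁻¹ ∈ s.Z)
    (n : ∀ l, s.h l ∈ Nor X) (e : ∀ l, ∀ x ∈ X, f (s.h l * x * (s.h l)⁻¹) = H.nm (H.mu l) * f x)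
    (hx : x ∈ X) (hy : y ∈ X) : x * y = y * x := by
  obtain ⟨γ, k⟩ := pair af sf af sf (φ := fun x y => s.ze (x * y * x⁻¹ * y⁻¹))
    (fun y hy => cadd hX fun x hx => m x hx y hy) (fun y hy => cadd' hX fun x hx => m y hy x hx)
    (fun y hy x hx f => by simp [cen.1 (z x hx f) y hy])
    (fun x hx y hy f => by simp [← cen.1 (z y hy f) x hx]) n n e e fun l x hx y hy => by
      rw [← zeh l (m x hx y hy)]; congr 1; group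
  obtain ⟨w, hw, e1⟩ := sf 1
  have := k w hw w hw
  simp only [mul_inv_cancel_right, mul_inv_cancel, ze_one, e1, mul_one, mul_zero] at this
  have k' := k x hx y hy
  simp only [← this, zero_mul, mul_self_eq_zero, ze0 (m x hx y hy)] at k'
  rwa [mul_inv_eq_one, mul_inv_eq_iff_eq_mul] at k'

theorem lin {f φ : G → H.K} (af : AddOn X f) (sf : ∀ a, ∃ x ∈ X, f x = a) (aφ : AddOn X φ)
    (z : ∀ x ∈ X, f x = 0 → φ x = 0) (n : ∀ l, s.h l ∈ Nor X)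
    (e : ∀ l, ∀ x ∈ X, f (s.h l * x * (s.h l)⁻¹) = H.nm (H.mu l) * f x)
    (e' : ∀ l, ∀ x ∈ X, φ (s.h l * x * (s.h l)⁻¹) = H.nm (H.mu l) * φ x) :
    ∃ c, ∀ x ∈ X, φ x = c * f x := by
  obtain ⟨g, hg⟩ := af.fac sf aφ z
  refine ⟨g 1, fun x hx => ?_⟩
  rw [hg x hx, mul_comm, H.linK g fun l a => ?_]
  obtain ⟨x, hx, rfl⟩ := sf a
  rw [← e l x hx, ← hg _ (cmem (n l) hx), e' l x hx, hg x hx]

variable (s) in
/-- a homocyclic group inverted by `E` -/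
structure TW (W : Subgroup G) (j : ℕ) : Prop where
  Zle : s.Z ≤ W
  cen : W ≤ Cen s.Q
  ab : ∀ a ∈ W, ∀ b ∈ W, a * b = b * a
  inv : ∀ e ∈ s.E, e ≠ 1 → ∀ w ∈ W, e * w * e = w⁻¹
  pw : ∀ w ∈ W, w ^ 2 ^ j ∈ s.Z
  sur : ∀ b, ∃ w ∈ W, w ^ 2 ^ j = s.zc b
  ker : ∀ w ∈ W, w ^ 2 ^ j = 1 → ∃ w' ∈ W, w = w' * w'
  om : ∀ w ∈ W, w * w = 1 → w ∈ s.Z
  nor : s.D ≤ Nor W
  h0 : ∀ l, H.nm (H.mu l) = 1 → ∀ w ∈ W, s.h l * w = w * s.h l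

variable (s) in
theorem tw0 : s.TW s.Z 0 := ⟨le_rfl, s.Z_cen, fun a ha b => cZ' (s.Q_le (s.Z_le ha)),
  fun e he _ w hw => by rw [← EC he (s.Q_C (s.Z_le hw)), mul_assoc, s.ee e he, mul_one, inv2 (zz hw)],
  by simp, fun b => ⟨_, s.zZ b, by simp⟩, fun w _ h => ⟨1, one_mem _, by simpa using h⟩,
  fun _ h _ => h, s.D_N.trans s.norZ, fun l h w hw => hA h (s.Z_A hw)⟩

variable (s) in
/-- the top coordinate -/
noncomputable def lj (j : ℕ) (w : G) : H.K := s.ze (w ^ 2 ^ j)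

namespace TW

variable {j : ℕ} (t : s.TW W j)
include t

theorem two : IsPGroup 2 W := two_of_pow fun w hw =>
  ⟨j + 1, by rw [pow_succ, pow_mul, sq, zz (t.pw w hw)]⟩
theorem add : AddOn W (s.lj j) := fun a ha b hb => by
  rw [lj, Commute.mul_pow (t.ab a ha b hb), s.ze_add _ (t.pw a ha) _ (t.pw b hb)]; rfl
theorem lj0 (hw : w ∈ W) : s.lj j w = 0 ↔ w ^ 2 ^ j = 1 := ze0 (t.pw w hw)
theorem lsur (b : H.K) : ∃ w ∈ W, s.lj j w = b := (t.sur b).imp fun w h => ⟨h.1, by simp [lj, h.2]⟩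
theorem lh (l : Fˣ) (hw : w ∈ W) : s.lj j (s.h l * w * (s.h l)⁻¹) = H.nm (H.mu l) * s.lj j w := by
  rw [lj, conj_pow, zeh l (t.pw w hw)]; rfl
theorem liv (hk : k ∈ Cen s.Q) (hw : w ∈ W) : s.lj j (k * w * k⁻¹) = s.lj j w := by
  rw [lj, conj_pow, cZ' (s.cen_le hk) (t.pw w hw), mul_inv_cancel_right]; rfl
theorem EN : s.E ≤ Nor W := s.E_D.trans t.nor
theorem mem : x ∈ s.E ⊔ W ↔ ∃ e ∈ s.E, ∃ w ∈ W, e * w = x := mem_sup_of_le_normalizer_right t.EN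

theorem step (h1 : x ∈ Nor s.Q) (h2 : x ∈ Nor W) (h3 : x ∈ Nor (s.E ⊔ W)) (he : e ∈ s.E)
    (he' : e' ∈ s.E) (hw : w ∈ W) (h4 : x⁻¹ * e * x = e' * w) (h5 : w ^ 2 ^ j ≠ 1) :
    ∃ V, s.Co W (s.KE (Cen s.Q) W) V (s.lj j) ∧ s.D ≤ Nor V ∧
      ∀ l, H.nm (H.mu l) = 1 → ∀ w ∈ V, s.h l * w = w * s.h l := by
  have hW := fun l => t.nor (s.hD l)
  have nK : s.D ≤ Nor (s.KE (Cen s.Q) W) := fun d hd => nor_KE (s.D_C hd) (mcen (s.D_N hd)) (t.nor hd)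
  have CK : ∀ c ∈ s.D, c ∈ Cen s.Q → c ∈ s.KE (Cen s.Q) W := fun c h1 h2 => ⟨⟨h2, t.nor h1⟩,
    fun e he => by rw [EC' he (s.D_C h1), s.ee e he]; exact one_mem _⟩
  have EK : s.E ≤ s.KE (Cen s.Q) W := fun e he => CK e (s.E_D he) (s.E_cen he)
  have YK : s.Y ≤ s.KE (Cen s.Q) W := fun e he => CK e (s.Y_D he) (s.YQ he)
  have WK : W ≤ s.KE (Cen s.Q) W := fun w hw => ⟨⟨t.cen hw, le_normalizer hw⟩, fun e he =>
    mem_of_eq (mul_mem hw (cmem (t.EN he) (inv_mem hw))) (by rw [einv he]; group)⟩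
  obtain ⟨κ, k0, k1⟩ := H.ex2
  obtain ⟨l₁, e1⟩ := H.ex_nu k0
  obtain ⟨V, c⟩ := core H.twoK (ν := fun l => H.nm (H.mu l)) (l₁ := l₁) t.add WK EK YK
    (fun k hk => hk.1.2) (fun k hk => hk.2) (fun k hk w => t.liv hk.1.1) (fun e he e1 k hk f => by
      obtain ⟨w, hw, f1⟩ := t.ker _ (hk.2 e he) ((t.lj0 (hk.2 e he)).1 f)
      obtain ⟨a, ha, y, hy, f2⟩ := cq (g := w⁻¹ * k) ((cC he e1).2 (by
        have f3 := t.inv e he e1 _ (inv_mem hw)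
        rw [inv_inv] at f3
        nth_rewrite 2 [← f3] at f1
        rw [← mul_assoc, mul_left_inj] at f1
        rw [mul_assoc, eq_mul_of_mul_inv_eq f1]; group)) (mul_mem (inv_mem (t.cen hw)) hk.1.1)
      obtain ⟨e', he', b, rfl⟩ := mem_A.1 ha
      exact ⟨_, mul_mem hw (t.Zle (s.zZ b)), e', he', y, hy, by
        rw [eq_mul_of_inv_mul_eq f2, ezc he']; group⟩)
    hW (fun l => nK (s.hD l)) (fun l w => t.lh l) (fun I h a ha a0 v => by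
      by_cases v0 : v = 0
      · exact v0 ▸ zero_mem _
      obtain ⟨l, e⟩ := H.ex_nu (div_ne_zero v0 a0)
      simpa [e, a0] using h l a ha) (e1 ▸ k1) (by
    obtain ⟨l', -, f⟩ := hth s.spQ h1 s.hN l₁
    obtain ⟨l₀, m1, m2⟩ := H.ex_l0
    have a1 : ∀ e ∈ s.E, ∀ e' ∈ s.E, ∀ w ∈ W, x⁻¹ * e * x = e' * w → x * s.h l₁ * x⁻¹ * (s.h l')⁻¹ * e *
        (x * s.h l₁ * x⁻¹ * (s.h l')⁻¹)⁻¹ * e = e * (x * (w⁻¹ * (s.h l₁ * w * (s.h l₁)⁻¹)) * x⁻¹) * e⁻¹ :=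
      fun e he e' he' w hw f => by
      rw [mul_assoc (x * s.h l₁ * x⁻¹), EC he (inv_mem (s.hC l')), einv he, mul_left_inj]
      calc _ = x * (s.h l₁ * (x⁻¹ * e * x) * (s.h l₁)⁻¹) * x⁻¹ := by group
        _ = x * (e' * w) * x⁻¹ * (x * (w⁻¹ * (s.h l₁ * w * (s.h l₁)⁻¹)) * x⁻¹) := by
          rw [f, ← conj_mul (b := s.h l₁), hE l₁ he']; group
        _ = _ := by rw [← f]; group
    have a2 : x * s.h l₁ * x⁻¹ * (s.h l')⁻¹ ∈ s.KE (Nor s.Q) W := ⟨mem_inf.2 ⟨mul_mem (cmem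
      (le_normalizer h1) (s.hN l₁)) (inv_mem (s.hN l')), mul_mem (cmem (le_normalizer h2) (hW l₁))
      (inv_mem (hW l'))⟩,
      fun e he => by
        obtain ⟨e', he', w, hw, f⟩ := t.mem.1 (cmem' h3 (mem_sup_left he))
        rw [a1 e he e' he' w hw f.symm]
        exact cmem (t.EN he) (cmem h2 (mul_mem (inv_mem hw) (cmem (hW l₁) hw)))⟩
    have a3 := a1 e he e' he' w hw h4
    generalize x * s.h l₁ * x⁻¹ * (s.h l')⁻¹ = k at f a2 a3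
    obtain ⟨e₁, h₁, n₁⟩ := s.exE
    have m3 : H.mu l₀ ≠ 1 := fun e => m2 (by rw [e, map_one])
    have a4 : k * s.h l₀ * k⁻¹ ∈ s.D := ⟨(cC h₁ n₁).2 (by
      have := t.h0 l₀ m1 _ (cmem (t.EN h₁) ((inv_mem a2).2 e₁ h₁))
      rw [einv h₁, mul_assoc _ _ e₁, mul_assoc _ e₁ e₁, s.ee e₁ h₁, mul_one, ← mul_assoc, ← mul_assoc,
        EC h₁ (s.hC l₀)] at this
      simp only [mul_assoc, mul_right_inj] at this
      rw [← cj (g := k⁻¹)]; simpa [mul_assoc] using this), cmem (le_normalizer a2.1.1) (s.hN l₀)⟩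
    obtain ⟨r, hr, y, hy, a5⟩ := ker1 (mul_mem a4 (inv_mem (s.hD l₀))) fun x hx => by
      obtain ⟨y, hy, rfl⟩ : ∃ y ∈ s.Q, x = s.h l₀ * (k * y * k⁻¹) * (s.h l₀)⁻¹ :=
        ⟨_, cmem' a2.1.1 (cmem' (s.hN l₀) hx), by group⟩
      rw [s.ha _ _ (cmem a2.1.1 hy), f y hy, ← s.ha _ y hy, ← f _ (cmem (s.hN l₀) hy)]
      congr 1; group
    obtain ⟨c, hc, u, hu, rfl⟩ := s.mem_CQ.1 (inn (b := 1) m3 m1 (s.hN l₀) (s.ha l₀) a2.1.1 f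
      (a5 ▸ mul_mem (s.R0_CQ hr) (s.cen_le (s.YQ hy))))
    have a6 : ∀ e ∈ s.E, c * u * e * (c * u)⁻¹ * e = c * e * c⁻¹ * e := fun e he => by
      rw [mul_assoc c, EC he (s.Q_C hu)]; group
    refine ⟨c, ⟨⟨hc, (mul_mem_cancel_right (t.nor (s.R0_D (s.Q_R0 hu)))).1 (show _ ∈ Nor W from a2.1.2)⟩,
      fun e he => a6 e he ▸ a2.2 e he⟩, e, he, ?_⟩
    have m := mul_mem (inv_mem hw) (cmem (hW l₁) hw)
    rw [EU.om, ← a6 e he, a3, t.liv (s.E_cen he) (cmem h2 m), Ne, t.lj0 (cmem h2 m), conj_pow,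
      conj_eq_one_iff, ← t.lj0 m, t.add _ (inv_mem hw) _ (cmem (hW l₁) hw), t.add.inv hw, t.lh l₁ hw,
      e1, neg_add_eq_zero]
    exact fun f => k1 (mul_right_cancel₀ (mt (t.lj0 hw).1 h5) (by rw [← f, one_mul])))
  have nV : s.D ≤ Nor V := fun d hd => c.nor d (t.nor hd) (nK hd) fun l => by
    obtain ⟨l', e, he, v, hv, y, hy, f⟩ := hD' hd l
    refine ⟨l', _, f, fun k hk => mem_of_eq (c.cm _ (mul_mem (EK he) (YK hy)) k hk) ?_⟩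
    have := GW.cen.1 (cmem (mcen (s.D_N (s.Y_D hy))) hk.1.1) v hv
    rw [show e * v * y * k * (e * v * y)⁻¹ = e * (v * (y * k * y⁻¹)) * v⁻¹ * e⁻¹ by group, ← this]
    group
  refine ⟨V, c, nV, fun l hl k hk => ?_⟩
  obtain ⟨e₁, h₁, n₁⟩ := s.exE
  have m := mul_mem (inv_mem hk) (cmem (nV (s.hD l)) hk)
  have m' := c.ker e₁ h₁ n₁ _ m ((c.add e₁ h₁).div (c.le' hk) (c.le' (cmem (nV (s.hD l)) hk)) (by
    have e3 := t.lh l ((c.le' hk).2 e₁ h₁)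
    rw [← conj_mul, ← conj_mul, ← conj_mul, hE l h₁, ← conj_inv, hl, one_mul] at e3
    exact e3.symm))
  obtain ⟨i, hi⟩ := exists_pow_pow_of_mem t.two m'
  have := fix_of_odd (y := k) (odd_h l) hi (t.h0 l hl _ m') (by group)
  rw [inv_mul_eq_one] at this
  rw [← mul_inv_eq_iff_eq_mul, ← this]

end TW

end Hy

end EU
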