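import Cfsg.Agent.EU.F

/-! The first level. -/

set_option autoImplicit false
set_option linter.unusedSectionVars false
set_option linter.unusedVariables false

namespace EU

open Cfsg Subgroup FT H4 GW H2 Qd
open H5 (IsSylowOf mem_of_eq)

variable {G : Type*} [Group G] [Finite G] {F : Type*} [Field F] [Fintype F] {H : Hq F} {s : Hy G H}
  {e e' g x y z k c p w r r' : G} {X P B W K N : Subgroup G}

namespace Hy

theorem decR (nor : s.D ≤ Nor W) : r ∈ s.E ⊔ (W ⊔ s.Q) ↔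
    ∃ e ∈ s.E, ∃ w ∈ W, ∃ x ∈ s.Q, r = e * (w * x) := by
  rw [mem_sup_of_le_normalizer_right (nsup (s.E_D.trans nor) (cnor s.E_cen))]
  simp only [mem_sup_of_le_normalizer_left ((s.Q_R0.trans s.R0_D).trans nor)]
  exact ⟨by rintro ⟨e, he, _, ⟨w, hw, x, hx, rfl⟩, rfl⟩; exact ⟨e, he, w, hw, x, hx, rfl⟩,
    by rintro ⟨e, he, w, hw, x, hx, rfl⟩; exact ⟨e, he, _, ⟨w, hw, x, hx, rfl⟩, rfl⟩⟩

variable (s) in
/-- the first level -/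
structure L1 where
  W : Subgroup G
  c : H.K
  ga : G → H.K
  xi : G → H.K
  Zle : s.Z ≤ W
  cen : W ≤ Cen s.Q
  nor : s.D ≤ Nor W
  h0 : ∀ l, H.nm (H.mu l) = 1 → ∀ w ∈ W, s.h l * w = w * s.h l
  aga : AddOn (s.E ⊔ (W ⊔ s.Q)) ga
  axi : AddOn (s.E ⊔ (W ⊔ s.Q)) xi
  sq : ∀ r ∈ s.E ⊔ (W ⊔ s.Q), r * r = s.zc ((c + ga r) * xi r + H.nm (s.ia r))
  cm : ∀ r ∈ s.E ⊔ (W ⊔ s.Q), ∀ r' ∈ s.E ⊔ (W ⊔ s.Q),
    r * r' = s.zc (ga r * xi r' + ga r' * xi r + H.bf (s.ia r) (s.ia r')) * (r' * r)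
  ga0 : ∀ r ∈ W ⊔ s.Q, ga r = 0
  xi0 : ∀ r ∈ s.R0, xi r = 0
  gaE : ∀ e ∈ s.E, ga e = 0 → e = 1
  ex1 : ∃ e ∈ s.E, ga e = 1
  exW : ∀ b, ∃ w ∈ W, xi w = b
  kerW : ∀ w ∈ W, xi w = 0 → w ∈ s.Z

theorem exists_L1 (h1 : x ∈ Nor s.R0) (h2 : x ∉ Nor s.E) : Nonempty s.L1 := by
  have n1 := norQ h1
  obtain ⟨e₀, h₀, n₀⟩ : ∃ e ∈ s.E, x⁻¹ * e * x ∉ s.E := by
    by_contra! h
    exact h2 ((Nor s.E).inv_mem_iff.1 (mnor (by simpa using h)))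
  have nA : x ∈ Nor s.A := mnor fun a ha => memA' (cmem h1 (s.A_R0 ha)) (W.csq (AA ha))
  obtain ⟨e₀', h₀', b, f⟩ := mem_A.1 (cmem' nA (s.E_A h₀))
  obtain ⟨V, c, nV, h0⟩ := s.tw0.step n1 (s.norZ n1) nA h₀ h₀' (s.zZ b) f.symm (by
    rintro f1; simp only [pow_zero, pow_one] at f1; exact n₀ (f ▸ f1 ▸ by simpa using h₀'))
  have VC : V ≤ Cen s.Q := fun k hk => (c.le' hk).1.1
  have oz : ∀ e ∈ s.E, ∀ k, om (s.lj 0) e k = s.ze (k * e * k⁻¹ * e⁻¹) := fun e he k => by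
    simp [om, lj, einv he]
  have mz : ∀ e ∈ s.E, ∀ k ∈ V, k * e * k⁻¹ * e⁻¹ ∈ s.Z := fun e he k hk =>
    (einv he).symm ▸ (c.le' hk).2 e he
  obtain ⟨e₁, h₁, n₁⟩ := s.exE
  have hV := fun l => nV (s.hD l)
  have oh : ∀ e ∈ s.E, ∀ l, ∀ k ∈ V, om (s.lj 0) e (s.h l * k * (s.h l)⁻¹) =
      H.nm (H.mu l) * om (s.lj 0) e k := fun e he l k hk => by
    rw [oz e he, oz e he, ← zeh l (mz e he k hk), ← conj_mul, ← conj_mul, ← conj_mul, ← conj_inv,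
      ← conj_inv, hE l he]
  have ax := (c.add e₁ h₁).mono c.le'
  have sx := c.sur e₁ h₁ n₁
  have kx := c.ker e₁ h₁ n₁
  have VZ := VC.trans (s.cen_le.trans CQ_Z)
  have ab : ∀ a ∈ V, ∀ b ∈ V, a * b = b * a := fun a ha b hb => abel ax sx VZ
    (fun x hx f => le_cen_symm VZ (kx x hx f)) (fun a ha b hb => c.cm a (c.le' ha) b (c.le' hb)) hV
    (oh e₁ h₁) ha hb
  obtain ⟨c₀, hc⟩ := lin (φ := fun w => s.ze (w * w)) ax sx (fun a ha b hb => by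
    simp only
    rw [← s.ze_add _ (c.sq a ha) _ (c.sq b hb), mul_assoc, ← mul_assoc b, ← ab a ha b hb]
    simp only [mul_assoc]) (fun x hx f => by simp [zz (kx x hx f)]) hV (oh e₁ h₁)
    fun l x hx => by rw [conj_mul, zeh l (c.sq x hx)]
  obtain ⟨w₁, m₁, f₁⟩ := sx 1
  have xE := fun e he => c.add e₁ h₁ e he
  generalize hxi : om (s.lj 0) e₁ = xi at ax sx kx hc f₁
  let ga := fun r => s.ze (r * w₁ * r⁻¹ * w₁⁻¹)
  have mz' : ∀ e ∈ s.E, e * w₁ * e⁻¹ * w₁⁻¹ ∈ s.Z := fun e he =>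
    mem_of_eq (inv_mem (mz e he w₁ m₁)) (by group)
  have we : ∀ e ∈ s.E, ∀ w ∈ V, w * e = s.zc (ga e * xi w) * (e * w) := fun e he w hw => by
    obtain ⟨γ, hγ⟩ := lin ax sx ((c.add e he).mono c.le') (fun x hx f => c.z0 e he x (kx x hx f)) hV
      (hxi ▸ oh e₁ h₁) (oh e he)
    have : ga e = γ := by
      have := hγ w₁ m₁
      rw [f₁, mul_one, oz e he, ← inv2 (zz (mz e he w₁ m₁))] at this
      rw [← this]; simp only [ga]; congr 1; group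
    rw [this, ← hγ w hw, oz e he, zc_ze (mz e he w hw)]; group
  have zV : ∀ w ∈ V, ∀ b, w * s.zc b = s.zc b * w := fun w hw => cZ (s.cen_le (VC hw))
  have co : ∀ e ∈ s.E, ∀ w ∈ V, ∀ x ∈ s.Q, ga (e * (w * x)) = ga e ∧ xi (e * (w * x)) = xi w ∧
      s.ia (e * (w * x)) = s.ia x := fun e he w hw x hx => ⟨by
    simp only [ga]
    rw [mul_assoc e, mul_assoc w, ← cen.1 (VC m₁) x hx, ← mul_assoc w, ab w hw w₁ m₁]; congr 1; group,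
    by
      rw [← hxi, oz e₁ h₁, oz e₁ h₁, mul_assoc e, mul_assoc w, EC h₁ (s.Q_C hx), ← mul_assoc w,
        we e₁ h₁ w hw, ← mul_assoc, ← mul_assoc, ← mul_assoc, ezc he, mul_assoc _ e, Ecm he h₁]
      congr 1; group,
    by rw [ia_cQ (s.E_cen he) (mul_mem (s.cen_le (VC hw)) (s.Q_le hx)), ia_cQ (VC hw) (s.Q_le hx)]⟩
  have mu : ∀ e ∈ s.E, ∀ w ∈ V, ∀ x ∈ s.Q, ∀ e' ∈ s.E, ∀ w' ∈ V, ∀ x' ∈ s.Q, e * (w * x) *
      (e' * (w' * x')) = e * e' * (s.zc (ga e' * xi w) * (w * w') * (x * x')) :=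
    fun e he w hw x hx e' he' w' hw' x' hx' => by
      calc _ = e * (w * (x * e')) * w' * x' := by group
        _ = e * (w * e') * (x * w') * x' := by rw [EC he' (s.Q_C hx)]; group
        _ = e * (s.zc (ga e' * xi w) * e') * w * w' * x * x' := by
          rw [we e' he' w hw, ← cen.1 (VC hw') x hx]; group
        _ = _ := by rw [← ezc he']; group
  have gE : AddOn s.E ga := cadd (s.E_cen.trans (s.cen_le.trans CQ_Z)) mz'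
  have xz : ∀ b, ∀ w ∈ V, xi (s.zc b * w) = xi w := fun b w hw => by
    rw [ax _ (c.le (s.zZ b)) _ hw, ← hxi, c.z0 e₁ h₁ _ (s.zZ b), zero_add]
  have t := H.twoK
  refine ⟨⟨V, c₀, ga, xi, c.le, VC, nV, h0, fun a ha b hb => ?_, fun a ha b hb => ?_,
    fun a ha => ?_, fun a ha b hb => ?_, fun r hr => ?_, fun r hr => ?_, fun e he f => ?_,
    ⟨e₁, h₁, ?_⟩, sx, kx⟩⟩
  any_goals obtain ⟨e, he, w, hw, x, hx, rfl⟩ := (decR nV).1 ha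
  any_goals obtain ⟨e', he', w', hw', x', hx', rfl⟩ := (decR nV).1 hb
  · rw [mu e he w hw x hx e' he' w' hw' x' hx', (co _ (mul_mem he he') _ (mul_mem (c.le (s.zZ _))
      (mul_mem hw hw')) _ (mul_mem hx hx')).1, (co e he w hw x hx).1, (co e' he' w' hw' x' hx').1,
      gE e he e' he']
  · rw [mu e he w hw x hx e' he' w' hw' x' hx', (co _ (mul_mem he he') _ (mul_mem (c.le (s.zZ _))
      (mul_mem hw hw')) _ (mul_mem hx hx')).2.1, (co e he w hw x hx).2.1,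
      (co e' he' w' hw' x' hx').2.1, xz _ _ (mul_mem hw hw'), ax w hw w' hw']
  · obtain ⟨a1, a2, a3⟩ := co e he w hw x hx
    rw [mu e he w hw x hx e he w hw x hx, a1, a2, a3, s.ee e he, one_mul, ← zc_ze (c.sq w hw),
      hc w hw, sqQ hx, ← zc_add, ← zc_add]
    congr 1; ring
  · obtain ⟨a1, a2, a3⟩ := co e he w hw x hx
    obtain ⟨b1, b2, b3⟩ := co e' he' w' hw' x' hx'
    rw [mu e he w hw x hx e' he' w' hw' x' hx', mu e' he' w' hw' x' hx' e he w hw x hx, a1, a2, a3,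
      b1, b2, b3, Ecm he' he, ab w' hw' w hw, cmQ (s.Q_le hx) hx', ← mul_assoc (s.zc _) (e * e'),
      ← ezc (mul_mem he he'), mul_assoc (e * e'), ← mul_assoc _ (s.zc _) (x' * x), mul_assoc (s.zc _),
      zV _ (mul_mem hw hw')]
    simp only [mul_assoc, mul_right_inj]
    simp only [← mul_assoc, ← zc_add, mul_left_inj, zc_inj]
    grind
  · obtain ⟨w, hw, x, hx, rfl⟩ :=
      (mem_sup_of_le_normalizer_left ((s.Q_R0.trans s.R0_D).trans nV)).1 hr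
    simpa [gE.one] using (co 1 (one_mem _) w hw x hx).1
  · obtain ⟨e, he, x, hx, rfl⟩ := mem_R0.1 hr
    simpa [ax.one] using (co e he 1 (one_mem _) x hx).2.1
  · by_contra n
    obtain ⟨w, hw, f1⟩ := c.sur e he n 1
    rw [oz e he, we e he w hw, f] at f1
    simp at f1
  · have := we e₁ h₁ w₁ m₁
    rw [f₁, mul_one] at this
    rw [← hxi, oz e₁ h₁, this] at f₁
    simpa [mul_assoc] using f₁

namespace L1

variable (L : s.L1)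

/-- `W Q` -/
abbrev Rs : Subgroup G := L.W ⊔ s.Q
/-- `E W Q` -/
abbrev R : Subgroup G := s.E ⊔ (L.W ⊔ s.Q)
/-- `W T` -/
noncomputable def T1 : Subgroup G := L.W ⊔ s.T

theorem E_R : s.E ≤ L.R := le_sup_left
theorem Rs_R : L.Rs ≤ L.R := le_sup_right
theorem W_Rs : L.W ≤ L.Rs := le_sup_left
theorem Q_Rs : s.Q ≤ L.Rs := le_sup_right
theorem W_R : L.W ≤ L.R := L.W_Rs.trans L.Rs_R
theorem Q_R : s.Q ≤ L.R := L.Q_Rs.trans L.Rs_R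
theorem Z_R : s.Z ≤ L.R := s.Z_le.trans L.Q_R
theorem R0_R : s.R0 ≤ L.R := sup_le L.E_R L.Q_R
theorem R_CQ : L.R ≤ s.CQ := sup_le (s.E_cen.trans s.cen_le) (sup_le_sup_right L.cen _)
theorem D_Rs : s.D ≤ Nor L.Rs := nsup L.nor s.D_N
theorem D_R : s.D ≤ Nor L.R := nsup (s.D_C.trans s.C_norE) L.D_Rs
theorem aia : AddOn L.R s.ia := ia_add.mono L.R_CQ
theorem T_T1 : s.T ≤ L.T1 := le_sup_right
theorem R_T1 : L.R ≤ L.T1 := sup_le (s.E_T.trans L.T_T1) (sup_le_sup_left s.Q_T _)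
theorem T1_N : L.T1 ≤ Nor s.Q := sup_le (cnor L.cen) s.T_N
theorem T1_W : L.T1 ≤ Nor L.W := sup_le le_normalizer (s.T_D.trans L.nor)
theorem T1_R : L.T1 ≤ Nor L.R := sup_le (lnor L.W_R) (s.T_D.trans L.D_R)
theorem T1_Rs : L.T1 ≤ Nor L.Rs := nsup L.T1_W L.T1_N
theorem twoR : IsPGroup 2 L.R := two_ext s.twoZ fun r hr => L.sq r hr ▸ s.zZ _
theorem twoT1 : IsPGroup 2 L.T1 := two_sup (L.twoR.to_le L.W_R) s.twoT (s.T_D.trans L.nor)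
variable {L}
theorem gaW (h : w ∈ L.W) : L.ga w = 0 := L.ga0 w (L.W_Rs h)
theorem gaQ (h : w ∈ s.Q) : L.ga w = 0 := L.ga0 w (L.Q_Rs h)
theorem iaW (h : w ∈ L.W) : s.ia w = 0 := ia_cen (L.cen h)
theorem xiE (h : w ∈ s.E) : L.xi w = 0 := L.xi0 w (s.E_R0 h)
theorem xiQ (h : w ∈ s.Q) : L.xi w = 0 := L.xi0 w (s.Q_R0 h)
theorem co (he : e ∈ s.E) (hw : w ∈ L.W) (hx : x ∈ s.Q) : L.ga (e * (w * x)) = L.ga e ∧
    L.xi (e * (w * x)) = L.xi w ∧ s.ia (e * (w * x)) = s.ia x := by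
  have a := L.E_R he
  have b := L.W_R hw
  have c := L.Q_R hx
  simp [L.aga _ a _ (mul_mem b c), L.axi _ a _ (mul_mem b c), L.aia _ a _ (mul_mem b c), L.aga _ b _ c,
    L.axi _ b _ c, L.aia _ b _ c, gaW hw, gaQ hx, iaW hw, xiE he, xiQ hx, iaE he]
variable (L) in
theorem exR (he : e ∈ s.E) (b : H.K) (a : F) :
    ∃ r ∈ L.R, L.ga r = L.ga e ∧ L.xi r = b ∧ s.ia r = a := by
  obtain ⟨w, hw, rfl⟩ := L.exW b
  obtain ⟨x, hx, rfl⟩ := s.exQ a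
  exact ⟨_, mul_mem (L.E_R he) (mul_mem (L.W_R hw) (L.Q_R hx)), co he hw hx⟩
variable (L) in
theorem exRs (b : H.K) (a : F) : ∃ r ∈ L.R, L.ga r = 0 ∧ L.xi r = b ∧ s.ia r = a :=
  L.aga.one ▸ L.exR (one_mem _) b a
theorem mRs (hr : r ∈ L.R) (h : L.ga r = 0) : r ∈ L.Rs := by
  obtain ⟨e, he, w, hw, x, hx, rfl⟩ := (decR L.nor).1 hr
  rw [L.gaE e he ((co he hw hx).1 ▸ h), one_mul]
  exact mul_mem (L.W_Rs hw) (L.Q_Rs hx)
theorem mR0 (hr : r ∈ L.R) (h : L.xi r = 0) : r ∈ s.R0 := by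
  obtain ⟨e, he, w, hw, x, hx, rfl⟩ := (decR L.nor).1 hr
  exact mul_mem (s.E_R0 he) (s.Q_R0 (mul_mem (s.Z_le (L.kerW w hw ((co he hw hx).2.1 ▸ h))) hx))
theorem mW (hr : r ∈ L.R) (h : L.ga r = 0) (h' : s.ia r = 0) : r ∈ L.W := by
  obtain ⟨e, he, w, hw, x, hx, rfl⟩ := (decR L.nor).1 hr
  rw [L.gaE e he ((co he hw hx).1 ▸ h), one_mul]
  exact mul_mem hw (L.Zle (memZ hx ((co he hw hx).2.2 ▸ h')))
theorem mQ (hr : r ∈ L.R) (h : L.ga r = 0) (h' : L.xi r = 0) : r ∈ s.Q := by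
  obtain ⟨e, he, w, hw, x, hx, rfl⟩ := (decR L.nor).1 hr
  rw [L.gaE e he ((co he hw hx).1 ▸ h), one_mul]
  exact mul_mem (s.Z_le (L.kerW w hw ((co he hw hx).2.1 ▸ h'))) hx
theorem mZ (hr : r ∈ L.R) (h : L.ga r = 0) (h' : L.xi r = 0) (h'' : s.ia r = 0) : r ∈ s.Z :=
  memZ (mQ hr h h') h''
theorem cmi (hr : r ∈ L.R) (hr' : r' ∈ L.R) : r * r' = r' * r ↔
    L.ga r * L.xi r' + L.ga r' * L.xi r + H.bf (s.ia r) (s.ia r') = 0 := by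
  rw [L.cm r hr r' hr', mul_eq_right, zc_eq_one]
theorem sqi (hr : r ∈ L.R) : r * r = 1 ↔ (L.c + L.ga r) * L.xi r + H.nm (s.ia r) = 0 := by
  rw [L.sq r hr, zc_eq_one]
theorem cmm (hr : r ∈ L.R) (hr' : r' ∈ L.R) : r * r' * r⁻¹ * r'⁻¹ =
    s.zc (L.ga r * L.xi r' + L.ga r' * L.xi r + H.bf (s.ia r) (s.ia r')) := by
  rw [L.cm r hr r' hr']; group
theorem cmZ (hr : r ∈ L.R) (hr' : r' ∈ L.R) : r * r' * r⁻¹ * r'⁻¹ ∈ s.Z := cmm hr hr' ▸ s.zZ _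
theorem we (he : e ∈ s.E) (hr : r ∈ L.R) : r * e * r⁻¹ = s.zc (L.ga e * L.xi r) * e := by
  rw [L.cm r hr e (L.E_R he), xiE he, iaE he]; simp [mul_assoc]
theorem Wab (hw : w ∈ L.W) (hr : r ∈ L.Rs) : w * r = r * w :=
  (cmi (L.W_R hw) (L.Rs_R hr)).2 (by simp [gaW hw, iaW hw, L.ga0 r hr])
theorem xih (l : Fˣ) (hr : r ∈ L.R) : L.xi (s.h l * r * (s.h l)⁻¹) = H.nm (H.mu l) * L.xi r := by
  obtain ⟨e, he, f⟩ := L.ex1
  have e1 := we he (cmem (L.D_R (s.hD l)) hr)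
  rw [← conj_inv.symm, ← hE l he, conj_mul, conj_mul, we he hr, ← conj_mul, s.hz, hE l he, f, one_mul,
    one_mul, mul_left_inj, zc_inj] at e1
  exact e1.symm
theorem gaD (hd : g ∈ s.D) (hr : r ∈ L.R) : L.ga (g * r * g⁻¹) = L.ga r := by
  obtain ⟨e, he, w, hw, x, hx, rfl⟩ := (decR L.nor).1 hr
  rw [← conj_mul, ← conj_mul, EC' he (s.D_C hd), (co he hw hx).1,
    (co he (cmem (L.nor hd) hw) (cmem (s.D_N hd) hx)).1]
variable (L) in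
theorem cardR : Nat.card L.R = 2 ^ H.n * Nat.card s.R0 :=
  H.cardK ▸ L.axi.card_eq (fun b => (L.exW b).imp fun _ h => ⟨L.W_R h.1, h.2⟩) fun x =>
    ⟨fun h => ⟨L.R0_R h, L.xi0 x h⟩, fun h => mR0 h.1 h.2⟩
variable (L) in
theorem cardW : Nat.card L.W = (2 ^ H.n) ^ 2 := by
  rw [(L.axi.mono L.W_R).card_eq L.exW (Y := s.Z) fun x =>
    ⟨fun h => ⟨L.Zle h, xiQ (s.Z_le h)⟩, fun h => L.kerW x h.1 h.2⟩, H.cardK, cardZ, pow_two]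
variable (L) in
theorem cardRs : Nat.card L.Rs = (2 ^ H.n) ^ 4 := by
  rw [(L.aia.mono L.Rs_R).card_eq (fun b => (s.exQ b).imp fun _ h => ⟨L.Q_Rs h.1, h.2⟩) (Y := L.W)
    fun x => ⟨fun h => ⟨L.W_Rs h, iaW h⟩, fun h => mW (L.Rs_R h.1) (L.ga0 x h.1) h.2⟩, H.cardF, cardW]
  ring
theorem full (h : 2 ^ H.n ≤ Nat.card s.E) (b : H.K) : ∃ e ∈ s.E, L.ga e = b := by
  have a := L.aga.mono L.E_R
  have c := a.card_le (I := a.img) (Y := ⊥) (fun x hx => ⟨x, hx, rfl⟩) L.gaE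
  rw [card_bot, mul_one] at c
  exact (AddSubgroup.eq_top_of_le_card _ (H.cardK ▸ h.trans c)).ge (AddSubgroup.mem_top b)
theorem card_cen (hy : y ∈ L.R) : Nat.card s.R0 ≤ Nat.card ↥(L.R ⊓ Cen1 y) := by
  have := (cadd (L.R_CQ.trans CQ_Z) fun r hr => cmZ hr hy).card_le' (Y := L.R ⊓ Cen1 y)
    fun x hx f => ⟨hx, c1.2 (by rwa [ze0 (cmZ hx hy), mul_inv_eq_one, mul_inv_eq_iff_eq_mul] at f)⟩
  rw [cardR, H.cardK] at this
  exact Nat.le_of_mul_le_mul_left this (by positivity)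

theorem cja (hc : s.Cls y) (hy : y ∈ L.R) (hA : y ∉ s.A) : L.xi y ≠ 0 ∧
    (L.c = 0 ∧ L.ga y ≠ 0 ∧ s.ia y ≠ 0 ∨ L.c = 0 ∧ y ∈ L.W ∧ (∀ b, ∃ e ∈ s.E, L.ga e = b) ∨
      L.c ≠ 0 ∧ L.ga y = L.c ∧ s.ia y = 0 ∧ ∀ e ∈ s.E, L.ga e = 0 ∨ L.ga e = L.c) := by
  have x0 : L.xi y ≠ 0 := fun f => hA (memA' (mR0 hy f) hc.sq)
  obtain ⟨c1', c2⟩ := NI2 hc (X := L.R ⊓ Cen1 y) inf_le_right L.twoR.to_inf_left
    (fun x hx => GW.cen.2 fun r hr => by rw [L.sq x hx.1, cZ (L.R_CQ hr.1)]) (card_cen hy)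
  have t := H.twoK
  have yy := (sqi hy).1 hc.sq
  have k : ∀ e ∈ s.E, ∀ e' ∈ s.E, ∀ ξ a ξ' a', L.ga e * L.xi y + L.ga y * ξ + H.bf a (s.ia y) = 0 →
      L.ga e' * L.xi y + L.ga y * ξ' + H.bf a' (s.ia y) = 0 → (L.c + L.ga e) * ξ + H.nm a = 0 →
      L.ga e * ξ' + L.ga e' * ξ + H.bf a a' = 0 := fun e he e' he' ξ a ξ' a' h1 h2 h3 => by
    obtain ⟨r, hr, a1, rfl, rfl⟩ := L.exR he ξ a
    obtain ⟨r', hr', b1, rfl, rfl⟩ := L.exR he' ξ' a'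
    rw [← a1] at h1 h3 ⊢
    rw [← b1] at h2 ⊢
    exact (cmi hr hr').1 (c2 r ⟨hr, c1.2 ((cmi hr hy).2 h1)⟩ ((sqi hr).2 h3) r'
      ⟨hr', c1.2 ((cmi hr' hy).2 h2)⟩)
  have g1 := L.aga.one
  have o : (1 : G) ∈ s.E := one_mem _
  obtain ⟨e₁, h₁, f₁⟩ := L.ex1
  refine ⟨x0, ?_⟩
  by_cases a0 : s.ia y = 0
  · have g : L.ga y = L.c := by simp only [a0, H.nm_zero] at yy; grind
    by_cases c0 : L.c = 0
    · refine .inr (.inl ⟨c0, mW hy (g.trans c0) a0, full ?_⟩)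
      have := card_le_of_le (le_inf L.Rs_R fun r hr => c1.2 (Wab (mW hy (g.trans c0) a0) hr).symm)
      rw [c1', cardRs, cardR0, pow_succ'] at this
      exact Nat.le_of_mul_le_mul_right this (by positivity)
    refine .inr (.inr ⟨c0, g, a0, fun e he => by_contra fun n => ?_⟩)
    obtain ⟨a, ea⟩ := H.ex_nm ((L.c + L.ga e) * (L.ga e * L.xi y / L.c))
    obtain ⟨a', ea'⟩ := H.ex_bf (a := a) (fun z => by
      rw [z, H.nm_zero, eq_comm] at ea; simp [x0, c0, H.eqK] at ea; grind) 1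
    have := k e he 1 o (L.ga e * L.xi y / L.c) a 0 a' (by rw [a0, g]; field_simp; simp [H.aK])
      (by simp [g1, a0]) (by rw [ea, H.aK])
    simp [g1, ea'] at this
  by_cases g0 : L.ga y = 0
  · obtain ⟨κ, k0, k1⟩ := H.ex2
    obtain ⟨a', ea'⟩ := H.ex_bf a0 (L.xi y)
    have := k 1 o e₁ h₁ (κ * κ * L.xi y) (κ * s.ia y) 0 a' (by simp [g1, g0, H.k_bf])
      (by rw [H.bf_comm, ea', f₁]; simp [H.aK]) (by rw [H.nm_mul, H.nm_k, g1]; grind)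
    rw [H.k_bf, ea', g1, f₁] at this
    grind
  refine .inl ⟨by_contra fun c0 => ?_, g0, a0⟩
  have n0 := H.nm_ne a0
  have n1 : H.nm H.ω ≠ 0 := H.nm_ne fun e => H.om_ne (by simp [e])
  obtain ⟨κ, hκ⟩ : ∃ κ, κ * (L.ga y * H.nm H.ω) = L.c := ⟨_, div_mul_cancel₀ _ (mul_ne_zero g0 n1)⟩
  obtain ⟨a', ea'⟩ := H.ex_bf (a := κ * (H.ω * s.ia y)) (mul_ne_zero (by
    rintro f; exact c0 (by rw [← hκ, show κ = 0 from Subtype.ext f, zero_mul])) (mul_ne_zero (H.nm_eq_zero.not.1 n1) a0)) 1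
  have e1 := mul_div_cancel₀ (κ * H.nm (s.ia y)) g0
  have := k 1 o 1 o (κ * H.nm (s.ia y) / L.ga y) _ (H.bf a' (s.ia y) / L.ga y) a' (by
      rw [H.k_bf, H.bf_comm, H.bf_om, g1, e1, zero_mul, zero_add, H.aK])
      (by rw [g1, mul_div_cancel₀ _ g0, zero_mul, zero_add, H.aK]) (by
      rw [H.nm_mul, H.nm_mul, H.nm_k, g1]; grind)
  rw [g1, ea'] at this
  simp at this

theorem mem_T1 : p ∈ L.T1 ↔ ∃ w ∈ L.W, ∃ t ∈ s.T, w * t = p :=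
  mem_sup_of_le_normalizer_left (s.T_D.trans L.nor)

theorem kerT1 (hp : p ∈ L.T1) (h : s.th p = 1) : p ∈ L.R := by
  obtain ⟨w, hw, t, ht, rfl⟩ := mem_T1.1 hp
  rw [s.spQ.th_mul (mcnor (L.cen hw)) (s.T_N ht), th_CQ (s.cen_le (L.cen hw)), one_mul] at h
  exact mul_mem (L.W_R hw) (L.R0_R (kerT ht h))

theorem sgt' (hX : s.Sp X) (h : ∀ r ∈ s.Q, g * r * g⁻¹ ∈ Nor X) (b : H.K) :
    s.th (g * s.zc b * g⁻¹) = 1 := by
  obtain ⟨x, hx, e⟩ := s.ex_sq b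
  rw [← e, ← conj_mul, sgt hX h (s.Q_R0 hx)]

theorem chR (h : ∀ r ∈ L.R, x * r * x⁻¹ ∈ L.T1) : x ∈ Nor L.R := by
  have sg : ∀ r ∈ L.R, s.th (x * r * x⁻¹ * (x * r * x⁻¹)) = 1 := fun r hr => by
    rw [conj_mul, L.sq r hr]; exact sgt' s.spQ (fun r hr => L.T1_N (h r (L.Q_R hr))) _
  have cv : ∀ a ∈ L.R, ∀ b ∈ L.R, x * a * x⁻¹ ∉ L.R → x * b * x⁻¹ ∉ L.R → x * (a * b) * x⁻¹ ∈ L.R :=
    fun a ha b hb a1 b1 => kerT1 (h _ (mul_mem ha hb)) (conj_mul (b := x) ▸ cyc s.spQ (L.T1_N (h a ha))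
      (L.T1_N (h b hb)) (sg a ha) (sg b hb) (mt (kerT1 (h a ha)) a1) (mt (kerT1 (h b hb)) b1))
  have nZ : x ∈ Nor s.Z := mnor (by
    rintro _ ⟨b, rfl⟩
    obtain ⟨r, -, r', -, h1, h2, e⟩ := k2R x (fun a ha b hb => cv a (L.Q_R ha) b (L.Q_R hb)) b
    exact mem_of_eq (cmZ h1 h2) (by rw [← e]; group))
  refine mnor fun r hr => by_contra fun n => ?_
  have c1 := TW.idx2' (M := conjS x L.R ⊓ L.R) inf_le_left fun a ha b hb a1 b1 => ⟨mul_mem ha hb,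
    mem_of_eq (cv _ (mem_conjS.1 ha) _ (mem_conjS.1 hb) (fun m => a1 ⟨ha, mem_of_eq m (by group)⟩)
      fun m => b1 ⟨hb, mem_of_eq m (by group)⟩) (by group)⟩
  rw [card_conjS] at c1
  refine nofix s.spQ (L.T1_N (h r hr)) ((s.spQ.two (L.T1_N (h r hr)) (sg r hr)).resolve_left
    (mt (kerT1 (h r hr)) n)) (fun a ha b hb => TW.idx2 inf_le_right c1 a (L.Q_R ha) b (L.Q_R hb))
    fun v hv => ?_
  rw [show x * r * x⁻¹ * v * (x * r * x⁻¹)⁻¹ = x * (r * (x⁻¹ * v * x) * r⁻¹ * (x⁻¹ * v * x)⁻¹) * x⁻¹ * v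
    by group, ia_cQ (s.Z_cen (cmem nZ (cmZ hr (mem_conjS.1 hv.2.1)))) (s.Q_le hv.1)]

theorem cjA (hc : s.Cls y) (hy : y ∈ s.A) : ∃ w ∈ L.W, ∃ e ∈ s.E, e ≠ 1 ∧ y = w * e * w⁻¹ := by
  obtain ⟨e, he, b, rfl⟩ := mem_A.1 hy
  have e1 : e ≠ 1 := fun f => noZ hc (by simp [f, s.zZ])
  obtain ⟨w, hw, f⟩ := L.exW (b / L.ga e)
  exact ⟨w, hw, e, he, e1, by rw [we he (L.W_R hw), f, mul_div_cancel₀ _ (mt (L.gaE e he) e1), ezc he]⟩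

theorem backA (hP : IsPGroup 2 P) (h : L.T1 ≤ P) (hg : g ∈ P) (he : e ∈ s.E) (h1 : e ≠ 1)
    (m : g * e * g⁻¹ ∈ s.A) : g ∈ L.T1 := by
  obtain ⟨w, hw, e', he', -, f⟩ := L.cjA (cls he h1 g) m
  have := L.R_T1 (L.W_R hw)
  exact (mul_mem_cancel_left (inv_mem this)).1 (L.T_T1 (back hP (L.T_T1.trans h)
    (mul_mem (inv_mem (h this)) hg) he h1 (mem_of_eq he' (by rw [← cj (g := w), ← f]; group))))

end L1

end Hy

end EU
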