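import Cfsg.Agent.EU.G

/-! The case `|E| = 2`: abelian towers. -/

set_option autoImplicit false
set_option linter.unusedSectionVars false
set_option linter.unusedVariables false

namespace EU

open Cfsg Subgroup FT H4 GW H2 Qd
open H5 (IsSylowOf mem_of_eq)

variable {G : Type*} [Group G] [Finite G] {F : Type*} [Field F] [Fintype F] {H : Hq F} {s : Hy G H}
  {e e' g x y z k p w r r' t : G} {X P B M V W K N : Subgroup G}

theorem cover_zp (tt : t * t = 1) (tn : t ∈ Nor M) :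
    ∀ a ∈ M ⊔ zpowers t, ∀ b ∈ M ⊔ zpowers t, a ∉ M → b ∉ M → a * b ∈ M := fun a ha b hb a1 b1 => by
  rw [TW.mem_sup_zp' (tt ▸ one_mem _) tn] at ha hb
  exact mem_of_eq (mul_mem (ha.resolve_left a1) (cmem' tn (hb.resolve_left b1))) (by
    rw [show a * t * (t⁻¹ * (b * t) * t) = a * b * (t * t) by group, tt, mul_one])

namespace Hy

variable (s) in
/-- `E` has order two -/
structure Tw (t : G) : Prop where
  mem : t ∈ s.E
  ne : t ≠ 1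
  all : ∀ e ∈ s.E, e = 1 ∨ e = t

variable (s) in
/-- extremal conjugation into `P` -/
def Ext (P : Subgroup G) (g : G) : Prop := ∀ p ∈ s.T, g * p * g⁻¹ ∈ P

/-- a complement exists -/
def Cmp (t : G) : Prop := ∃ K : Subgroup G, IsComplement' (zpowers t) K

variable (s) in
/-- a 2-group centralizing `Q` -/
structure BW (W : Subgroup G) : Prop where
  Zle : s.Z ≤ W
  cen : W ≤ Cen s.Q
  nor : s.D ≤ Nor W
  two : IsPGroup 2 W
  cap : ∀ w ∈ W, w ∈ s.C → w ∈ s.Z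

theorem fixC (hg : g ∈ Nor s.Q) (e : s.th g = H.sg) :
    ∃ a₀, ∀ x ∈ s.CQ, s.ia (g * x * g⁻¹) = s.ia x → s.ia x ∈ H.ln a₀ :=
  (H.fixl (s.ka g)).imp fun a₀ f x hx e' => H.mem_ln.2 (f.2 _ (by rw [actC hg hx, e] at e'; exact e'))

namespace Tw

variable (ht : s.Tw t)
include ht

theorem tt : t * t = 1 := s.ee t ht.mem
theorem E_eq : s.E = zpowers t := le_antisymm (fun e he => (ht.all e he).elim (fun f => f ▸ one_mem _)
  fun f => f ▸ mem_zpowers _) (zpowers_le.2 ht.mem)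
theorem syl : IsSylowOf 2 s.T (Cen1 t) := s.cE t ht.mem ht.ne ▸ s.T_syl'
theorem card : Nat.card s.E = 2 := by
  rw [ht.E_eq, Nat.card_zpowers, orderOf_eq_prime (by rw [sq, ht.tt]) ht.ne]
theorem cls (g : G) : s.Cls (g * t * g⁻¹) := Hy.cls ht.mem ht.ne g
theorem cov (h : t ∈ Nor M) : ∀ a ∈ s.E ⊔ M, ∀ b ∈ s.E ⊔ M, a ∉ M → b ∉ M → a * b ∈ M := by
  rw [ht.E_eq, sup_comm]; exact cover_zp ht.tt h

theorem finB (hP : IsSylowOf 2 P ⊤) (TP : s.T ≤ P) (hM : M ≤ P)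
    (h2 : ∀ x ∈ P, ∀ y ∈ P, x ∉ M → y ∉ M → x * y ∈ M) (tM : t ∉ M)
    (h : (∀ g, s.Ext P g → g * t * g⁻¹ ∉ M) ∨
      ∀ g, s.Ext P g → g * t * g⁻¹ ∉ M → ∃ p ∈ P, g * t * g⁻¹ = p * t * p⁻¹) : Cmp t :=
  gt hP hM h2 ht.tt (s.E_T ht.mem) tM ht.syl TP h

theorem nb (hP : IsPGroup 2 P) (TP : s.T ≤ P) (hx : x ∈ Nor P) (h1 : x ∉ P) (h2 : x * x ∈ P)
    (hp : p ∈ P) : x * t * x⁻¹ ≠ p * t * p⁻¹ := fun f => h1 ((mul_mem_cancel_left (inv_mem hp)).1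
  (TP (back (two_sup_zp hP hx h2) (TP.trans le_sup_left) (mul_mem (mem_sup_left (inv_mem hp))
    (mem_sup_right (mem_zpowers x))) ht.mem ht.ne (mem_of_eq ht.mem (by
      rw [← cj (g := p), ← f]; group)))))

theorem finE (hP : IsPGroup 2 P) (TP : s.T ≤ P) (hM : M ≤ P)
    (h2 : ∀ x ∈ P, ∀ y ∈ P, x ∉ M → y ∉ M → x * y ∈ M) (tM : t ∉ M)
    (h : ∀ g, s.Ext P g → ∃ p ∈ P, g * t * g⁻¹ = p * t * p⁻¹) : Cmp t := by
  refine ht.finB (by_contra fun n => ?_) TP hM h2 tM (.inr fun g hg _ => h g hg)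
  obtain ⟨x, hx, h1, h2⟩ := grow hP n
  obtain ⟨p, hp, f⟩ := h x fun p hp => cmem hx (TP hp)
  exact ht.nb hP TP hx h1 h2 hp f

theorem sup_eq : W ⊔ s.T = s.E ⊔ (W ⊔ s.T ⊓ s.U) := by
  rw [sup_left_comm]; congr 1
  refine le_antisymm (fun x hx => ?_) (sup_le s.E_T inf_le_left)
  obtain ⟨e, he, v, hv, rfl⟩ := mem_T hx
  exact mul_mem (mem_sup_left he) (mem_sup_right hv)

end Tw

namespace BW

variable (b : s.BW W)
include b

theorem twoP : IsPGroup 2 ↥(W ⊔ s.T) := two_sup b.two s.twoT (s.T_D.trans b.nor)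
theorem P_N : W ⊔ s.T ≤ Nor s.Q := sup_le (cnor b.cen) s.T_N
theorem P_W : W ⊔ s.T ≤ Nor W := sup_le le_normalizer (s.T_D.trans b.nor)
theorem memP : p ∈ W ⊔ s.T ↔ ∃ w ∈ W, ∃ t ∈ s.T, w * t = p :=
  mem_sup_of_le_normalizer_left (s.T_D.trans b.nor)
theorem memRs : p ∈ W ⊔ s.Q ↔ ∃ w ∈ W, ∃ t ∈ s.Q, w * t = p :=
  mem_sup_of_le_normalizer_left ((s.Q_R0.trans s.R0_D).trans b.nor)
theorem M_le : W ⊔ s.T ⊓ s.U ≤ W ⊔ s.T := sup_le_sup_left inf_le_left _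
theorem Rs_M : W ⊔ s.Q ≤ W ⊔ s.T ⊓ s.U := sup_le_sup_left (le_inf s.Q_T s.QU) _
theorem R_P : s.E ⊔ (W ⊔ s.Q) ≤ W ⊔ s.T := sup_le (s.E_T.trans le_sup_right) (b.Rs_M.trans b.M_le)
theorem Rs_CQ : W ⊔ s.Q ≤ s.CQ := sup_le_sup_right b.cen _
theorem R_CQ : s.E ⊔ (W ⊔ s.Q) ≤ s.CQ := sup_le (s.E_cen.trans s.cen_le) b.Rs_CQ
theorem D_Rs : s.D ≤ Nor (W ⊔ s.Q) := nsup b.nor s.D_N
theorem nM (he : e ∈ s.E) (h : e ∈ W ⊔ s.T ⊓ s.U) : e = 1 := by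
  obtain ⟨w, hw, v, hv, rfl⟩ :=
    (mem_sup_of_le_normalizer_left (inf_le_left.trans (s.T_D.trans b.nor))).1 h
  exact s.EU _ he (mul_mem (s.QU (s.Z_le (b.cap w hw ((mul_mem_cancel_right (s.U_C hv.2)).1
    (s.E_C he))))) hv.2)
theorem cov (ht : s.Tw t) : ∀ x ∈ W ⊔ s.T, ∀ y ∈ W ⊔ s.T, x ∉ W ⊔ s.T ⊓ s.U → y ∉ W ⊔ s.T ⊓ s.U →
    x * y ∈ W ⊔ s.T ⊓ s.U := by
  rw [ht.sup_eq]
  exact ht.cov (msup (b.nor (s.E_D ht.mem)) (minf (le_normalizer (s.E_T ht.mem))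
    (s.C_norU (s.E_C ht.mem))))
theorem kerP (hp : p ∈ W ⊔ s.T) (h : s.th p = 1) : p ∈ s.E ⊔ (W ⊔ s.Q) := by
  obtain ⟨w, hw, t, ht, rfl⟩ := b.memP.1 hp
  rw [s.spQ.th_mul (mcnor (b.cen hw)) (s.T_N ht), th_CQ (s.cen_le (b.cen hw)), one_mul] at h
  exact mul_mem (mem_sup_right (mem_sup_left hw)) ((sup_le_sup_left le_sup_right _ : s.R0 ≤ s.E ⊔ (W ⊔ s.Q)) (kerT ht h))
theorem inRs (ht : s.Tw t) (h : y ∈ s.E ⊔ (W ⊔ s.Q)) (h' : y ∈ W ⊔ s.T ⊓ s.U) : y ∈ W ⊔ s.Q :=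
  by_contra fun n => ht.ne (b.nM ht.mem ((mul_mem_cancel_left h').1 (b.Rs_M (ht.cov (b.D_Rs
    (s.E_D ht.mem)) y h t (mem_sup_left ht.mem) n fun m => ht.ne (b.nM ht.mem (b.Rs_M m))))))
theorem cmRs (ab : ∀ a ∈ W, ∀ b ∈ W, a * b = b * a) (hx : x ∈ W ⊔ s.Q) (hy : y ∈ W ⊔ s.Q)
    (h : H.bf (s.ia x) (s.ia y) = 0) : x * y = y * x := by
  obtain ⟨w, hw, v, hv, rfl⟩ := b.memRs.1 hy
  rw [ia_cQ (b.cen hw) (s.Q_le hv)] at h
  rw [← mul_assoc, ← (c1.1 ((sup_le (fun a ha => c1.2 (ab a ha w hw)) (cen_iff_le.1 (b.cen hw)) : W ⊔ s.Q ≤ Cen1 w) hx)).symm,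
    mul_assoc, cmQ (b.Rs_CQ hx) hv, h, zc_zero, one_mul, mul_assoc]
theorem ext (ht : s.Tw t) (ab : ∀ a ∈ W, ∀ b ∈ W, a * b = b * a) (hg : s.Ext (W ⊔ s.T) g) :
    g * t * g⁻¹ ∈ s.E ⊔ (W ⊔ s.Q) := by
  have m := hg t (s.E_T ht.mem)
  refine b.kerP m (by_contra fun n => ?_)
  obtain ⟨a₀, f⟩ := fixC (b.P_N m) ((s.spQ.two (b.P_N m) (by simp [_root_.W.csq ht.tt])).resolve_left n)
  exact AB2 (R := W ⊔ s.Q) s.spQ ht.mem b.P_N (fun r hr => hg r (s.R0_T hr)) n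
    (fun x hx y hy h1 h2 => ht.cov (b.D_Rs (s.E_D ht.mem)) x (b.kerP hx h1) y (b.kerP hy h2))
    fun x hx y hy => b.cmRs ab hx.1 hy.1 (H.bf_ln (f x (b.Rs_CQ hx.1) (by rw [c1'.1 (c1s.1 hx.2)]))
      (f y (b.Rs_CQ hy.1) (by rw [c1'.1 (c1s.1 hy.2)])))
theorem finE (ht : s.Tw t) (ab : ∀ a ∈ W, ∀ b ∈ W, a * b = b * a)
    (h : ∀ y ∈ s.E ⊔ (W ⊔ s.Q), s.Cls y → ∃ p ∈ W, y = p * t * p⁻¹) : Cmp t :=
  ht.finE b.twoP le_sup_right b.M_le (b.cov ht) (mt (b.nM ht.mem) ht.ne) fun g hg =>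
    (h _ (b.ext ht ab hg) (ht.cls g)).imp fun _ h => ⟨mem_sup_left h.1, h.2⟩
theorem finB (ht : s.Tw t) (ab : ∀ a ∈ W, ∀ b ∈ W, a * b = b * a) (hP : IsSylowOf 2 (W ⊔ s.T) ⊤)
    (h : ∀ y ∈ W ⊔ s.Q, ¬ s.Cls y) : Cmp t :=
  ht.finB hP le_sup_right b.M_le (b.cov ht) (mt (b.nM ht.mem) ht.ne) (.inl fun g hg m =>
    h _ (b.inRs ht (b.ext ht ab hg) m) (ht.cls g))

end BW

theorem TW.bw {j : ℕ} (h : s.TW W j) : s.BW W := ⟨h.Zle, h.cen, h.nor, h.two, fun w hw hc => by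
  obtain ⟨e, he, e1⟩ := s.exE
  have := h.inv e he e1 w hw
  rw [← EC he hc, mul_assoc, s.ee e he, mul_one] at this
  exact h.om w hw (by nth_rewrite 1 [this]; simp)⟩

theorem clsA (h : ∀ x ∈ Nor s.R0, x ∈ Nor s.E) (hc : s.Cls y) (hy : y ∈ s.A) : y ∈ s.E := by
  obtain ⟨g, e, he, e1, rfl⟩ := hc
  obtain ⟨k, e2, f⟩ := NI he e1 (X := s.R0) (fun x hx => c1.2 (A_R hy hx)) s.twoR0 (fun _ => sqR) le_rfl
  exact e2 ▸ cmem (h k (mem_normalizer_iff_conjS.2 f.symm)) he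

theorem Tw.case0 (ht : s.Tw t) (h : ∀ x ∈ Nor s.R0, x ∈ Nor s.E) : Cmp t :=
  s.tw0.bw.finE ht s.tw0.ab fun y hy hc => ⟨1, one_mem _, by
    rw [sup_eq_right.2 s.Z_le] at hy
    have := (ht.all y (clsA h hc (memA' hy hc.sq))).resolve_left fun e => noZ hc (e ▸ one_mem _)
    simpa using this⟩

namespace L1

variable (L : s.L1)

theorem bw : s.BW L.W := ⟨L.Zle, L.cen, L.nor, L.twoR.to_le L.W_R, fun w hw hc => by
  obtain ⟨e, he, f⟩ := L.ex1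
  have := (cmi (L.W_R hw) (L.E_R he)).1 (EC he hc)
  exact L.kerW w hw (by simpa [gaW hw, iaW hw, f] using this)⟩
theorem ab : ∀ a ∈ L.W, ∀ b ∈ L.W, a * b = b * a := fun a ha b hb => Wab ha (L.W_Rs hb)
theorem gat (ht : s.Tw t) : L.ga t = 1 := by
  obtain ⟨e, he, f⟩ := L.ex1
  rcases ht.all e he with rfl | rfl
  · exact absurd (L.aga.one.symm.trans f) zero_ne_one
  · exact f
theorem nfull (ht : s.Tw t) : ¬ ∀ b, ∃ e ∈ s.E, L.ga e = b := fun h => by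
  obtain ⟨κ, k0, k1⟩ := H.ex2
  obtain ⟨e, he, rfl⟩ := h κ
  exact (ht.all e he).elim (fun f => k0 (f ▸ L.aga.one)) fun f => k1 (f ▸ L.gat ht)
variable {L} in
theorem AZ (hy : y ∈ s.A) (h : L.ga y = 0) : y ∈ s.Z :=
  mZ (L.R0_R (s.A_R0 hy)) h (L.xi0 y (s.A_R0 hy)) (iaA hy)

theorem case_c (ht : s.Tw t) (c0 : L.c ≠ 0) (c1 : L.c ≠ 1) : Cmp t :=
  L.bw.finE ht L.ab fun y hy hc => by
    obtain ⟨w, hw, e, he, e1, f⟩ := L.cjA hc (by_contra fun n => by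
      rcases (cja hc hy n).2 with h | h | h
      exacts [c0 h.1, c0 h.1, (h.2.2.2 t ht.mem).elim (by simp [L.gat ht]) (L.gat ht ▸ c1.symm)])
    exact ⟨w, hw, (ht.all e he).resolve_left e1 ▸ f⟩

theorem noRs (c0 : L.c ≠ 0) (hy : y ∈ L.Rs) : ¬ s.Cls y := fun hc => noZ hc (AZ (by_contra fun n => by
  rcases (cja hc (L.Rs_R hy) n).2 with h | h | h
  exacts [c0 h.1, c0 h.1, c0 (h.2.1.symm.trans (L.ga0 y hy))]) (L.ga0 y hy))

theorem sqW (c1 : L.c = 1) (hw : w ∈ L.W) : w * w = s.zc (L.xi w) := by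
  simp [L.sq w (L.W_R hw), gaW hw, iaW hw, c1]

theorem tw1 (ht : s.Tw t) (c1 : L.c = 1) : s.TW L.W 1 := by
  refine ⟨L.Zle, L.cen, L.ab, fun e he e1 w hw => ?_, fun w hw => ?_, fun b => (L.exW b).imp
    fun w h => ⟨h.1, ?_⟩, fun w hw h => ?_, fun w hw h => ?_, L.nor, L.h0⟩
  · obtain rfl := (ht.all e he).resolve_left e1
    refine eq_inv_of_mul_eq_one_left ?_
    rw [mul_assoc, L.sq _ (mul_mem (L.E_R he) (L.W_R hw)), L.aga _ (L.E_R he) _ (L.W_R hw),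
      L.aia _ (L.E_R he) _ (L.W_R hw)]
    simp [gaW hw, iaW hw, iaE he, L.gat ht, c1, H.aK]
  · rw [pow_one, pow_two, L.sqW c1 hw]; exact s.zZ _
  · rw [pow_one, pow_two, L.sqW c1 h.1, h.2]
  · rw [pow_one, pow_two, L.sqW c1 hw, zc_eq_one] at h
    obtain ⟨b, rfl⟩ := L.kerW w hw h
    obtain ⟨v, hv, rfl⟩ := L.exW b
    exact ⟨v, hv, (L.sqW c1 hv).symm⟩
  · exact L.kerW w hw (by rwa [L.sqW c1 hw, zc_eq_one] at h)

theorem nci (c1 : L.c = 1) {a : F} (a0 : a ≠ 0) : ∃ r ∈ L.Rs, ∃ r' ∈ L.Rs, r * r = 1 ∧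
    L.xi r = H.bf (s.ia r) a ∧ L.xi r' = H.bf (s.ia r') a ∧ r * r' ≠ r' * r := by
  have n1 : H.nm H.ω ≠ 0 := H.nm_ne fun e => H.om_ne (by simp [e])
  obtain ⟨r, hr, a1, a2, a3⟩ := L.exRs ((H.nm H.ω)⁻¹ * H.nm a) (((H.nm H.ω)⁻¹ : H.K) * (H.ω * a))
  obtain ⟨a', f⟩ := H.ex_bf (a := s.ia r) (by simp [a3, a0, H.nm_eq_zero.not.1 n1]) 1
  obtain ⟨r', hr', b1, b2, b3⟩ := L.exRs (H.bf a' a) a'
  refine ⟨r, mRs hr a1, r', mRs hr' b1, (sqi hr).2 ?_, by rw [a2, a3, H.k_bf, H.bf_comm, H.bf_om],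
    by rw [b2, b3], by simp [cmi hr hr', a1, b1, b3, f]⟩
  rw [a1, a2, a3, c1, H.nm_mul, H.nm_mul, H.nm_k]; field_simp; simp [H.aK]

end L1

namespace TW

variable {j : ℕ} (h : s.TW W j) (ht : s.Tw t)
include h ht

theorem noRs (L : s.L1) (c1 : L.c = 1) (le : L.W ≤ W) (hy : y ∈ W ⊔ s.Q) : ¬ s.Cls y := fun hc => by
  obtain ⟨w, hw, x, hx, rfl⟩ := h.bw.memRs.1 hy
  have := hc.sq
  rw [mul_assoc, ← mul_assoc x, ← GW.cen.1 (h.cen hw) x hx, mul_assoc, ← mul_assoc, sqQ hx] at this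
  obtain ⟨w₁, m, f⟩ := L.exW (H.nm (s.ia x))
  have e := h.om _ (mul_mem hw (le m)) (by
    rw [mul_assoc, ← mul_assoc w₁, h.ab w₁ (le m) w hw, mul_assoc, ← mul_assoc, L.sqW c1 m, f, this])
  exact L.noRs (c1 ▸ one_ne_zero) (mul_mem (L.W_Rs ((mul_mem_cancel_right m).1 (L.Zle e)))
    (L.Q_Rs hx)) hc

theorem tW (hw : w ∈ W) (hx : x ∈ s.Q) (e : t * (w * x) * (t * (w * x)) = 1) : w * x ∈ W := by
  rw [show t * (w * x) * (t * (w * x)) = t * w * (x * t) * w * x by group, EC ht.mem (s.Q_C hx),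
    ← mul_assoc, h.inv t ht.mem ht.ne w hw, mul_assoc w⁻¹, ← GW.cen.1 (h.cen hw) x hx] at e
  exact mul_mem hw (h.Zle (sq1 hx (by simpa [mul_assoc] using e)))

theorem cjT (L : s.L1) (c1 : L.c = 1) (le : L.W ≤ W) (hy : y ∈ s.E ⊔ (W ⊔ s.Q)) (hc : s.Cls y) :
    ∃ w ∈ W, y = t * w := by
  obtain ⟨e, he, w, hw, x, hx, rfl⟩ := (decR h.nor).1 hy
  rcases ht.all e he with rfl | rfl
  · exact absurd hc (h.noRs ht L c1 le (by simpa using mul_mem (mem_sup_left hw) (mem_sup_right hx)))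
  · exact ⟨_, h.tW ht hw hx hc.sq, rfl⟩

theorem cjW (c : s.Co W (s.KE (Cen s.Q) W) V (s.lj j)) (hw : w ∈ W) : ∃ k ∈ V, t * w = k * t * k⁻¹ := by
  obtain ⟨k, hk, f⟩ := c.sur t ht.mem ht.ne (s.lj j w⁻¹)
  have m := (c.le' hk).2 t ht.mem
  obtain ⟨v, hv, f1⟩ := h.ker _ (mul_mem (inv_mem m) (inv_mem hw)) ((h.lj0 (mul_mem (inv_mem m)
    (inv_mem hw))).1 (h.add.div m (inv_mem hw) f))
  refine ⟨v * k, mul_mem (c.le hv) hk, ?_⟩
  have f2 := h.inv t ht.mem ht.ne _ (inv_mem hv)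
  calc t * w = w⁻¹ * t := by rw [← h.inv t ht.mem ht.ne w hw, mul_assoc, ht.tt, mul_one]
    _ = (k * t * k⁻¹ * t) * v * (t * v⁻¹ * t) * t := by rw [f2, inv_inv, mul_assoc _ v v, ← f1]; group
    _ = _ := by rw [h.ab _ m v hv]; simp only [mul_assoc, ← mul_assoc t t, ht.tt, one_mul, mul_one,
      mul_inv_rev]

theorem up (L : s.L1) (c1 : L.c = 1) (le : L.W ≤ W) (j0 : j ≠ 0) (n : ¬ IsSylowOf 2 (W ⊔ s.T) ⊤) :
    ∃ V, s.Co W (s.KE (Cen s.Q) W) V (s.lj j) ∧ s.D ≤ Nor V ∧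
      ∀ l, H.nm (H.mu l) = 1 → ∀ w ∈ V, s.h l * w = w * s.h l := by
  have b := h.bw
  obtain ⟨x, hx, x1, x2⟩ := grow b.twoP n
  have ex : s.Ext (W ⊔ s.T) x := fun p hp => cmem hx (mem_sup_right hp)
  obtain ⟨w, hw, f⟩ := h.cjT ht L c1 le (b.ext ht h.ab ex) (ht.cls x)
  obtain ⟨l, l1, l2⟩ := H.ex_l0
  have nQ : x ∈ Nor s.Q := by
    have cy : ∀ v ∈ s.Q, v * (t * w) = t * w * v := fun v hv => by
      rw [← mul_assoc, EC ht.mem (s.Q_C hv), mul_assoc, mul_assoc, GW.cen.1 (h.cen hw) v hv]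
    have yy : t * w * (t * w) = 1 := f ▸ _root_.W.csq (g := x) ht.tt
    have ny : t * w ∈ Nor s.Q := mcnor (GW.cen.2 fun v hv => (cy v hv).symm)
    have mX := fun a => TW.mem_sup_zp' (M := s.Q) (x := a) (yy ▸ one_mem _) ny
    have cC : ∀ g, g * (t * w) = t * w * g → x⁻¹ * g * x ∈ s.C := fun g e => (cC ht.mem ht.ne).2 (by
      rw [← cj (g := x), ← conj_mul, ← conj_mul (a := t), f]; simpa [mul_assoc] using e)
    have le1 : s.Q ⊔ zpowers (t * w) ≤ W ⊔ s.T ⊓ Cen1 (t * w) ⊔ zpowers (t * w) := sup_le_sup_right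
      (le_sup_of_le_right (le_inf s.Q_T fun v hv => GW.c1.2 (cy v hv))) _
    have e0 : conjS x⁻¹ (s.Q ⊔ zpowers (t * w)) = s.R0 := L0 (fun a ha => by
      have m := mem_conjS.1 ha
      have m1 : x⁻¹⁻¹ * a * x⁻¹ ∈ (W ⊔ s.T) ⊓ Cen1 (t * w) := sup_le (le_inf (s.Q_T.trans le_sup_right)
        fun v hv => GW.c1.2 (cy v hv)) (zpowers_le.2 ⟨f ▸ ex t (s.E_T ht.mem), GW.c1.2 rfl⟩) m
      exact inT b.twoP le_sup_right (mem_of_eq (cmem' hx m1.1) (by group))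
        (mem_of_eq (cC _ (GW.c1.1 m1.2)) (by group)))
      (fun a ha => GW.cen.2 fun a' ha' => by
        have m : ∀ a ∈ s.Q ⊔ zpowers (t * w), a * a ∈ s.Z := fun a ha => by
          rcases (mX a).1 ha with m | m
          · exact sqQ m ▸ s.zZ _
          · have := sqQ m
            rw [mul_assoc, ← mul_assoc (t * w), ← GW.c1.1 (sup_le (fun v hv => GW.c1.2 (cy v hv))
              (zpowers_le.2 (GW.c1.2 rfl)) ha), mul_assoc, yy, mul_one] at this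
            exact this ▸ s.zZ _
        have := cZ' (sup_le s.Q_le (zpowers_le.2 (mul_mem (s.cen_le (s.E_cen ht.mem))
          (s.cen_le (h.cen hw)))) (mem_conjS.1 ha')) (m _ (mem_conjS.1 ha))
        rw [inv_inv, conj_mul, cjc] at this
        exact this.symm) (by
      rw [card_conjS, SF.card_sup_zp ny (yy ▸ one_mem _) fun m => ht.ne (b.nM ht.mem (b.Rs_M
        ((mul_mem_cancel_right (mem_sup_left hw)).1 (mem_sup_right m)))), cardR0, ht.card, cardQ])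
    have e1 : conjS x s.R0 = s.Q ⊔ zpowers (t * w) := by rw [← e0, conjS_conjS_inv]
    have c0 : s.h l * (t * w) = t * w * s.h l := by
      rw [← mul_assoc, EC ht.mem (s.hC l), mul_assoc, mul_assoc, h.h0 l l1 w hw]
    exact NQ (l := l) (fun e => l2 (by rw [e, map_one])) (e1 ▸ le_sup_left) (cC _ c0)
      (e1 ▸ msup (s.hN l) (mzp (GW.c1.2 c0)))
  have nE : ∀ g ∈ Nor (W ⊔ s.T), g ∈ Nor s.Q → ∀ a ∈ s.E ⊔ W, g * a * g⁻¹ ∈ s.E ⊔ W :=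
    fun g g1 g2 a ha => by
      have m := cmem (mcen g2) (sup_le s.E_cen h.cen ha)
      obtain ⟨e, he, w, hw, v, hv, f⟩ := (decR h.nor).1 (b.kerP (cmem g1 (sup_le (s.E_T.trans
        le_sup_right) le_sup_left ha)) (th_CQ (s.cen_le m)))
      rw [f] at m ⊢
      rw [mul_mem_cancel_left (s.E_cen he), mul_mem_cancel_left (h.cen hw)] at m
      exact mul_mem (mem_sup_left he) (mem_sup_right (mul_mem hw (h.Zle (memZ hv (ia_cen m)))))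
  have nW : x ∈ Nor W := mnor fun a ha => by
    obtain ⟨e, he, v, hv, f'⟩ := h.mem.1 (nE x hx nQ a (mem_sup_right ha))
    rcases ht.all e he with rfl | rfl
    · simpa [← f'] using hv
    refine h.Zle (cmem (s.norZ nQ) (h.om a ha ?_))
    rw [← conj_eq_one_iff (a := x), ← conj_mul, ← f', ← mul_assoc, h.inv e he ht.ne v hv, inv_mul_cancel]
  refine h.step (inv_mem nQ) (inv_mem nW) (inv_mem (mnor (nE x hx nQ))) ht.mem ht.mem hw
    (by rw [inv_inv, f]) fun e => ?_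
  obtain ⟨v, hv, rfl⟩ := h.ker w hw e
  refine ht.nb b.twoP le_sup_right hx x1 x2 (mem_sup_left (inv_mem hv)) ?_
  rw [f, ← h.inv t ht.mem ht.ne v hv, mul_assoc _ t t, ht.tt, h.inv t ht.mem ht.ne v hv]; group

end TW

variable (s) in
/-- the special configuration -/
structure Sx (t : G) (W V : Subgroup G) : Prop where
  ht : s.Tw t
  tw : s.TW W 1
  co : s.Co W (s.KE (Cen s.Q) W) V (s.lj 1)
  nor : s.D ≤ Nor V
  cz : ∀ k ∈ V, ∀ w ∈ W, k * w * k⁻¹ * w⁻¹ ∈ s.Z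
  cv : ∀ k ∈ V, ∀ w ∈ W, s.ze (k * w * k⁻¹ * w⁻¹) * s.ze (k * w * k⁻¹ * w⁻¹) =
    EU.om (s.lj 1) t k * s.lj 1 w
  sz : ∀ k ∈ V, k * k ∈ s.Z

namespace TW

variable {j : ℕ} (h : s.TW W (j + 1)) (ht : s.Tw t) (c : s.Co W (s.KE (Cen s.Q) W) V (s.lj (j + 1)))
  (nV : s.D ≤ Nor V)
include h ht c nV

theorem omh (l : Fˣ) (hk : k ∈ V) : EU.om (s.lj (j + 1)) t (s.h l * k * (s.h l)⁻¹) =
    H.nm (H.mu l) * EU.om (s.lj (j + 1)) t k := by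
  rw [EU.om, EU.om, ← h.lh l ((c.le' hk).2 t ht.mem), ← conj_mul, ← conj_mul, ← conj_mul, hE l ht.mem,
    ← conj_inv]

theorem dich : (∀ k ∈ V, ∀ w ∈ W, k * w = w * k) ∨ j = 0 ∧ s.Sx t W V := by
  classical
  have VC : V ≤ Cen s.Q := fun k hk => (c.le' hk).1.1
  have VW : V ≤ Nor W := fun k hk => (c.le' hk).1.2
  have mW : ∀ k ∈ V, ∀ w ∈ W, k * w * k⁻¹ * w⁻¹ ∈ W := fun k hk w hw =>
    mul_mem (cmem (VW hk) hw) (inv_mem hw)
  have ex : ∃ m, ∀ k ∈ V, ∀ w ∈ W, (k * w * k⁻¹ * w⁻¹) ^ 2 ^ m = 1 := ⟨j + 1, fun k hk w hw => by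
    rw [← h.lj0 (mW k hk w hw), h.add _ (cmem (VW hk) hw) _ (inv_mem hw), h.liv (VC hk) hw,
      h.add.inv hw, add_neg_cancel]⟩
  have h1 := Nat.find_spec ex
  rcases hm : Nat.find ex with _ | i
  · exact .inl fun k hk w hw => by
      simpa [hm, mul_inv_eq_one, mul_inv_eq_iff_eq_mul] using h1 k hk w hw
  have ij : i ≤ j := by
    have : Nat.find ex ≤ j + 1 := Nat.find_min' ex fun k hk w hw => by
      rw [← h.lj0 (mW k hk w hw), h.add _ (cmem (VW hk) hw) _ (inv_mem hw), h.liv (VC hk) hw,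
        h.add.inv hw, add_neg_cancel]
    omega
  rw [hm] at h1
  have mZ : ∀ k ∈ V, ∀ w ∈ W, (k * w * k⁻¹ * w⁻¹) ^ 2 ^ i ∈ s.Z := fun k hk w hw =>
    h.om _ (pow_mem (mW k hk w hw) _) (by rw [← pow_two, ← pow_mul, ← pow_succ, h1 k hk w hw])
  have mr : ∀ k ∈ V, ∀ a ∈ W, ∀ b ∈ W, k * (a * b) * k⁻¹ * (a * b)⁻¹ =
      k * a * k⁻¹ * a⁻¹ * (k * b * k⁻¹ * b⁻¹) := fun k hk a ha b hb => by
    rw [mul_assoc _ a⁻¹, h.ab _ (inv_mem ha) _ (mW k hk b hb)]; group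
  obtain ⟨γ, hγ⟩ := pair ((c.add t ht.mem).mono c.le') (c.sur t ht.mem ht.ne) h.add h.lsur
    (φ := fun k w => s.lj i (k * w * k⁻¹ * w⁻¹)) (fun w hw a ha b hb => by
      simp only [lj]
      rw [add_comm, ← s.ze_add _ (mZ b hb w hw) _ (mZ a ha w hw), ← mul_inv_cancel_right ((b * w * b⁻¹ * w⁻¹) ^ 2 ^ i) a,
        ← cZ' (s.cen_le (VC ha)) (mZ b hb w hw), ← conj_pow, ← Commute.mul_pow (h.ab _ (cmem (VW ha)
        (mW b hb w hw)) _ (mW a ha w hw))]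
      congr 2; group) (fun k hk a ha b hb => by
      simp only [lj]
      rw [mr k hk a ha b hb, Commute.mul_pow (h.ab _ (mW k hk a ha) _ (mW k hk b hb)),
        s.ze_add _ (mZ k hk a ha) _ (mZ k hk b hb)])
    (fun w hw k hk f => by simp [lj, h.ab k (c.ker t ht.mem ht.ne k hk f) w hw])
    (fun k hk w hw f => by
      obtain ⟨v, hv, rfl⟩ := h.ker w hw ((h.lj0 hw).1 f)
      simp only [lj]
      rw [mr k hk v hv v hv, ← pow_two, ← pow_mul, ← pow_succ', h1 k hk v hv, ze_one])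
    (fun l => nV (s.hD l)) (fun l => h.nor (s.hD l)) (fun l k => h.omh ht c nV l) (fun l w => h.lh l)
    fun l k hk w hw => by
      simp only [lj]
      rw [← zeh l (mZ k hk w hw), ← conj_pow]; congr 2; group
  have γ0 : γ ≠ 0 := fun e => Nat.find_min ex (show i < Nat.find ex by omega) fun k hk w hw => by
    have := hγ k hk w hw
    simp only [e, zero_mul, mul_self_eq_zero] at this
    exact (ze0 (mZ k hk w hw)).1 this
  have kv : ∀ k ∈ V, s.lj (j + 1) (k * k) = EU.om (s.lj (j + 1)) t k +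
      s.lj j (k * (k * t * k⁻¹ * t) * k⁻¹ * (k * t * k⁻¹ * t)⁻¹) := fun k hk => by
    have m := (c.le' hk).2 t ht.mem
    have e1 := h.inv t ht.mem ht.ne _ (inv_mem (c.sq k hk))
    have e2 : k * k * (k * k) = k * t * k⁻¹ * t * (k * t * k⁻¹ * t) *
        (k * (k * t * k⁻¹ * t) * k⁻¹ * (k * t * k⁻¹ * t)⁻¹) := by
      rw [mul_assoc _ (k * t * k⁻¹ * t), h.ab _ m _ (mW k hk _ m), inv_mul_cancel_right,
        h.ab _ m _ (cmem (VW hk) m)]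
      rw [inv_inv] at e1
      nth_rewrite 2 [← e1]
      simp only [mul_assoc, mul_inv_rev, inv_mul_cancel_left, ← mul_assoc t t, ht.tt, one_mul]
    have e3 : (k * (k * t * k⁻¹ * t) * k⁻¹ * (k * t * k⁻¹ * t)⁻¹) ^ 2 ^ j ∈ s.Z := by
      obtain ⟨d, rfl⟩ := Nat.exists_eq_add_of_le ij
      rw [pow_add, pow_mul]; exact pow_mem (mZ k hk _ m) _
    rw [EU.om, lj, lj, lj, ← s.ze_add _ (h.pw _ m) _ e3, pow_succ', pow_mul, pow_mul, pow_two, pow_two,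
      e2, Commute.mul_pow (h.ab _ (mul_mem m m) _ (mW k hk _ m))]
  have k0 : ∀ k ∈ V, EU.om (s.lj (j + 1)) t k * s.lj (j + 1) (k * k) = 0 := fun k hk => by
    have := hγ k hk _ (c.sq k hk)
    simp only [show k * (k * k) * k⁻¹ * (k * k)⁻¹ = 1 by group, lj, one_pow, ze_one] at this
    simpa [γ0, lj] using this
  obtain ⟨k₁, m₁, f₁⟩ := c.sur t ht.mem ht.ne 1
  rcases ij.eq_or_lt with rfl | lt
  swap
  · have := k0 k₁ m₁
    obtain ⟨d, rfl⟩ := Nat.exists_eq_add_of_le (Nat.succ_le_of_lt lt)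
    rw [kv k₁ m₁, f₁, lj, pow_add, pow_mul, h1 k₁ m₁ _ ((c.le' m₁).2 t ht.mem)] at this
    simp at this
  have t2 := H.twoK
  have kw : ∀ k ∈ V, s.lj (i + 1) (k * k) = (1 + γ) * EU.om (s.lj (i + 1)) t k := fun k hk => by
    rw [kv k hk, H.sqK (b := γ * EU.om (s.lj (i + 1)) t k) ((hγ k hk _ ((c.le' hk).2 t ht.mem)).trans
      (by rw [EU.om]; ring))]; ring
  obtain rfl : γ = 1 := by
    have := k0 k₁ m₁
    rw [kw k₁ m₁, f₁] at this; grind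
  rcases i with _ | i
  · refine .inr ⟨rfl, ht, h, c, nV, by simpa using mZ, by simpa [lj] using hγ, fun k hk =>
      h.om _ (c.sq k hk) ?_⟩
    simpa [pow_two] using (h.lj0 (c.sq k hk)).1 (by rw [kw k hk, H.aK, zero_mul])
  exfalso
  obtain ⟨κ, κ0, κ1⟩ := H.ex2
  obtain ⟨w, hw, f⟩ := h.lsur κ
  obtain ⟨v, hv, f1⟩ := h.ker _ (mW k₁ m₁ w hw) (h1 k₁ m₁ w hw)
  have e1 := hγ k₁ m₁ w hw
  have e2 := hγ k₁ m₁ v hv
  have e3 : s.lj (i + 1) (v * v) = s.lj (i + 1 + 1) v := by rw [lj, lj, ← pow_two, ← pow_mul, ← pow_succ']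
  have e4 : (k₁ * v * k₁⁻¹ * v⁻¹ * (v * v)) ^ 2 = 1 := by
    rw [Commute.mul_pow (h.ab _ (mW k₁ m₁ v hv) _ (mul_mem hv hv)), pow_two, ← mr k₁ m₁ v hv v hv,
      pow_two, ← mul_assoc, inv_mul_cancel_right, ← f1, ← mul_left_inj w, mul_assoc _ _ w,
      inv_mul_cancel_right, conj_mul, inv_mul_cancel_right, one_mul, ← mul_assoc, ← mul_assoc,
      h.ab _ (c.sq k₁ m₁) w hw]
    group
  have e5 : s.lj (i + 1) (k₁ * v * k₁⁻¹ * v⁻¹) = s.lj (i + 1) (v * v) := by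
    have : (k₁ * v * k₁⁻¹ * v⁻¹ * (v * v)) ^ 2 ^ (i + 1) = 1 := by rw [pow_succ', pow_mul, e4, one_pow]
    rw [Commute.mul_pow (h.ab _ (mW k₁ m₁ v hv) _ (mul_mem hv hv)), mul_eq_one_iff_inv_eq,
      inv2 (zz (mZ k₁ m₁ v hv))] at this
    rw [lj, this, lj]
  simp only [f1, e3, e5, f₁, f] at e1 e2
  grind

theorem abV (hc : ∀ k ∈ V, ∀ w ∈ W, k * w = w * k) : ∀ a ∈ V, ∀ b ∈ V, a * b = b * a := fun a ha b hb =>
  abel ((c.add t ht.mem).mono c.le') (c.sur t ht.mem ht.ne)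
    (fun k hk => CQ_Z (s.cen_le (c.le' hk).1.1))
    (fun k hk f => GW.cen.2 fun x hx => (hc x hx k (c.ker t ht.mem ht.ne k hk f)).symm)
    (fun x hx y hy => h.om _ (c.cm x (c.le' hx) y (c.le' hy)) (by
      have m := c.cm x (c.le' hx) y (c.le' hy)
      nth_rewrite 1 [← mul_inv_cancel_right (x * y * x⁻¹ * y⁻¹) x, ← hc x hx _ m]
      rw [show x * (x * y * x⁻¹ * y⁻¹) * x⁻¹ * (x * y * x⁻¹ * y⁻¹) = x * x * y * (x * x)⁻¹ * y⁻¹ by group,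
        ← hc y hy _ (c.sq x hx)]; group)) (fun l => nV (s.hD l)) (fun l k => h.omh ht c nV l) ha hb

theorem fin (L : s.L1) (c1 : L.c = 1) (le : L.W ≤ W) (ab : ∀ a ∈ V, ∀ b ∈ V, a * b = b * a)
    (h0 : ∀ l, H.nm (H.mu l) = 1 → ∀ w ∈ V, s.h l * w = w * s.h l) : s.TW V (j + 2) ∨ Cmp t := by
  have VC : V ≤ Cen s.Q := fun k hk => (c.le' hk).1.1
  have tN := nV (s.E_D ht.mem)
  have tV : ∀ k ∈ V, t * k * t ∈ V := fun k hk => mem_of_eq (cmem tN hk) (by rw [einv ht.mem])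
  have e1 : ∀ k, k * t * k⁻¹ * t = k * k * (t * k * t * k)⁻¹ := fun k => by
    simp only [mul_inv_rev, einv ht.mem]; group
  have uZ : ∀ k ∈ V, t * k * t * k ∈ s.Z := fun k hk => by
    have m := (Subgroup.inv_mem_iff _).1 ((mul_mem_cancel_left (c.sq k hk)).1
      (e1 k ▸ (c.le' hk).2 t ht.mem))
    refine h.om _ m (mul_eq_one_iff_eq_inv.2 ?_)
    rw [← h.inv t ht.mem ht.ne _ m, show t * (t * k * t * k) * t = t * t * (k * (t * k * t)) by group,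
      ht.tt, one_mul, ab k hk _ (tV k hk)]
  have e2 : ∀ k ∈ V, EU.om (s.lj (j + 1)) t k = s.lj (j + 1) (k * k) := fun k hk => by
    rw [EU.om, e1, h.add _ (c.sq k hk) _ (inv_mem (h.Zle (uZ k hk))), (h.lj0 (inv_mem (h.Zle
      (uZ k hk)))).2 (by rw [pow_succ', pow_mul, pow_two, zz (inv_mem (uZ k hk)), one_pow]), add_zero]
  have kW : ∀ k ∈ V, k * k ∈ s.Z → k ∈ W := fun k hk m => c.ker t ht.mem ht.ne k hk (by
    rw [e2 k hk, h.lj0 (c.sq k hk), pow_succ', pow_mul, pow_two, zz m, one_pow])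
  obtain ⟨γ, hγ⟩ := lin ((c.add t ht.mem).mono c.le') (c.sur t ht.mem ht.ne)
    (φ := fun k => s.ze (t * k * t * k)) (fun a ha b hb => by
      simp only
      rw [← s.ze_add _ (uZ a ha) _ (uZ b hb), mul_assoc _ a, ab a ha _ (mul_mem (tV b hb) hb),
        mul_assoc _ b a, ab b hb a ha]
      congr 1
      simp only [mul_assoc, ← mul_assoc t t, ht.tt, one_mul])
    (fun k hk f => by simp [h.inv t ht.mem ht.ne k (c.ker t ht.mem ht.ne k hk f)])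
    (fun l => nV (s.hD l)) (fun l k => h.omh ht c nV l) fun l k hk => by
      rw [← zeh l (uZ k hk), ← conj_mul, ← conj_mul, ← conj_mul, hE l ht.mem]
  have pw : ∀ k : G, k ^ 2 ^ (j + 2) = (k * k) ^ 2 ^ (j + 1) := fun k => by
    rw [pow_succ', pow_mul, pow_two]
  by_cases γ0 : γ = 0
  · refine .inl ⟨h.Zle.trans c.le, VC, ab, fun e he e1 k hk => ?_, fun k hk => pw k ▸ h.pw _ (c.sq k hk),
      fun b => (c.sur t ht.mem ht.ne b).imp fun k f => ⟨f.1, ?_⟩, fun k hk f => ?_,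
      fun k hk f => h.om k (kW k hk (f ▸ one_mem _)) f, nV, h0⟩
    · obtain rfl := (ht.all e he).resolve_left e1
      exact eq_inv_of_mul_eq_one_left ((ze0 (uZ k hk)).1 (by simpa [γ0] using hγ k hk))
    · rw [pw, ← f.2, e2 k f.1, lj, zc_ze (h.pw _ (c.sq k f.1))]
    have m := c.ker t ht.mem ht.ne k hk (by rw [e2 k hk, h.lj0 (c.sq k hk), ← pw, f])
    obtain ⟨v, hv, f1⟩ := c.sur t ht.mem ht.ne (s.lj (j + 1) k)
    obtain ⟨w, hw, f2⟩ := h.ker _ (mul_mem (inv_mem (c.sq v hv)) m) ((h.lj0 (mul_mem (inv_mem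
      (c.sq v hv)) m)).1 (h.add.div (c.sq v hv) m (e2 v hv ▸ f1)))
    exact ⟨v * w, mul_mem hv (c.le hw), by
      rw [mul_assoc, ← mul_assoc w, ← ab v hv w (c.le hw), mul_assoc, ← f2]; group⟩
  have b : s.BW V := ⟨h.Zle.trans c.le, VC, nV, two_ext h.two c.sq, fun k hk hc => h.bw.cap k
    (c.ker t ht.mem ht.ne k hk (by simp [EU.om, EC' ht.mem hc, ht.tt, lj])) hc⟩
  refine .inr (b.finE ht ab fun y hy hc => ?_)
  obtain ⟨e, he, k, hk, x, hx, rfl⟩ := (decR nV).1 hy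
  have yy := hc.sq
  rcases ht.all e he with rfl | rfl
  · rw [one_mul] at hc yy
    rw [mul_assoc, ← mul_assoc x, ← GW.cen.1 (VC hk) x hx, mul_assoc, ← mul_assoc, sqQ hx,
      mul_eq_one_iff_eq_inv] at yy
    exact absurd hc (h.noRs ht L c1 le (mul_mem (mem_sup_left (kW k hk (yy ▸ inv_mem (s.zZ _))))
      (mem_sup_right hx)))
  by_cases m : k ∈ W
  · exact h.cjW ht c (h.tW ht m hx yy)
  exfalso
  have a0 : s.ia x ≠ 0 := fun f => by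
    rw [show e * (k * x) * (e * (k * x)) = e * k * (x * e) * k * x by group, EC he (s.Q_C hx),
      ← mul_assoc, mul_assoc _ x k, ← GW.cen.1 (VC hk) x hx, ← mul_assoc, mul_assoc _ x x, sqQ hx, f,
      H.nm_zero, zc_zero, mul_one] at yy
    have := hγ k hk
    simp only [yy, ze_one] at this
    exact m (c.ker e he ht.ne k hk (by simpa [γ0] using this))
  have cy : ∀ r ∈ L.Rs, r ∈ Cen1 (e * (k * x)) ↔ L.xi r = H.bf (s.ia r) (s.ia x) := fun r hr => by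
    have m1 := mul_mem (L.E_R he) (L.Q_R hx)
    have := GW.c1.1 ((sup_le (fun w hw => GW.c1.2 (ab w (c.le (le hw)) k hk)) (cen_iff_le.1 (VC hk)) :
      L.Rs ≤ Cen1 k) hr)
    rw [← H.eqK, GW.c1, GW.cen.1 (VC hk) x hx, ← mul_assoc e, mul_assoc (e * x), ← this, ← mul_assoc r,
      ← mul_assoc (e * x), mul_left_inj, L1.cmi (L.Rs_R hr) m1, L.ga0 r hr, L.aga _ (L.E_R he) _ (L.Q_R hx),
      L.aia _ (L.E_R he) _ (L.Q_R hx), L.gat ht, L1.gaQ hx, iaE he]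
    simp
  have yC : e * (k * x) ∈ s.CQ := b.R_CQ hy
  generalize e * (k * x) = y at hc yy cy yC
  have ny : y ∈ Nor (L.Rs ⊓ Cen1 y) := mcnor (GW.cen.2 fun r hr => (GW.c1.1 hr.2).symm)
  obtain ⟨r, hr, r', hr', f1, f2, f3, f4⟩ := L.nci c1 a0
  have le1 : L.Rs ⊓ Cen1 y ⊔ zpowers y ≤ Cen1 y := sup_le inf_le_right (zpowers_le.2 (GW.c1.2 rfl))
  have sZ : ∀ a ∈ L.Rs ⊓ Cen1 y ⊔ zpowers y, a * a ∈ s.Z := fun a ha => by
    rcases (TW.mem_sup_zp' (yy ▸ one_mem _) ny).1 ha with m | m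
    · exact L.sq a (L.Rs_R m.1) ▸ s.zZ _
    · have := L.sq _ (L.Rs_R m.1)
      rw [mul_assoc, ← mul_assoc y, ← GW.c1.1 (le1 ha), mul_assoc, yy, mul_one] at this
      exact this ▸ s.zZ _
  refine f4 ((NI2 hc le1 (two_ext s.twoZ sZ) (fun a ha => GW.cen.2 fun a' ha' => (cZ' (sup_le
    (inf_le_left.trans (L.Rs_R.trans L.R_CQ)) (zpowers_le.2 yC) ha') (sZ a ha)).symm) ?_).2 r
    (mem_sup_left ⟨hr, (cy r hr).2 f2⟩) f1 r' (mem_sup_left ⟨hr', (cy r' hr').2 f3⟩))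
  obtain ⟨w, hw, f⟩ := L.exW 1
  rw [SF.card_sup_zp ny (yy ▸ one_mem _) fun m => by
    simpa [f, L1.iaW hw] using (cy w (L.W_Rs hw)).1 (GW.c1.2 (L1.Wab hw m.1)), cardR0, ht.card]
  have aa : AddOn L.Rs fun r => L.xi r + H.bf (s.ia r) (s.ia x) := fun a ha b hb => by
    simp only [L.axi _ (L.Rs_R ha) _ (L.Rs_R hb), L.aia _ (L.Rs_R ha) _ (L.Rs_R hb), H.add_bf]; ring
  have := aa.card_le' (Y := L.Rs ⊓ Cen1 y) fun r hr f => ⟨hr, (cy r hr).2 (H.eqK.1 f)⟩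
  rw [L.cardRs, H.cardK, pow_succ'] at this
  exact Nat.mul_le_mul_left _ (Nat.le_of_mul_le_mul_left this (by positivity))

end TW

theorem L1.tower (L : s.L1) (ht : s.Tw t) (c1 : L.c = 1) (hs : ∀ W V, s.Sx t W V → Cmp t) : Cmp t := by
  obtain ⟨W, ⟨j, h⟩, le, mx⟩ := H9.exists_maximal_ge (fun W => ∃ j, s.TW W (j + 1)) ⟨0, L.tw1 ht c1⟩
  by_cases n : IsSylowOf 2 (W ⊔ s.T) ⊤
  · exact h.bw.finB ht h.ab n fun y => h.noRs ht L c1 le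
  obtain ⟨V, c, nV, h0⟩ := h.up ht L c1 le j.succ_ne_zero n
  rcases h.dich ht c nV with d | ⟨-, d⟩
  · refine (h.fin ht c nV L c1 le (h.abV ht c nV d) h0).resolve_left fun f => ?_
    obtain ⟨k, hk, e⟩ := c.sur t ht.mem ht.ne 1
    exact zero_ne_one ((c.z0 t ht.mem k ((mx V ⟨_, f⟩ c.le).le hk)).symm.trans e)
  · exact hs W V d

end Hy

end EU
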