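import Cfsg.Agent.EU.I

/-! The special configuration. -/

set_option autoImplicit false
set_option linter.unusedSectionVars false
set_option linter.unusedVariables false

namespace EU

open Cfsg Subgroup FT H4 GW H2 Qd
open H5 (IsSylowOf mem_of_eq)

variable {G : Type*} [Group G] [Finite G] {F : Type*} [Field F] [Fintype F] {H : Hq F} {s : Hy G H}
  {e e' g x y z k p p' v w r r' t : G} {X P B M V W K N : Subgroup G}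

/-- preimage of a subgroup -/
def AddOn.pre {A : Type*} [AddCommGroup A] {f : G → A} (h : AddOn X f) (I : AddSubgroup A) :
    Subgroup G where
  carrier := {x | x ∈ X ∧ f x ∈ I}
  one_mem' := ⟨one_mem _, h.one ▸ zero_mem _⟩
  mul_mem' := fun ha hb => ⟨mul_mem ha.1 hb.1, h _ ha.1 _ hb.1 ▸ add_mem ha.2 hb.2⟩
  inv_mem' := fun ha => ⟨inv_mem ha.1, h.inv ha.1 ▸ neg_mem ha.2⟩

theorem card_cm (h : ∀ r ∈ X, y * r * y⁻¹ * r⁻¹ ∈ B) :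
    Nat.card X ≤ Nat.card B * Nat.card ↥(X ⊓ Cen1 y) := by
  rw [((X ⊓ Cen1 y).subgroupOf X).card_eq_card_quotient_mul_card_subgroup,
    Nat.card_congr (subgroupOfEquivOfLe inf_le_left).toEquiv]
  refine Nat.mul_le_mul_right _ (Nat.card_le_card_of_injective
    (fun c => (⟨_, h c.out c.out.2⟩ : B)) fun a b e => ?_)
  rw [← a.out_eq', ← b.out_eq', QuotientGroup.eq]
  have : (a.out : G) * y * (a.out : G)⁻¹ = b.out * y * (b.out : G)⁻¹ := by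
    simpa [mul_assoc] using congrArg (fun x : B => (y⁻¹ * x)⁻¹) e
  refine mem_subgroupOf.2 ⟨(a.out⁻¹ * b.out).2, c1.2 ?_⟩
  rw [coe_mul, coe_inv, show (a.out : G)⁻¹ * b.out * y = (a.out : G)⁻¹ * (b.out * y * (b.out : G)⁻¹) * b.out
    by group, ← this]; group

theorem cover_zp' (tt : x * x ∈ M) (tn : x ∈ Nor M) :
    ∀ a ∈ M ⊔ zpowers x, ∀ b ∈ M ⊔ zpowers x, a ∉ M → b ∉ M → a * b ∈ M := fun a ha b hb a1 b1 => by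
  rw [TW.mem_sup_zp' tt tn] at ha hb
  exact mem_of_eq (mul_mem (mul_mem (ha.resolve_left a1) (cmem' tn (hb.resolve_left b1))) (inv_mem tt))
    (by group)

theorem Hq.of_rs2 {θ θ' : F ≃+* F} (h : ∀ k, H.rs θ k = H.rs θ' k) : θ = θ' ∨ θ = θ' * H.sg := by
  rw [← inv_mul_eq_one, inv_mul_eq_one, eq_comm, ← inv_mul_eq_one, ← inv_mul_eq_iff_eq_mul]
  exact H.of_rs fun k => Subtype.ext (θ'.injective (by
    simpa [Hq.rs] using congrArg Subtype.val (h k)))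

theorem Hq.pinj (H : Hq F) {a b : F} {j : ℕ} (h : a ^ 2 ^ j = b ^ 2 ^ j) : a = b := by
  induction j with
  | zero => simpa using h
  | succ k ih => exact ih (H.sq_inj (by rw [← sq, ← sq, ← pow_mul, ← pow_mul, ← pow_succ, h]))

theorem Qd.Sp.cenZ {q : Qd G H} (h : q.Sp X) (hP : IsPGroup 2 P) (gP : g ∈ P) (hg : g ∈ Nor X)
    (e : q.th (g * g) = 1) : g ∈ Cen q.Z := by
  obtain ⟨j, hj⟩ := exists_pow_pow_of_mem hP (mul_mem gP gP)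
  have k1 := h.ka1 (mul_mem hg hg) hj e
  rw [(h.mul hg hg).1] at k1
  refine cen.2 ?_
  rintro _ ⟨b, rfl⟩
  rw [← mul_inv_eq_iff_eq_mul, h.actZ hg]
  rcases h.two hg e with f | f
  · obtain ⟨i, hi⟩ := exists_pow_pow_of_mem hP gP
    rw [h.ka1 hg hi f, f]; simp
  · rw [f] at k1 ⊢
    rw [show H.nm (q.ka g) = 1 from Subtype.ext k1]; simp

namespace Hy

theorem iaZ (hx : x ∈ s.CQ) (h : y * x⁻¹ ∈ s.Z) : s.ia y = s.ia x := by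
  rw [← ia_cQ (s.Z_cen h) hx, inv_mul_cancel_right]

theorem cmR0 (hx : x ∈ s.R0) (hy : y ∈ s.R0) : x * y * x⁻¹ * y⁻¹ ∈ s.Z :=
  comm_of_sq (fun r hr => s.spR0.sq r hr ▸ s.zZ _) hx hy

theorem inTg (hP : IsPGroup 2 P) (hg : s.Ext P g) (he : e ∈ s.E) (e1 : e ≠ 1) (hp : p ∈ P)
    (h : p ∈ Cen1 (g * e * g⁻¹)) : g⁻¹ * p * g ∈ s.T :=
  inT (P := conjS g⁻¹ P) (hP.map _) (fun p hp => mem_conjS.2 (by simpa using hg p hp))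
    (by simpa using conj_mem_conjS (g := g⁻¹) hp) ((cC he e1).2 (by
      rw [← cjc (g := g)]; simpa [mul_assoc] using GW.c1.1 h))

namespace BW

variable (b : s.BW W)
include b

theorem mW (hr : r ∈ W ⊔ s.Q) (h : s.ia r = 0) : r ∈ W := by
  obtain ⟨w, hw, x, hx, rfl⟩ := b.memRs.1 hr
  rw [ia_cQ (b.cen hw) (s.Q_le hx)] at h
  exact mul_mem hw (b.Zle (memZ hx h))
theorem cardRs : Nat.card ↥(W ⊔ s.Q) = (2 ^ H.n) ^ 2 * Nat.card W := by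
  rw [(ia_add.mono b.Rs_CQ).card_eq (fun a => (s.exQ a).imp fun _ h => ⟨mem_sup_right h.1, h.2⟩)
    (Y := W) fun x => ⟨fun h => ⟨mem_sup_left h, ia_cen (b.cen h)⟩, fun h => b.mW h.1 h.2⟩, H.cardF]
theorem card_ln (h : X ≤ W ⊔ s.Q) {a : F} (h' : ∀ x ∈ X, s.ia x ∈ H.ln a) :
    Nat.card X ≤ 2 ^ H.n * Nat.card W :=
  ((ia_add.mono (h.trans b.Rs_CQ)).card_le h' fun x hx => b.mW (h hx)).trans
    (Nat.mul_le_mul_right _ (H.card_ln a))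
theorem cmP (ht : s.Tw t) (hp : p ∈ W ⊔ s.T) (hp' : p' ∈ W ⊔ s.T) : p * p' * p⁻¹ * p'⁻¹ ∈ W ⊔ s.Q :=
  b.inRs ht (b.kerP (mul_mem (cmem (le_normalizer hp) hp') (inv_mem hp'))
    (s.spQ.th_cm (b.P_N hp) (b.P_N hp'))) (TW.cm2 (b.cov ht) hp hp')
theorem P_Rs : W ⊔ s.T ≤ Nor (W ⊔ s.Q) := nsup b.P_W b.P_N
theorem covR (ht : s.Tw t) : ∀ x ∈ s.E ⊔ (W ⊔ s.Q), ∀ y ∈ s.E ⊔ (W ⊔ s.Q), x ∉ W ⊔ s.Q → y ∉ W ⊔ s.Q →
    x * y ∈ W ⊔ s.Q := ht.cov (b.D_Rs (s.E_D ht.mem))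
theorem tR (ht : s.Tw t) : t ∉ W ⊔ s.Q := fun m => ht.ne (b.nM ht.mem (b.Rs_M m))

end BW

namespace Sx

variable (u : s.Sx t W V)
include u

theorem VC : V ≤ Cen s.Q := fun k hk => (u.co.le' hk).1.1
theorem VW : V ≤ Nor W := fun k hk => (u.co.le' hk).1.2
theorem tW (hk : k ∈ V) : k * t * k⁻¹ * t ∈ W := (u.co.le' hk).2 t u.ht.mem
theorem ao : AddOn V (EU.om (s.lj 1) t) := (u.co.add t u.ht.mem).mono u.co.le'
theorem so (a : H.K) : ∃ k ∈ V, EU.om (s.lj 1) t k = a := u.co.sur t u.ht.mem u.ht.ne a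
theorem lZ (hw : w ∈ W) : s.lj 1 w = 0 ↔ w ∈ s.Z := by
  rw [u.tw.lj0 hw, pow_one, pow_two]; exact ⟨u.tw.om w hw, zz⟩
theorem kV (hk : k ∈ V) (h : EU.om (s.lj 1) t k = 0) : k ∈ W := u.co.ker t u.ht.mem u.ht.ne k hk h
theorem bw : s.BW V := ⟨u.tw.Zle.trans u.co.le, u.VC, u.nor, two_ext s.twoZ u.sz, fun k hk hc =>
  u.tw.bw.cap k (u.kV hk (by simp [EU.om, EC' u.ht.mem hc, u.ht.tt, lj])) hc⟩
theorem PW : V ⊔ s.T ≤ Nor W := sup_le u.VW (s.T_D.trans u.tw.nor)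
theorem sq (hr : r ∈ V ⊔ s.Q) : r * r ∈ s.Z := by
  obtain ⟨v, hv, x, hx, rfl⟩ := u.bw.memRs.1 hr
  rw [mul_assoc, ← mul_assoc x, ← GW.cen.1 (u.VC hv) x hx, mul_assoc, ← mul_assoc, sqQ hx]
  exact mul_mem (u.sz v hv) (s.zZ _)
theorem cm (hr : r ∈ V ⊔ s.Q) (hr' : r' ∈ V ⊔ s.Q) : r * r' * r⁻¹ * r'⁻¹ ∈ s.Z :=
  comm_of_sq (fun _ => u.sq) hr hr'
theorem cardW : Nat.card W = (2 ^ H.n) ^ 2 := by
  rw [u.tw.add.card_eq u.tw.lsur (Y := s.Z) fun x => ⟨fun h => ⟨u.tw.Zle h, (u.lZ (u.tw.Zle h)).2 h⟩,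
    fun h => (u.lZ h.1).1 h.2⟩, H.cardK, cardZ, pow_two]
theorem cardV : Nat.card V = (2 ^ H.n) ^ 3 := by
  rw [u.ao.card_eq u.so (Y := W) fun x => ⟨fun h => ⟨u.co.le h, u.co.z0 t u.ht.mem x h⟩,
    fun h => u.kV h.1 h.2⟩, H.cardK, u.cardW]; ring
theorem cardR : Nat.card ↥(V ⊔ s.Q) = (2 ^ H.n) ^ 5 := by rw [u.bw.cardRs, u.cardV]; ring

theorem cjR (hy : y ∈ s.E ⊔ (V ⊔ s.Q)) (hc : s.Cls y) : ∃ k ∈ V, y = k * t * k⁻¹ := by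
  have ht := u.ht
  obtain ⟨e, he, k, hk, x, hx, rfl⟩ := (decR u.nor).1 hy
  have yy := hc.sq
  rcases ht.all e he with rfl | rfl
  · exfalso
    have m : 1 * (k * x) ∈ V ⊔ s.Q := by simpa using mul_mem (mem_sup_left hk) (mem_sup_right hx)
    have c1 := card_cm fun r hr => u.cm m hr
    have c2 := NI2 hc (inf_le_right (a := V ⊔ s.Q)) (two_ext s.twoZ fun a ha => u.sq ha.1)
      fun a ha => GW.cen.2 fun a' ha' => (cZ' (u.bw.Rs_CQ ha'.1) (u.sq ha.1)).symm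
    rw [cardR0, ht.card] at c2
    rw [u.cardR, cardZ, pow_succ'] at c1
    have c3 := Nat.le_of_mul_le_mul_left c1 (by positivity)
    have c4 : 4 * (2 ^ H.n) ^ 3 ≤ (2 ^ H.n) ^ 4 := by rw [pow_succ' _ 3]; gcongr; exact H.four_le
    have c5 : 0 < (2 ^ H.n) ^ 3 := by positivity
    have := (c2 (by omega)).1
    omega
  rw [show e * (k * x) * (e * (k * x)) = e * k * (x * e) * k * x by group, EC he (s.Q_C hx),
    ← mul_assoc, mul_assoc _ x k, ← GW.cen.1 (u.VC hk) x hx, ← mul_assoc, mul_assoc _ x x, sqQ hx,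
    mul_eq_one_iff_eq_inv] at yy
  have m : k ∈ W := u.kV hk ((u.lZ (u.tW hk)).2 (mem_of_eq (mul_mem (u.sz k hk) (s.zZ (H.nm (s.ia x))))
    (by rw [← zc_inv, ← zc_inv, ← yy]; simp [mul_assoc, einv he])))
  exact u.tw.cjW ht u.co (u.tw.tW ht m hx hc.sq)

theorem lam (hp : p ∈ V ⊔ s.T) (h : p ∈ Cen s.Z) (hv : v ∈ V) : p * v * p⁻¹ * v⁻¹ ∈ W ∧
    (s.lj 1 (p * v * p⁻¹ * v⁻¹) = 0 ∨ s.lj 1 (p * v * p⁻¹ * v⁻¹) = EU.om (s.lj 1) t v) := by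
  have m := cmem (u.bw.P_W hp) hv
  have e1 : EU.om (s.lj 1) t (p * v * p⁻¹) = EU.om (s.lj 1) t v := by
    obtain ⟨k, hk, τ, hτ, rfl⟩ := u.bw.memP.1 hp
    have c := (mul_mem_cancel_left (CQ_Z (s.cen_le (u.VC hk)))).1 h
    rw [show k * τ * v * (k * τ)⁻¹ = k * (τ * v * τ⁻¹) * k⁻¹ by group,
      u.ao.conj hk (cmem (u.nor (s.T_D hτ)) hv), EU.om, EU.om, lj, lj, conj_inv,
      ← mul_inv_cancel_right ((v * t * v⁻¹ * t) ^ _) τ, ← GW.cen.1 c _ (u.tw.pw _ (u.tW hv)), ← conj_pow,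
      ← conj_mul, ← conj_mul, ← conj_mul, EC' u.ht.mem (s.T_C hτ)]
  have m' : p * v * p⁻¹ * v⁻¹ ∈ W := u.kV (mul_mem m (inv_mem hv)) (by
    rw [u.ao _ m _ (inv_mem hv), u.ao.inv hv, e1, add_neg_cancel])
  refine ⟨m', ?_⟩
  have e2 := u.cv v hv _ m'
  have e3 : p * v * p⁻¹ * (p * v * p⁻¹) = v * v := by rw [conj_mul, GW.cen.1 h _ (u.sz v hv)]; group
  rw [← inv_mul_cancel_right (p * v * p⁻¹) v] at e3
  generalize p * v * p⁻¹ * v⁻¹ = w at *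
  have e4 : v * w * v⁻¹ * w⁻¹ = w ^ 2 ^ 1 := by
    rw [← mul_assoc, mul_left_inj] at e3
    rw [← inv2 (zz (u.tw.pw w m')), show v * w * v⁻¹ * w⁻¹ = w⁻¹ * (w * v * w) * v⁻¹ * w⁻¹ by group, e3]
    group
  rw [e4, ← lj, mul_eq_mul_right_iff] at e2
  exact e2.symm

theorem ty (hp : p ∈ V ⊔ s.T) (h : p ∈ Cen s.Z) : (∀ v ∈ V, p * v * p⁻¹ * v⁻¹ ∈ s.Z) ∨
    ∀ v ∈ V, p * v * p⁻¹ * v⁻¹ ∈ s.Z → v ∈ W := by
  refine or_iff_not_imp_left.2 fun n v hv m => ?_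
  push Not at n
  obtain ⟨k, hk, n⟩ := n
  obtain ⟨a1, a2⟩ := u.lam hp h hk
  obtain ⟨b1, b2⟩ := u.lam hp h (mul_mem hv hk)
  rw [← u.lZ a1] at n
  rw [show p * (v * k) * p⁻¹ * (v * k)⁻¹ = p * v * p⁻¹ * v⁻¹ * (v * (p * k * p⁻¹ * k⁻¹) * v⁻¹) by group,
    u.tw.add _ (u.tw.Zle m) _ (cmem (u.VW hv) a1), u.tw.liv (u.VC hv) a1, (u.lZ (u.tw.Zle m)).2 m,
    zero_add, u.ao v hv k hk, ← a2.resolve_left n] at b2
  exact u.kV hv (by simpa using b2.resolve_left n)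

theorem tyt (hp : p ∈ s.E ⊔ (V ⊔ s.Q)) (n : p ∉ V ⊔ s.Q) : ∀ v ∈ V, p * v * p⁻¹ * v⁻¹ ∈ s.Z → v ∈ W :=
  fun v hv m => by
    have m1 := u.bw.covR u.ht p hp t (mem_sup_left u.ht.mem) n (u.bw.tR u.ht)
    exact u.kV hv ((u.lZ (u.tW hv)).2 (mem_of_eq (cmem (s.norZ (s.D_N (s.E_D u.ht.mem))) (cmem'
      (s.norZ (s.CQ_nor (u.bw.Rs_CQ m1))) (mul_mem m (inv_mem (u.cm m1 (mem_sup_left hv))))))
      (Eq.trans (by group) (congrArg (v * t * v⁻¹ * ·) (einv u.ht.mem)))))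

theorem t0 (hp : p ∈ s.E ⊔ (V ⊔ s.Q)) (h : ∀ v ∈ V, p * v * p⁻¹ * v⁻¹ ∈ s.Z) : p ∈ V ⊔ s.Q :=
  by_contra fun n => (u.so 1).elim fun k f => zero_ne_one
    ((u.co.z0 t u.ht.mem k (u.tyt hp n k f.1 (h k f.1))).symm.trans f.2)

theorem spl (hp : p ∈ Nor s.Q) (hv : v ∈ V) (hx : x ∈ s.Q) :
    p * (v * x) * p⁻¹ * (v * x)⁻¹ = p * v * p⁻¹ * v⁻¹ * (p * x * p⁻¹ * x⁻¹) := by
  rw [mul_assoc _ v⁻¹, GW.cen.1 (inv_mem (u.VC hv)) _ (mul_mem (cmem hp hx) (inv_mem hx))]; group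

theorem fixW (hp : p ∈ V ⊔ s.T) (ty : ∀ v ∈ V, p * v * p⁻¹ * v⁻¹ ∈ s.Z → v ∈ W) (hr : r ∈ V ⊔ s.Q)
    (h : p * r * p⁻¹ * r⁻¹ ∈ s.Z) : r ∈ W ⊔ s.Q := by
  obtain ⟨v, hv, x, hx, rfl⟩ := u.bw.memRs.1 hr
  rw [u.spl (u.bw.P_N hp) hv hx] at h
  exact mul_mem (mem_sup_left (ty v hv (memZ ((mul_mem_cancel_right (mul_mem (cmem (u.bw.P_N hp) hx)
    (inv_mem hx))).1 (s.Z_le h)) (ia_cen (u.VC (mul_mem (cmem (u.bw.P_W hp) hv) (inv_mem hv)))))))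
    (mem_sup_right hx)

theorem ab1 (hp : p ∈ V ⊔ s.T) (e : s.th p = H.sg) (ty : ∀ v ∈ V, p * v * p⁻¹ * v⁻¹ ∈ s.Z → v ∈ W) :
    ∀ a ∈ (V ⊔ s.Q) ⊓ Cen1 p, ∀ b ∈ (V ⊔ s.Q) ⊓ Cen1 p, a * b = b * a := fun a ha b hb => by
  obtain ⟨a₀, f⟩ := fixC (u.bw.P_N hp) e
  have k : ∀ a ∈ (V ⊔ s.Q) ⊓ Cen1 p, a ∈ W ⊔ s.Q ∧ s.ia a ∈ H.ln a₀ := fun a ha => by
    have := c1'.1 (c1s.1 ha.2)
    exact ⟨u.fixW hp ty ha.1 (by simp [this]), f a (u.bw.Rs_CQ ha.1) (by rw [this])⟩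
  exact u.tw.bw.cmRs u.tw.ab (k a ha).1 (k b hb).1 (H.bf_ln (k a ha).2 (k b hb).2)

theorem dich (hy : y ∈ V ⊔ s.T) (hc : s.Cls y) : (∃ k ∈ V, y = k * t * k⁻¹) ∨ s.th y = H.sg ∧
    ((∀ v ∈ V, y * v * y⁻¹ * v⁻¹ ∈ s.Z) ∨
      ∀ a ∈ (V ⊔ s.Q) ⊓ Cen1 y, ∀ b ∈ (V ⊔ s.Q) ⊓ Cen1 y, a * b = b * a) := by
  have e : s.th (y * y) = 1 := by simp [hc.sq]
  exact (s.spQ.two (u.bw.P_N hy) e).imp (fun f => u.cjR (u.bw.kerP hy f) hc) fun f =>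
    ⟨f, (u.ty hy (s.spQ.cenZ u.bw.twoP hy (u.bw.P_N hy) e)).imp_right (u.ab1 hy f)⟩

theorem ext (hg : ∀ r ∈ s.R0, g * r * g⁻¹ ∈ V ⊔ s.T) : (∃ k ∈ V, g * t * g⁻¹ = k * t * k⁻¹) ∨
    s.th (g * t * g⁻¹) = H.sg ∧ ∀ v ∈ V, g * t * g⁻¹ * v * (g * t * g⁻¹)⁻¹ * v⁻¹ ∈ s.Z :=
  (u.dich (hg t (s.E_R0 u.ht.mem)) (u.ht.cls g)).imp_right fun f => ⟨f.1, f.2.resolve_right
    (AB2 s.spQ u.ht.mem u.bw.P_N hg (f.1 ▸ H.sg_ne) fun a ha b hb h1 h2 =>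
      u.bw.covR u.ht a (u.bw.kerP ha h1) b (u.bw.kerP hb h2))⟩

theorem t00 (hy : y ∈ V ⊔ s.T) (hp : p ∈ V ⊔ s.T) (e1 : s.th y = H.sg) (e2 : s.th p = H.sg)
    (h1 : ∀ v ∈ V, y * v * y⁻¹ * v⁻¹ ∈ s.Z) (h2 : ∀ v ∈ V, p * v * p⁻¹ * v⁻¹ ∈ s.Z) :
    y * p ∈ V ⊔ s.Q :=
  u.t0 (u.bw.kerP (mul_mem hy hp) (by rw [s.spQ.th_mul (u.bw.P_N hy) (u.bw.P_N hp), e1, e2, H.sg_sq]))
    fun v hv => mem_of_eq (mul_mem (cmem (s.norZ (u.bw.P_N hy)) (h2 v hv)) (h1 v hv)) (by group)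

theorem syl (hP : IsSylowOf 2 (V ⊔ s.T) ⊤) : Cmp t := by
  have b := u.bw
  refine u.ht.finB hP le_sup_right b.M_le (b.cov u.ht) (mt (b.nM u.ht.mem) u.ht.ne)
    (or_iff_not_imp_left.2 fun n g hg m => ?_)
  push Not at n
  obtain ⟨g', hg', m'⟩ := n
  rcases u.ext fun r hr => hg r (s.R0_T hr) with ⟨k, hk, f⟩ | f
  · exact ⟨k, mem_sup_left hk, f⟩
  rcases u.ext fun r hr => hg' r (s.R0_T hr) with ⟨k, hk, f'⟩ | f'
  · exact absurd (b.nM u.ht.mem (mem_of_eq (cmem' (le_normalizer (mem_sup_left hk)) (f' ▸ m'))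
      (by group))) u.ht.ne
  exact absurd ((mul_mem_cancel_right m').1 (b.Rs_M (u.t00 (hg t (s.E_T u.ht.mem)) (b.M_le m') f.1 f'.1
    f.2 f'.2))) m

theorem cy (hy : y ∈ V ⊔ s.T) (yy : y * y = 1) (h : ∀ v ∈ V, y * v * y⁻¹ * v⁻¹ ∈ s.Z) {a : F}
    (f : ∀ x ∈ s.CQ, s.ia (y * x * y⁻¹) = s.ia x ↔ s.ia x ∈ H.ln a) (hr : r ∈ V ⊔ s.Q) :
    y * r * y⁻¹ * r⁻¹ ∈ (ia_add.mono s.Q_le).pre (H.ln a) := by
  have m : y * r * y⁻¹ * r⁻¹ ∈ s.Q := by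
    obtain ⟨v, hv, x, hx, rfl⟩ := u.bw.memRs.1 hr
    exact u.spl (u.bw.P_N hy) hv hx ▸ mul_mem (s.Z_le (h v hv)) (mul_mem (cmem (u.bw.P_N hy) hx)
      (inv_mem hx))
  refine ⟨m, (f _ (s.Q_le m)).1 ?_⟩
  rw [← ia_inv (s.Q_le m), show y * (y * r * y⁻¹ * r⁻¹) * y⁻¹ = y * y * r * y⁻¹ * r⁻¹ * y⁻¹ by group, yy]
  congr 1; nth_rewrite 1 [inv2 yy]; group

section
variable (hx : x ∈ Nor (V ⊔ s.T)) (e1 : s.th (x * t * x⁻¹) = H.sg)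
  (e2 : ∀ v ∈ V, x * t * x⁻¹ * v * (x * t * x⁻¹)⁻¹ * v⁻¹ ∈ s.Z)
include hx e1 e2

theorem nZ : x ∈ Nor s.Z := by
  have b := u.bw
  have hy := cmem hx (mem_sup_right (s.E_T u.ht.mem))
  have yy := _root_.W.csq (g := x) u.ht.tt
  obtain ⟨a, -, -, f, -⟩ := invl (b.P_N hy) yy e1
  have c1 := card_cm fun r => u.cy hy yy e2 f
  have c2 := ((ia_add.mono (fun _ h => s.Q_le h.1 : (ia_add.mono s.Q_le).pre (H.ln a) ≤ s.CQ)).card_le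
    (fun _ h => h.2) fun _ h => memZ h.1).trans (Nat.mul_le_mul_right _ (H.card_ln a))
  have cC : ∀ g ∈ Cen1 (x * t * x⁻¹), x⁻¹ * g * x ∈ s.C := fun g e => (cC u.ht.mem u.ht.ne).2 (by
    rw [← cjc (g := x)]; simpa [mul_assoc] using GW.c1.1 e)
  have n : x * t * x⁻¹ ∉ V ⊔ s.Q := fun m => H.sg_ne (e1 ▸ th_CQ (b.Rs_CQ m))
  have cz := s.spQ.cenZ b.twoP hy (b.P_N hy) (by simp [yy])
  generalize x * t * x⁻¹ = y at *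
  have ny : y ∈ Nor ((V ⊔ s.Q) ⊓ Cen1 y) := mcnor (GW.cen.2 fun v hv => (GW.c1.1 hv.2).symm)
  have le1 : (V ⊔ s.Q) ⊓ Cen1 y ⊔ zpowers y ≤ Cen1 y := sup_le inf_le_right (zpowers_le.2 (GW.c1.2 rfl))
  have m : ∀ a ∈ (V ⊔ s.Q) ⊓ Cen1 y ⊔ zpowers y, a * a ∈ s.Z := fun a ha => by
    rcases (TW.mem_sup_zp' (yy ▸ one_mem _) ny).1 ha with m | m
    · exact u.sq m.1
    · have := u.sq m.1
      rwa [mul_assoc, ← mul_assoc y, ← GW.c1.1 (le1 ha), mul_assoc, yy, mul_one] at this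
  have e0 : conjS x⁻¹ ((V ⊔ s.Q) ⊓ Cen1 y ⊔ zpowers y) = s.R0 := L0 (fun a ha => by
    have m := mem_conjS.1 ha
    exact inT b.twoP le_sup_right (mem_of_eq (cmem' hx ((sup_le (inf_le_left.trans (b.Rs_M.trans b.M_le))
      (zpowers_le.2 hy) : _ ≤ V ⊔ s.T) m)) (by group)) (mem_of_eq (cC _ (le1 m)) (by group)))
    (fun a ha => GW.cen.2 fun a' ha' => by
      have := GW.cen.1 ((sup_le (inf_le_left.trans (b.Rs_CQ.trans CQ_Z)) (zpowers_le.2 cz) :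
        _ ≤ Cen s.Z) (mem_conjS.1 ha')) _ (m _ (mem_conjS.1 ha))
      rw [inv_inv, conj_mul, cjc] at this
      exact this.symm) (by
    rw [card_conjS, SF.card_sup_zp ny (yy ▸ one_mem _) fun m => n m.1, cardR0, u.ht.card]
    rw [cardZ, ← pow_two] at c2
    rw [u.cardR, show 5 = 2 + 3 from rfl, pow_add] at c1
    exact Nat.mul_le_mul_left _ (Nat.le_of_mul_le_mul_left (c1.trans (Nat.mul_le_mul_right _ c2))
      (by positivity)))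
  refine mnor ?_
  rintro _ ⟨c, rfl⟩
  obtain ⟨v, hv, f⟩ := s.ex_sq c
  rw [← f, ← conj_mul]
  exact m _ (by simpa using mem_conjS.1 (e0.ge (s.Q_R0 hv)))

theorem nR : x ∈ Nor (V ⊔ s.Q) := by
  have b := u.bw
  have le : conjS x (V ⊔ s.Q) ≤ V ⊔ s.T := fun p hp =>
    mem_of_eq (cmem hx (b.M_le (b.Rs_M (mem_conjS.1 hp)))) (by group)
  have sq : ∀ p ∈ conjS x (V ⊔ s.Q), p * p ∈ s.Z := fun p hp =>
    mem_of_eq (cmem (u.nZ hx e1 e2) (u.sq (mem_conjS.1 hp))) (by group)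
  have ts : ∀ p ∈ conjS x (V ⊔ s.Q), s.th (p * p) = 1 := fun p hp => th_CQ (s.Q_le (s.Z_le (sq p hp)))
  have c1 := TW.idx2' (M := conjS x (V ⊔ s.Q) ⊓ (s.E ⊔ (V ⊔ s.Q))) inf_le_left fun a ha c hc a1 c1 =>
    ⟨mul_mem ha hc, b.kerP (le (mul_mem ha hc)) (cyc s.spQ (b.P_N (le ha)) (b.P_N (le hc)) (ts a ha)
      (ts c hc) (fun e => a1 ⟨ha, b.kerP (le ha) e⟩) fun e => c1 ⟨hc, b.kerP (le hc) e⟩)⟩
  have c2 := TW.idx2' (S := conjS x (V ⊔ s.Q) ⊓ (s.E ⊔ (V ⊔ s.Q))) (M := conjS x (V ⊔ s.Q) ⊓ (V ⊔ s.Q))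
    (inf_le_inf_left _ le_sup_right) fun a ha c hc a1 c1 => ⟨mul_mem ha.1 hc.1,
      b.covR u.ht a ha.2 c hc.2 (fun e => a1 ⟨ha.1, e⟩) fun e => c1 ⟨hc.1, e⟩⟩
  have hA : ¬ conjS x (V ⊔ s.Q) ≤ s.E ⊔ (V ⊔ s.Q) →
      ∃ a, ∀ r ∈ conjS x (V ⊔ s.Q) ⊓ (V ⊔ s.Q), s.ia r ∈ H.ln a := fun n => by
    obtain ⟨p, hp, n⟩ := SetLike.not_le_iff_exists.1 n
    exact (fixC (b.P_N (le hp)) ((s.spQ.two (b.P_N (le hp)) (ts p hp)).resolve_left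
      (mt (b.kerP (le hp)) n))).imp fun a f r hr => f r (b.Rs_CQ hr.2) (iaZ (b.Rs_CQ hr.2)
        (comm_of_sq sq hp hr.1))
  have hB : ¬ conjS x (V ⊔ s.Q) ⊓ (s.E ⊔ (V ⊔ s.Q)) ≤ V ⊔ s.Q →
      conjS x (V ⊔ s.Q) ⊓ (V ⊔ s.Q) ≤ W ⊔ s.Q := fun n r hr => by
    obtain ⟨p, hp, n⟩ := SetLike.not_le_iff_exists.1 n
    exact u.fixW (le hp.1) (u.tyt hp.2 n) hr.2 (comm_of_sq sq hp.1 hr.1)
  have c0 : Nat.card (conjS x (V ⊔ s.Q)) = (2 ^ H.n) ^ 5 := by rw [card_conjS, u.cardR]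
  have q4 := H.four_le
  have c5 : 4 * (2 ^ H.n) ^ 4 ≤ (2 ^ H.n) ^ 5 := by rw [pow_succ' _ 4]; gcongr
  have c4 : 4 * (2 ^ H.n) ^ 3 ≤ (2 ^ H.n) ^ 4 := by rw [pow_succ' _ 3]; gcongr
  have c3 : 0 < (2 ^ H.n) ^ 3 := by positivity
  refine mnor fun r hr => by_contra fun n => ?_
  by_cases h1 : conjS x (V ⊔ s.Q) ≤ s.E ⊔ (V ⊔ s.Q)
  · have := card_le_of_le (hB fun l => n (l ⟨conj_mem_conjS hr, h1 (conj_mem_conjS hr)⟩))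
    rw [u.tw.bw.cardRs, u.cardW, ← pow_add] at this
    rw [inf_eq_left.2 h1] at c2
    norm_num only at this; omega
  obtain ⟨a, f⟩ := hA h1
  by_cases h2 : conjS x (V ⊔ s.Q) ⊓ (s.E ⊔ (V ⊔ s.Q)) ≤ V ⊔ s.Q
  · have := (card_le_of_le (le_inf inf_le_left h2)).trans (b.card_ln inf_le_right f)
    rw [u.cardV, ← pow_succ'] at this
    norm_num only at this; omega
  · have := u.tw.bw.card_ln (hB h2) f
    rw [u.cardW, ← pow_succ'] at this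
    norm_num only at this; omega

theorem WQ : ∃ a, ∀ w ∈ W, x * w * x⁻¹ ∈ s.Q ∧ s.ia (x * w * x⁻¹) ∈ H.ln a := by
  have hy := cmem hx (mem_sup_right (s.E_T u.ht.mem))
  have yy := _root_.W.csq (g := x) u.ht.tt
  obtain ⟨a, -, -, f, -⟩ := invl (u.bw.P_N hy) yy e1
  refine ⟨a, fun w hw => ?_⟩
  obtain ⟨k, hk, e⟩ := u.tw.cjW u.ht u.co hw
  refine mem_of_eq (u.cy hy yy e2 f (cmem (u.nR hx e1 e2) (mem_sup_left hk))) ?_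
  rw [show w = t * k * t⁻¹ * k⁻¹ by
    rw [einv u.ht.mem, mul_assoc t, mul_assoc t, ← e, ← mul_assoc, u.ht.tt, one_mul]]; group

theorem thx (hp : p ∈ V ⊔ s.T) : s.th (x * p * x⁻¹) = s.th p ∨ s.th (x * p * x⁻¹) = s.th p * H.sg := by
  have nZ := u.nZ hx e1 e2
  obtain ⟨a, f⟩ := u.WQ hx e1 e2
  choose k k1 k2 using u.so
  choose w w1 w2 using u.tw.lsur
  choose β hβ using fun b => H.mem_ln.1 (f _ (w1 b)).2
  have i : ∀ b, s.zc (s.ze (x * s.zc b * x⁻¹)) = x * s.zc b * x⁻¹ := fun b => zc_ze (cmem nZ (s.zZ b))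
  obtain ⟨c, j, h⟩ := H.iso (fun b => s.ze (x * s.zc b * x⁻¹))
    (fun b => H.bf (s.ia (x * k (b * b) * x⁻¹)) a) (fun b => β (b * b)) (fun a b => by
      rw [← s.ze_add _ (cmem nZ (s.zZ a)) _ (cmem nZ (s.zZ b)), conj_mul, zc_add])
    (fun a b e => s.zc_inj.1 (cj.1 ((i a).symm.trans ((congrArg s.zc e).trans (i b))))) fun b b' => by
      have e := u.cv _ (k1 (b * b)) _ (w1 (b' * b'))
      rw [k2, w2, mul_mul_mul_comm] at e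
      rw [← H.sqK e, zc_ze (u.cz _ (k1 _) _ (w1 _)), mul_comm (H.bf _ _), ← H.bf_k, ← hβ, ← s.ze_zc (H.bf _ _),
        ← cmm (u.bw.Rs_CQ (cmem (u.nR hx e1 e2) (mem_sup_left (k1 _)))) (f _ (w1 _)).1]
      congr 1; group
  have n := u.bw.P_N hp
  have n' := u.bw.P_N (cmem hx hp)
  have g : ∀ b, H.nm (s.ka (x * p * x⁻¹)) * H.rs (s.th (x * p * x⁻¹)) (c * b ^ 2 ^ j) =
      c * (H.nm (s.ka p) * H.rs (s.th p) b) ^ 2 ^ j := fun b => by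
    rw [← h, ← h, ← s.zc_inj, i, ← s.spQ.actZ n', i, ← s.spQ.actZ n]; group
  have c0 : c ≠ 0 := fun e => one_ne_zero (s.zc_eq_one.1 (conj_eq_one_iff.1 (by
    rw [← i 1, h, e, zero_mul, zc_zero])))
  refine Hq.of_rs2 fun b => Subtype.ext ?_
  have g1 := congrArg Subtype.val (g 1)
  have g2 := congrArg Subtype.val (g b)
  have k0 : (H.nm (s.ka p) : F) ≠ 0 := by simpa using s.spQ.ka_ne n
  simp only [Hq.rs, map_mul, map_pow, mul_pow, map_one, one_pow, mul_one, Subfield.coe_mul,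
    SubmonoidClass.coe_pow, OneMemClass.coe_one] at g1 g2 ⊢
  rw [← mul_assoc, g1, mul_assoc, mul_right_inj' (by simpa using c0), mul_right_inj' (pow_ne_zero _ k0)]
    at g2
  exact H.pinj g2

theorem two (x1 : x ∉ V ⊔ s.T) (x2 : x * x ∈ V ⊔ s.T) : Cmp t := by
  have b := u.bw
  have ht := u.ht
  have tm := fun a c (ha : a ∈ V ⊔ s.T) (hc : c ∈ V ⊔ s.T) => s.spQ.th_mul (b.P_N ha) (b.P_N hc)
  have tP : t ∈ V ⊔ s.T := mem_sup_right (s.E_T ht.mem)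
  have t1 : s.th t = 1 := th_CQ (s.cen_le (s.E_cen ht.mem))
  have nR := u.nR hx e1 e2
  let N : Subgroup G :=
    { carrier := {p | p ∈ V ⊔ s.T ∧ s.th (x * p * x⁻¹) = s.th p}
      one_mem' := ⟨one_mem _, by simp⟩
      mul_mem' := fun {a c} ha hc => ⟨mul_mem ha.1 hc.1, by
        rw [← conj_mul, tm _ _ (cmem hx ha.1) (cmem hx hc.1), ha.2, hc.2, tm _ _ ha.1 hc.1]⟩
      inv_mem' := fun {a} ha => ⟨inv_mem ha.1, by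
        rw [← conj_inv, s.spQ.th_inv (b.P_N (cmem hx ha.1)), ha.2, s.spQ.th_inv (b.P_N ha.1)]⟩ }
  have tN : t ∉ N := fun m => H.sg_ne (e1.symm.trans (m.2.trans t1))
  have RN : V ⊔ s.Q ≤ N := fun r hr => ⟨b.M_le (b.Rs_M hr), by
    rw [th_CQ (b.Rs_CQ hr), th_CQ (b.Rs_CQ (cmem nR hr))]⟩
  have cv : ∀ a ∈ V ⊔ s.T, ∀ c ∈ V ⊔ s.T, a ∉ N → c ∉ N → a * c ∈ N := fun a ha c hc a1 c1 =>
    ⟨mul_mem ha hc, by
      rw [← conj_mul, tm _ _ (cmem hx ha) (cmem hx hc), tm _ _ ha hc,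
        (u.thx hx e1 e2 ha).resolve_left fun e => a1 ⟨ha, e⟩,
        (u.thx hx e1 e2 hc).resolve_left fun e => c1 ⟨hc, e⟩, mul_assoc, H.aut_comm H.sg, mul_assoc,
        H.sg_sq, mul_one]⟩
  have xN : x ∈ Nor N := mnor fun p hp => ⟨cmem hx hp.1, by
    rw [hp.2, ← s.spQ.th_cj (b.P_N x2) (b.P_N hp.1)]; congr 1; group⟩
  have xx : x * x ∈ N := ⟨x2, by congr 1; group⟩
  have PN : V ⊔ s.T ≤ Nor N := fun p hp => mnor fun a ha =>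
    mem_of_eq (mul_mem (TW.cm2 cv hp ha.1) ha) (by group)
  have tM : t ∈ Nor (N ⊔ zpowers x) := mnor fun a ha => by
    have : t * x * t⁻¹ ∈ N ⊔ zpowers x := mem_of_eq (mul_mem (mem_sup_left (cv t tP _ (cmem hx tP) tN
      fun m => tN (mem_of_eq (cmem' xN m) (by group)))) (mem_sup_right (mem_zpowers x)))
      (by rw [einv ht.mem]; group)
    rcases (TW.mem_sup_zp' xx xN).1 ha with m | m
    · exact mem_sup_left (cmem (PN tP) m)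
    · exact mem_of_eq (mul_mem (mem_sup_left (cmem (PN tP) m)) (inv_mem this)) (by group)
  have eq : V ⊔ s.T ⊔ zpowers x = s.E ⊔ (N ⊔ zpowers x) := le_antisymm (sup_le (fun p hp => by
      by_cases m : p ∈ N
      · exact mem_sup_right (mem_sup_left m)
      · exact (mul_mem_cancel_right (mem_sup_left ht.mem)).1 (mem_sup_right (mem_sup_left
          (cv p hp t tP m tN)))) (le_sup_of_le_right le_sup_right))
    (sup_le (le_sup_of_le_left (le_sup_of_le_right s.E_T)) (sup_le_sup_right (fun _ h => h.1) _))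
  have h2 := two_sup_zp b.twoP hx x2
  have cP := cover_zp' x2 hx
  have TR : V ⊔ s.T ⊔ zpowers x ≤ Nor (V ⊔ s.Q) := sup_le b.P_Rs (zpowers_le.2 nR)
  refine ht.finE h2 (le_sup_of_le_left le_sup_right) (sup_le_sup_right (fun _ h => h.1) _)
    (eq ▸ ht.cov tM) (fun m => ((TW.mem_sup_zp' xx xN).1 m).elim tN fun m =>
      x1 ((mul_mem_cancel_left tP).1 m.1)) fun g hg => ?_
  have k0 : g * t * g⁻¹ ∈ V ⊔ s.T → (∃ k ∈ V, g * t * g⁻¹ = k * t * k⁻¹) ∨ s.th (g * t * g⁻¹) = H.sg ∧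
      (∀ v ∈ V, g * t * g⁻¹ * v * (g * t * g⁻¹)⁻¹ * v⁻¹ ∈ s.Z) →
      ∃ p ∈ V ⊔ s.T ⊔ zpowers x, g * t * g⁻¹ = p * t * p⁻¹ := by
    rintro m (⟨k, hk, f⟩ | f)
    · exact ⟨k, mem_sup_left (mem_sup_left hk), f⟩
    obtain ⟨k, hk, f⟩ := u.cjR (y := x⁻¹ * (g * t * g⁻¹) * x⁻¹⁻¹) (mem_of_eq (mul_mem (mem_sup_right
      (cmem' nR (u.t00 m (cmem hx tP) f.1 e1 f.2 e2))) (inv_mem (mem_sup_left ht.mem)))
      (by group)) ((ht.cls g).conj _)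
    exact ⟨x * k, mul_mem (mem_sup_right (mem_zpowers x)) (mem_sup_left (mem_sup_left hk)), by
      rw [← cj (g := x⁻¹), f]; group⟩
  have hR := fun r hr => hg r (s.R0_T hr)
  by_cases h0 : ∀ r ∈ s.R0, g * r * g⁻¹ ∈ V ⊔ s.T
  · exact k0 (h0 t (s.E_R0 ht.mem)) (u.ext h0)
  push Not at h0
  obtain ⟨a, ha, a1⟩ := h0
  have ZR : ∀ z ∈ s.Z, g * z * g⁻¹ ∈ V ⊔ s.Q := by
    rintro _ ⟨c, rfl⟩
    obtain ⟨r, -, r', -, h1, h2, f⟩ := k2R (B := V ⊔ s.T) g (fun a ha c hc a1 c1 => conj_mul (b := g) ▸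
      cP _ (hR a (s.Q_R0 ha)) _ (hR c (s.Q_R0 hc)) a1 c1) c
    exact mem_of_eq (b.cmP ht h1 h2) (by rw [← f]; group)
  have sR : ∀ r ∈ s.R0, s.th (g * r * g⁻¹ * (g * r * g⁻¹)) = 1 := fun r hr => by
    rw [conj_mul, s.spR0.sq r hr]; exact th_CQ (b.Rs_CQ (ZR _ (s.zZ _)))
  have iN : ∀ r ∈ s.R0, g * r * g⁻¹ ∈ V ⊔ s.T → s.th (g * r * g⁻¹) = 1 → g * r * g⁻¹ ∈ V ⊔ s.Q :=
    fun r hr m e => by_contra fun n => tN (by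
      have m1 := ((TW.mem_sup_zp' x2 hx).1 (hR a ha)).resolve_left a1
      have m2 := ZR _ (cmR0 ha hr)
      refine (mul_mem_cancel_left (show g * r * g⁻¹ ∈ N from mem_of_eq (cmem xN
        (show x⁻¹ * (g * r * g⁻¹) * x ∈ N from ⟨cmem' hx m, ?_⟩)) (by group))).1
        (RN (b.covR ht _ (b.kerP m e) t (mem_sup_left ht.mem) n (b.tR ht)))
      rw [← s.spQ.th_cj (b.P_N m1) (b.P_N (cmem' hx m)), show g * a * g⁻¹ * x * (x⁻¹ * (g * r * g⁻¹) * x) *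
        (g * a * g⁻¹ * x)⁻¹ = g * (a * r * a⁻¹ * r⁻¹) * g⁻¹ * (g * r * g⁻¹) by group,
        tm _ _ (RN m2).1 m, th_CQ (b.Rs_CQ m2), one_mul]
      congr 1; group)
  have tR := s.E_R0 ht.mem
  have cy : ∀ r ∈ s.R0, g * r * g⁻¹ ∈ Cen1 (g * t * g⁻¹) := fun r hr =>
    GW.c1.2 (by rw [cjc, EC ht.mem (s.D_C (s.R0_D hr))])
  have yy := _root_.W.csq (g := g) ht.tt
  by_cases m : g * t * g⁻¹ ∈ V ⊔ s.T
  · rcases u.dich m (ht.cls g) with f | ⟨f, f' | f'⟩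
    · exact k0 m (.inl f)
    · exact k0 m (.inr ⟨f, f'⟩)
    have k : ∀ a ∈ conjS g s.R0 ⊓ (V ⊔ s.T), a ∈ Cen ((V ⊔ s.Q) ⊓ Cen1 (g * t * g⁻¹)) ∧
        a ∈ (V ⊔ s.Q) ⊓ Cen1 (g * t * g⁻¹) ⊔ zpowers (g * t * g⁻¹) := by
      rintro _ ⟨⟨r, hr, rfl⟩, m'⟩
      change g * r * g⁻¹ ∈ _ at m'
      change g * r * g⁻¹ ∈ _ ∧ g * r * g⁻¹ ∈ _
      rcases s.spQ.two (b.P_N m') (sR r hr) with e | e
      · exact ⟨GW.cen.2 (f' _ ⟨iN r hr m' e, cy r hr⟩), mem_sup_left ⟨iN r hr m' e, cy r hr⟩⟩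
      have m2 : g * (r * t) * g⁻¹ ∈ (V ⊔ s.Q) ⊓ Cen1 (g * t * g⁻¹) := ⟨iN _ (mul_mem hr tR)
        (conj_mul (b := g) ▸ mul_mem m' m) (by rw [← conj_mul, tm _ _ m' m, e, f, H.sg_sq]),
        cy _ (mul_mem hr tR)⟩
      exact ⟨mem_of_eq (mul_mem (GW.cen.2 (f' _ m2)) (inv_mem (cen_iff_le.2 inf_le_right))) (by group),
        mem_of_eq (mul_mem (mem_sup_left m2) (mem_sup_right (inv_mem (mem_zpowers _)))) (by group)⟩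
    exact (ab2 (s := s) (B := conjS g s.R0 ⊓ (V ⊔ s.T)) g (fun a ha c hc a1 c1 =>
      ⟨conj_mem_conjS (s.Q_R0 (mul_mem ha hc)), conj_mul (b := g) ▸ cP _ (hR a (s.Q_R0 ha)) _
        (hR c (s.Q_R0 hc)) (fun e => a1 ⟨conj_mem_conjS (s.Q_R0 ha), e⟩)
        fun e => c1 ⟨conj_mem_conjS (s.Q_R0 hc), e⟩⟩) fun a ha c hc => (GW.c1.1 ((sup_le
        (cen_iff_le.1 (k a ha).1) (zpowers_le.2 (c1s.1 (ha.1.elim fun r hr => hr.2 ▸ cy r hr.1))) :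
        _ ≤ Cen1 a) (k c hc).2)).symm).elim
  exfalso
  have yR := TR (hR t tR)
  have mB := fun a => TW.mem_sup_zp' (x := a) (yy ▸ one_mem _) yR
  have sp : ∀ r ∈ s.R0, ∃ r' ∈ s.R0, g * r' * g⁻¹ ∈ V ⊔ s.T ∧ (r' = r ∨ r' = r * t) := fun r hr => by
    by_cases e : g * r * g⁻¹ ∈ V ⊔ s.T
    · exact ⟨r, hr, e, .inl rfl⟩
    · exact ⟨_, mul_mem hr tR, conj_mul (b := g) ▸ cP _ (hR r hr) _ (hR t tR) e m, .inr rfl⟩
  have yB : g * t * g⁻¹ ∈ V ⊔ s.Q ⊔ zpowers (g * t * g⁻¹) := mem_sup_right (mem_zpowers _)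
  have cB : ∀ a ∈ s.Q, ∀ c ∈ s.Q, g * a * g⁻¹ ∉ V ⊔ s.Q ⊔ zpowers (g * t * g⁻¹) →
      g * c * g⁻¹ ∉ V ⊔ s.Q ⊔ zpowers (g * t * g⁻¹) →
      g * (a * c) * g⁻¹ ∈ V ⊔ s.Q ⊔ zpowers (g * t * g⁻¹) := fun a ha c hc a1 c1 => by
    have k : ∀ a ∈ s.R0, g * a * g⁻¹ ∉ V ⊔ s.Q ⊔ zpowers (g * t * g⁻¹) → ∃ r ∈ s.R0,
        g * r * g⁻¹ ∈ V ⊔ s.T ∧ s.th (g * r * g⁻¹) ≠ 1 ∧ (r = a ∨ r = a * t) := fun a ha a1 =>
      (sp a ha).imp fun r f => ⟨f.1, f.2.1, fun e => a1 ((mB _).2 (f.2.2.imp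
        (fun e' : r = a => e' ▸ iN r f.1 f.2.1 e) fun e' : r = a * t => conj_mul (b := g) ▸ e' ▸
        iN r f.1 f.2.1 e)), f.2.2⟩
    obtain ⟨r, hr, r1, r2, r3⟩ := k a (s.Q_R0 ha) a1
    obtain ⟨r', hr', r1', r2', r3'⟩ := k c (s.Q_R0 hc) c1
    have := mem_sup_left (T := zpowers (g * t * g⁻¹)) (iN _ (mul_mem hr hr') (conj_mul (b := g) ▸
      mul_mem r1 r1') (conj_mul (b := g) ▸ cyc s.spQ (b.P_N r1) (b.P_N r1') (sR r hr) (sR r' hr') r2 r2'))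
    have tc := EC ht.mem (s.Q_C hc)
    rcases r3 with rfl | rfl <;> rcases r3' with rfl | rfl
    · exact this
    · exact (mul_mem_cancel_right yB).1 (mem_of_eq this (by group))
    · exact (mul_mem_cancel_right yB).1 (mem_of_eq this (by rw [mul_assoc a t, ← tc]; group))
    · rwa [← mul_assoc (a * t), mul_assoc a t, ← tc, mul_assoc a, mul_assoc c, ht.tt, mul_one] at this
  have cz : ∀ d ∈ (V ⊔ s.Q) ⊓ Cen1 (g * t * g⁻¹), ∀ c ∈ V ⊔ s.Q ⊔ zpowers (g * t * g⁻¹),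
      d * c * d⁻¹ * c⁻¹ ∈ s.Z := fun d hd c hc => ((mB c).1 hc).elim (u.cm hd.1) fun m =>
    mem_of_eq (u.cm hd.1 m) (by rw [mul_assoc d, mul_assoc c, ← GW.c1.1 (inv_mem hd.2)]; group)
  have gZ : g ∈ Nor s.Z := mnor (by
    rintro _ ⟨c, rfl⟩
    obtain ⟨r, hr, r', hr', h1, h2, f⟩ := k2R g cB c
    rw [← f]
    rcases (mB _).1 h1 with m | m
    · exact mem_of_eq (cz _ ⟨m, cy r (s.Q_R0 hr)⟩ _ h2) (by group)
    · rw [conj_mul] at m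
      exact mem_of_eq (cz _ ⟨m, cy _ (mul_mem (s.Q_R0 hr) tR)⟩ _ h2) (by
        rw [conj_mul, mul_assoc r t, ← EC ht.mem (s.Q_C hr')]; group))
  have yZ := cmem (mcen gZ) (CQ_Z (s.cen_le (s.E_cen ht.mem)))
  obtain ⟨w, hw, f⟩ := u.tw.lsur 1
  obtain ⟨a₀, f₀⟩ := u.WQ hx e1 e2
  have m1 := ((TW.mem_sup_zp' x2 hx).1 (hR t tR)).resolve_left m
  have wQ : g * t * g⁻¹ * w * (g * t * g⁻¹)⁻¹ ∈ s.Q := mem_of_eq (cmem (b.P_N m1)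
    (f₀ _ (cmem' (u.PW x2) hw)).1) (by group)
  have wz : w * w ∈ s.Z := u.sz w (u.co.le hw)
  have tg : g * t * g⁻¹ ∈ conjS g s.E := conj_mem_conjS ht.mem
  have iT := fun p => inTg (p := p) h2 hg ht.mem ht.ne
  generalize hy : g * t * g⁻¹ = y at *
  have c1 := GW.cen.1 (u.tw.cen hw) _ wQ
  have dR : w * (y * w * y⁻¹) ∈ V ⊔ s.Q := mul_mem (mem_sup_left (u.co.le hw)) (mem_sup_right wQ)
  have dC : w * (y * w * y⁻¹) ∈ Cen1 y := c1s.1 (c1'.2 (by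
    rw [← conj_mul, show y * (y * w * y⁻¹) * y⁻¹ = y * y * w * (y * y)⁻¹ by group, yy, c1]; group))
  have dd : w * (y * w * y⁻¹) * (w * (y * w * y⁻¹)) = 1 := by
    rw [mul_assoc, ← mul_assoc _ w, ← c1, mul_assoc w, conj_mul, GW.cen.1 yZ _ wz, mul_inv_cancel_right,
      ← mul_assoc, zz wz]
  obtain ⟨e, he, c, f1⟩ := mem_A.1 (inA (B := (V ⊔ s.Q ⊔ zpowers y).comap (MulAut.conj g).toMonoidHom)
    (iT _ (mem_sup_left (b.M_le (b.Rs_M dR))) dC) (csq' dd) cB fun v hv => iaZ (s.Q_le hv.1)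
      (mem_of_eq (cmem' gZ (cz _ ⟨dR, dC⟩ _ hv.2)) (by simp [mul_assoc])))
  have f2 : w * (y * w * y⁻¹) = g * e * g⁻¹ * (g * s.zc c * g⁻¹) := by rw [conj_mul, f1]; group
  have m2 := cmem gZ (s.zZ c)
  rcases ht.all e he with rfl | rfl
  · have m3 : y * w * y⁻¹ ∈ W := (mul_mem_cancel_left hw).1 (u.tw.Zle (by simpa [f2] using m2))
    have m4 := cmem' (mcnor yZ) (memZ wQ (ia_cen (u.tw.cen m3)))
    exact zero_ne_one (((u.lZ hw).2 (mem_of_eq m4 (by group))).symm.trans f)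
  · exact m ((mul_mem_cancel_right (b.R_P (mem_sup_right (mem_sup_right (s.Z_le m2))))).1
      (hy ▸ f2 ▸ b.M_le (b.Rs_M dR)))

end

theorem fin : Cmp t := by
  by_cases n : IsSylowOf 2 (V ⊔ s.T) ⊤
  · exact u.syl n
  obtain ⟨x, hx, x1, x2⟩ := grow u.bw.twoP n
  rcases u.ext fun r hr => cmem hx (mem_sup_right (s.R0_T hr)) with ⟨k, hk, f⟩ | f
  · exact absurd f (u.ht.nb u.bw.twoP le_sup_right hx x1 x2 (mem_sup_left hk))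
  · exact u.two hx f.1 f.2 x1 x2

end Sx

theorem L1.case1 (L : s.L1) (ht : s.Tw t) (c0 : L.c ≠ 0) : Cmp t := by
  by_cases c1 : L.c = 1
  · exact L.tower ht c1 fun _ _ u => u.fin
  · exact L.case_c ht c0 c1

end Hy

end EU
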