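import Cfsg.Agent.EU.J

/-! The translation step. -/

set_option autoImplicit false
set_option linter.unusedSectionVars false
set_option linter.unusedVariables false

namespace EU

open Cfsg Subgroup FT H4 GW H2 Qd
open H5 (IsSylowOf mem_of_eq)

variable {G : Type*} [Group G] [Finite G] {F : Type*} [Field F] [Fintype F] {H : Hq F} {s : Hy G H}
  {e e' g x y z k k' p p' v w r r' t : G} {X P B M V W K N : Subgroup G}

theorem Hq.lin0 (H : Hq F) (g : F →+ H.K) (h : ∀ l a, g (H.mu l * a) = H.nm (H.mu l) * g a) (a : F) :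
    g a = 0 := by
  obtain ⟨l, l1, l2⟩ := H.ex_l0
  have m : H.mu l + 1 ≠ 0 := fun e => l2 (by rw [H.eqF.1 e, map_one])
  have := h l (a / (H.mu l + 1))
  rw [l1, one_mul, ← H.eqK, ← map_add] at this
  rwa [show H.mu l * (a / (H.mu l + 1)) + a / (H.mu l + 1) = a by field_simp] at this

theorem Hq.bil (H : Hq F) (g : F → F → H.K) (h1 : ∀ a b c, g (a + b) c = g a c + g b c)
    (h2 : ∀ a b c, g a (b + c) = g a b + g a c)
    (h : ∀ l a b, g (H.mu l * a) (H.mu l * b) = H.nm (H.mu l) * g a b) :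
    ∃ c, ∀ a b, g a b = H.bf (c * a) b := by
  have k : ∀ a b (k : H.K), g a (k * b) = k * g a b := fun a b k => by
    simpa using H.hua (fun i j => g (i * a) (j * b)) (fun i j k => by simp [add_mul, h1])
      (fun i j k => by simp [add_mul, h2]) (fun m i j m0 => by
        obtain ⟨l, e⟩ := H.ex_mu m0
        simp only [Subfield.coe_mul, mul_assoc]
        rw [← e, h, e, H.nm_k, mul_assoc]) 1 k
  let φ : F →+ F := AddMonoidHom.mk' (fun a => g a 1 * H.ω + g a H.ω) fun a b => by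
    simp only [h1, Subfield.coe_add]; ring
  have f : ∀ a b, g a b = H.bf (φ a) b := fun a b => by
    obtain ⟨x, y, rfl⟩ := H.dec2 H.om_ne b
    have e1 := k a 1 x
    have e2 := H.trω
    have t := H.two
    rw [mul_one] at e1
    rw [h2, e1, k]
    ext
    simp only [φ, AddMonoidHom.mk'_apply, Subfield.coe_add, Subfield.coe_mul, Hq.bf_coe, map_add, map_mul,
      Hq.sk]
    grind
  refine ⟨φ 1, fun a b => ?_⟩
  rw [f, mul_comm, H.linF φ fun l a => H.eq_of_bf fun b => ?_]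
  rw [← mul_div_cancel₀ b (H.mu_ne l), ← f, h, f, H.bf_mul]

namespace Hy

theorem bil {Y : Subgroup G} {f f' : G → F} (af : AddOn X f) (sf : ∀ a, ∃ x ∈ X, f x = a)
    (af' : AddOn Y f') (sf' : ∀ a, ∃ x ∈ Y, f' x = a) {φ : G → G → H.K}
    (h1 : ∀ y ∈ Y, AddOn X (φ · y)) (h2 : ∀ x ∈ X, AddOn Y (φ x))
    (z1 : ∀ y ∈ Y, ∀ x ∈ X, f x = 0 → φ x y = 0) (z2 : ∀ x ∈ X, ∀ y ∈ Y, f' y = 0 → φ x y = 0)
    (n1 : ∀ l, s.h l ∈ Nor X) (n2 : ∀ l, s.h l ∈ Nor Y)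
    (e1 : ∀ l, ∀ x ∈ X, f (s.h l * x * (s.h l)⁻¹) = H.mu l * f x)
    (e2 : ∀ l, ∀ x ∈ Y, f' (s.h l * x * (s.h l)⁻¹) = H.mu l * f' x)
    (e3 : ∀ l, ∀ x ∈ X, ∀ y ∈ Y, φ (s.h l * x * (s.h l)⁻¹) (s.h l * y * (s.h l)⁻¹) =
      H.nm (H.mu l) * φ x y) : ∃ c, ∀ x ∈ X, ∀ y ∈ Y, φ x y = H.bf (c * f x) (f' y) := by
  obtain ⟨g, g1, g2, g3⟩ := af.fac2 sf af' sf' h1 h2 z1 z2
  refine (H.bil g g1 g2 fun l a b => ?_).imp fun c h x hx y hy => (g3 x hx y hy).trans (h _ _)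
  obtain ⟨x, hx, rfl⟩ := sf a
  obtain ⟨y, hy, rfl⟩ := sf' b
  rw [← e1 l x hx, ← e2 l y hy, ← g3 _ (cmem (n1 l) hx) _ (cmem (n2 l) hy), e3 l x hx y hy, g3 x hx y hy]

theorem lin0 {f : G → F} {φ : G → H.K} (af : AddOn X f) (sf : ∀ a, ∃ x ∈ X, f x = a) (aφ : AddOn X φ)
    (z : ∀ x ∈ X, f x = 0 → φ x = 0) (n : ∀ l, s.h l ∈ Nor X)
    (e : ∀ l, ∀ x ∈ X, f (s.h l * x * (s.h l)⁻¹) = H.mu l * f x)
    (e' : ∀ l, ∀ x ∈ X, φ (s.h l * x * (s.h l)⁻¹) = H.nm (H.mu l) * φ x) (hx : x ∈ X) : φ x = 0 := by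
  obtain ⟨g, hg⟩ := af.fac sf aφ z
  rw [hg x hx, H.lin0 g fun l a => ?_]
  obtain ⟨x, hx, rfl⟩ := sf a
  rw [← e l x hx, ← hg _ (cmem (n l) hx), e' l x hx, hg x hx]

theorem cmA {A : Type*} [AddCommGroup A] {η : G → A} (a : AddOn W η) (hX : X ≤ Cen W)
    (h : ∀ x ∈ X, x * y * x⁻¹ * y⁻¹ ∈ W) : AddOn X fun x => η (x * y * x⁻¹ * y⁻¹) := fun a' ha b hb => by
  simp only
  rw [add_comm, ← a _ (h b hb) _ (h a' ha), ← mul_inv_cancel_right (b * y * b⁻¹ * y⁻¹) a',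
    ← cen.1 (hX ha) _ (h b hb)]
  congr 1; group

theorem cmA' {A : Type*} [AddCommGroup A] {η : G → A} (a : AddOn W η) (hX : X ≤ Cen W)
    (h : ∀ x ∈ X, y * x * y⁻¹ * x⁻¹ ∈ W) : AddOn X fun x => η (y * x * y⁻¹ * x⁻¹) := fun a' ha b hb => by
  simp only
  rw [← a _ (h a' ha) _ (h b hb), ← mul_inv_cancel_right (y * b * y⁻¹ * b⁻¹) a',
    ← cen.1 (hX ha) _ (h b hb)]
  congr 1; group

theorem sqA {A : Type*} [AddCommGroup A] {η : G → A} (a : AddOn W η) (hX : X ≤ Cen W)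
    (h : ∀ x ∈ X, x * x ∈ W) (hx : x ∈ X) (hy : y ∈ X) :
    η (x * y * (x * y)) = η (x * x) + η (y * y) + η (x * y * x⁻¹ * y⁻¹) := by
  rw [add_comm, ← a _ (h x hx) _ (h y hy), ← a _ (comm_of_sq h hx hy) _ (mul_mem (h x hx) (h y hy)),
    ← mul_assoc (x * x), ← cen.1 (hX hy) _ (h x hx)]
  congr 1; group

variable (s) in
/-- elements acting trivially on the coordinate -/
def N2 (X : Subgroup G) : Subgroup G where
  carrier := {g | g ∈ Nor X ∧ ∀ r ∈ X, s.ia (g * r * g⁻¹) = s.ia r}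
  one_mem' := ⟨one_mem _, by simp⟩
  mul_mem' := fun {a b} ha hb => ⟨mul_mem ha.1 hb.1, fun r hr => by
    rw [← hb.2 r hr, ← ha.2 _ (cmem hb.1 hr)]; congr 1; group⟩
  inv_mem' := fun {a} ha => ⟨inv_mem ha.1, fun r hr => by
    rw [← ha.2 _ (cmem (inv_mem ha.1) hr)]; congr 1; group⟩

theorem nor_N2 (hX : s.Sp X) (hg : g ∈ Nor X) : g ∈ Nor (s.N2 X) := mnor fun k hk =>
  ⟨cmem (le_normalizer hg) hk.1, fun r hr => by
    have := hX.act hg (cmem hk.1 (cmem' hg hr))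
    rw [hk.2 _ (cmem' hg hr), ← hX.act hg (cmem' hg hr)] at this
    convert this using 2 <;> group⟩

namespace L1

variable (L : s.L1)

theorem spRs (c0 : L.c = 0) : s.Sp L.Rs := ⟨L.Q_Rs, L.Rs_R.trans L.R_CQ, fun r hr => by
  simp [L.sq r (L.Rs_R hr), c0, L.ga0 r hr]⟩
theorem norZ : Nor L.R ≤ Nor s.Z := fun g hg => mnor (by
  rintro _ ⟨b, rfl⟩
  obtain ⟨x, hx, e⟩ := s.ex_sq b
  rw [← e, ← conj_mul, L.sq _ (cmem hg (L.Q_R hx))]; exact s.zZ _)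
theorem Rs_eq : L.Rs = L.R ⊓ Cen L.W := le_antisymm (le_inf L.Rs_R fun r hr => GW.cen.2 fun w hw =>
  (Wab hw hr).symm) fun r hr => mRs hr.1 (by
    obtain ⟨w, hw, f⟩ := L.exW 1
    simpa [f, gaW hw, iaW hw] using (cmi hr.1 (L.W_R hw)).1 (GW.cen.1 hr.2 w hw))
theorem R0_eq (he : e ∈ s.E) (e1 : e ≠ 1) : s.R0 = L.R ⊓ Cen1 e := le_antisymm (le_inf L.R0_R
  fun r hr => GW.c1.2 (EC he (s.D_C (s.R0_D hr)))) fun r hr => mR0 hr.1 (by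
    simpa [xiE he, iaE he, mt (L.gaE e he) e1] using (cmi hr.1 (L.E_R he)).1 (GW.c1.1 hr.2))
theorem nRs (h : x ∈ Nor L.R) (h' : x ∈ Nor L.W) : x ∈ Nor L.Rs := L.Rs_eq ▸ minf h (mcen h')
variable {L}
theorem gaR (hr : r ∈ L.R) : ∃ e ∈ s.E, L.ga e = L.ga r := by
  obtain ⟨e, he, w, hw, x, hx, rfl⟩ := (decR L.nor).1 hr
  exact ⟨e, he, (co he hw hx).1.symm⟩
theorem gaZ (hz : z ∈ s.Z) : L.ga z = 0 := gaQ (s.Z_le hz)
theorem xiZ (hz : z ∈ s.Z) : L.xi z = 0 := xiQ (s.Z_le hz)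

theorem norW (h : ¬ ∀ b, ∃ e ∈ s.E, L.ga e = b) (hx : x ∈ Nor L.R) : x ∈ Nor L.W :=
  mnor fun w hw => by_contra fun n => h fun κ => by
    have m := cmem hx (L.W_R hw)
    have k : ∀ b, ∃ r ∈ L.R, L.ga r * L.xi w = b := fun b => by
      obtain ⟨c, f⟩ := cmem (L.norZ hx) (s.zZ b)
      obtain ⟨r, hr, f1⟩ : ∃ r ∈ L.R, x * w * x⁻¹ * r * (x * w * x⁻¹)⁻¹ * r⁻¹ = s.zc c := by
        by_cases a0 : s.ia (x * w * x⁻¹) = 0
        · obtain ⟨v, hv, f1⟩ := L.exW (c / L.ga (x * w * x⁻¹))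
          exact ⟨v, L.W_R hv, by
            rw [cmm m (L.W_R hv), f1, gaW hv, a0, mul_div_cancel₀ _ fun g => n (mW m g a0)]; simp⟩
        · obtain ⟨a, rfl⟩ := H.ex_bf a0 c
          obtain ⟨v, hv, rfl⟩ := s.exQ a
          exact ⟨v, L.Q_R hv, Hy.cmm (L.R_CQ m) hv⟩
      have m' := cmem' hx hr
      have := cmm (L.W_R hw) m'
      rw [gaW hw, iaW hw, ← cj (g := x), show x * (w * (x⁻¹ * r * x) * w⁻¹ * (x⁻¹ * r * x)⁻¹) * x⁻¹ =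
        x * w * x⁻¹ * r * (x * w * x⁻¹)⁻¹ * r⁻¹ by group, f1, ← f, cj, zc_inj] at this
      exact ⟨_, m', by simpa using this.symm⟩
    obtain ⟨r, -, f⟩ := k 1
    obtain ⟨r', hr', f'⟩ := k (κ * L.xi w)
    exact mul_right_cancel₀ (right_ne_zero_of_mul_eq_one f) f' ▸ gaR hr'

theorem co2 (c0 : L.c = 0) (hx : x ∈ Nor L.R) (hW : x ∈ Nor L.W) (he : e ∈ s.E)
    (n : x⁻¹ * e * x ∉ s.A) :
    ∃ V, s.Co L.Rs (s.KE (s.N2 L.Rs) L.Rs) V s.ia ∧ s.D ≤ Nor V := by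
  have sp := L.spRs c0
  have nK : s.D ≤ Nor (s.KE (s.N2 L.Rs) L.Rs) := fun d hd =>
    nor_KE (s.D_C hd) (nor_N2 sp (L.D_Rs hd)) (L.D_Rs hd)
  have RK : L.R ≤ s.KE (s.N2 L.Rs) L.Rs := fun r hr => by
    have : r ∈ Nor L.Rs := mnor fun a ha => mRs (cmem (le_normalizer hr) (L.Rs_R ha))
      ((L.aga.conj hr (L.Rs_R ha)).trans (L.ga0 a ha))
    exact ⟨⟨⟨this, fun a ha => L.aia.conj hr (L.Rs_R ha)⟩, this⟩, fun e he =>
      L.Q_Rs (s.Z_le (einv he ▸ cmZ hr (L.E_R he) :))⟩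
  have YK : s.Y ≤ s.KE (s.N2 L.Rs) L.Rs := fun y hy => ⟨⟨⟨L.D_Rs (s.Y_D hy), fun a ha => by
    rw [actC (s.D_N (s.Y_D hy)) (sp.le' ha), (kt_CQ (s.cen_le (s.YQ hy))).1,
      (kt_CQ (s.cen_le (s.YQ hy))).2, one_mul]; rfl⟩, L.D_Rs (s.Y_D hy)⟩, fun e he => by
    rw [EC' he (s.D_C (s.Y_D hy)), s.ee e he]; exact one_mem _⟩
  obtain ⟨l₁, -, l2⟩ := H.ex_l0
  have l1 : H.mu l₁ ≠ 1 := fun e => l2 (by rw [e, map_one])
  have t := H.twoK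
  obtain ⟨V, c⟩ := core H.two (ν := H.mu) (l₁ := l₁) (L.aia.mono L.Rs_R) (L.Rs_R.trans RK)
    (L.E_R.trans RK) YK (fun k hk => hk.1.2) (fun k hk => hk.2) (fun k hk => hk.1.1.2)
    (fun e he e1 k hk f => by
      have m := L.Rs_R (hk.2 e he)
      have m1 : k * e * k⁻¹ ∈ L.R := (mul_mem_cancel_right (L.E_R he)).1 m
      have g1 := L.ga0 _ (hk.2 e he)
      have g2 := (sqi m1).1 (_root_.W.csq (s.ee e he))
      rw [EU.om, L.aia _ m1 _ (L.E_R he), iaE he, add_zero] at f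
      rw [L.aga _ m1 _ (L.E_R he), H.eqK] at g1
      rw [f, g1, c0, zero_add, H.nm_zero, add_zero, mul_eq_zero] at g2
      obtain ⟨w, hw, e', he', -, f1⟩ := cjA (L := L) (cls he e1 k) (memA (mR0 m1
        (g2.resolve_left (mt (L.gaE e he) e1))) f)
      obtain rfl : e = e' := by
        rw [f1, L.aga.conj (L.W_R hw) (L.E_R he'), ← H.eqK, ← L.aga _ (L.E_R he') _ (L.E_R he)] at g1
        rw [← einv he', eq_inv_of_mul_eq_one_right (L.gaE _ (mul_mem he' he) g1)]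
      have c1 : w⁻¹ * k ∈ Cen1 e := c1'.2 (by rw [← cj (g := w), ← f1]; group)
      have c2 := (cC he e1).2 (GW.c1.1 c1)
      have c3 := mul_mem (inv_mem (RK (L.W_R hw))) hk
      obtain ⟨r, hr, y, hy, f2⟩ := ker1 ⟨c2, norQ (L.R0_eq he e1 ▸ minf (msup (s.C_norE c2) c3.1.2)
        (mc1 c1))⟩ fun v hv => c3.1.1.2 v (L.Q_Rs hv)
      obtain ⟨e', he', v, hv, rfl⟩ := mem_R0.1 hr
      exact ⟨_, mul_mem (L.W_Rs hw) (L.Q_Rs hv), e', he', y, hy, by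
        rw [eq_mul_of_inv_mul_eq f2, ← EC he' (s.Q_C hv)]; group⟩)
    (fun l => L.D_Rs (s.hD l)) (fun l => nK (s.hD l)) (fun l w hw => iah l (sp.le' hw))
    (fun I h a ha a0 => H.irr I h ha a0) l1 (by
      have nx := L.nRs hx hW
      obtain ⟨l', -, f⟩ := hth sp nx (fun l => L.D_Rs (s.hD l)) l₁
      have a1 : ∀ e ∈ s.E, x * s.h l₁ * x⁻¹ * (s.h l')⁻¹ * e * (x * s.h l₁ * x⁻¹ * (s.h l')⁻¹)⁻¹ * e =
          x * (s.h l₁ * (x⁻¹ * e * x) * (s.h l₁)⁻¹ * (x⁻¹ * e * x)) * x⁻¹ := fun e he => by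
        rw [mul_assoc (x * s.h l₁ * x⁻¹), EC he (inv_mem (s.hC l'))]; group
      have a2 : ∀ r ∈ L.R, s.h l₁ * r * (s.h l₁)⁻¹ * r ∈ L.Rs := fun r hr =>
        mRs (mul_mem (cmem (L.D_R (s.hD l₁)) hr) hr) (by
          rw [L.aga _ (cmem (L.D_R (s.hD l₁)) hr) _ hr, gaD (s.hD l₁) hr, H.aK])
      have a3 := mul_mem (cmem (le_normalizer nx) (L.D_Rs (s.hD l₁))) (inv_mem (L.D_Rs (s.hD l')))
      have m := cmem' hx (L.E_R he)
      have e1 : e ≠ 1 := fun f => n (by simp [f])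
      refine ⟨_, ⟨⟨⟨a3, f⟩, a3⟩, fun e he => a1 e he ▸ cmem nx (a2 _ (cmem' hx (L.E_R he)))⟩, e, he, ?_⟩
      rw [EU.om, a1 e he, sp.act nx (a2 _ m), L.aia _ (cmem (L.D_R (s.hD l₁)) m) _ m, iah l₁ (L.R_CQ m)]
      rcases (cja (by simpa using cls he e1 x⁻¹) m n).2 with h | h | h
      · simpa [sp.ka_ne nx, H.eqF, h.2.2] using l1
      · exact absurd (L.gaE e he (gaW (mem_of_eq (cmem hW h.2.1) (by group)))) e1
      · exact absurd c0 h.1)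
  refine ⟨V, c, fun d hd => c.nor d (L.D_Rs hd) (nK hd) fun l => ?_⟩
  obtain ⟨l', e, he, v, hv, y, hy, f⟩ := hD' hd l
  exact ⟨l', _, f, c.cm _ (mul_mem (RK (mul_mem (L.E_R he) (L.Q_R hv))) (YK hy))⟩

end L1

variable (s) in
/-- the translation configuration -/
structure Tr (L : s.L1) (t : G) where
  Y : Subgroup G
  al : G → F
  be : G → F
  z1 : G → H.K
  δ : H.K
  c0 : L.c = 0
  ht : s.Tw t
  le : L.Rs ≤ Y
  nRs : Y ≤ Nor L.Rs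
  nor : s.D ≤ Nor Y
  aal : AddOn Y al
  abe : AddOn Y be
  az : AddOn L.W z1
  zZ : ∀ b, z1 (s.zc b) = b
  alR : ∀ r ∈ L.Rs, al r = s.ia r
  ker : ∀ k ∈ Y, be k = 0 ↔ k ∈ L.Rs
  sur : ∀ a, ∃ k ∈ Y, be k = a
  cen : Y ≤ Cen L.W
  sq : ∀ k ∈ Y, k * k ∈ L.W
  sq1 : ∀ k ∈ Y, z1 (k * k) = H.nm (al k) + δ * H.nm (be k)
  sq2 : ∀ k ∈ Y, L.xi (k * k) = H.bf (be k) (al k) + H.nm (be k)
  tk : ∀ k ∈ Y, k * t * k⁻¹ * t ∈ L.Rs ∧ s.ia (k * t * k⁻¹ * t) = be k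

theorem L1.exists_Tr (L : s.L1) (c0 : L.c = 0) (hx : x ∈ Nor L.R) (hW : x ∈ Nor L.W) (he : e ∈ s.E)
    (n : x⁻¹ * e * x ∉ s.A) : ∃ t, Nonempty (s.Tr L t) := by
  obtain ⟨V, c, nV⟩ := L1.co2 c0 hx hW he n
  obtain ⟨t, ht, g1⟩ := L.ex1
  have t1 : t ≠ 1 := fun f => zero_ne_one (L.aga.one.symm.trans (f ▸ g1))
  have sp := L.spRs c0
  have tw := H.twoK
  have tw' := H.two
  have VN : V ≤ Nor L.Rs := fun k hk => (c.le' hk).1.2
  have iv : ∀ k ∈ V, ∀ r ∈ L.Rs, s.ia (k * r * k⁻¹) = s.ia r := fun k hk => (c.le' hk).1.1.2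
  have kE : ∀ k ∈ V, ∀ e ∈ s.E, k * e * k⁻¹ * e ∈ L.Rs := fun k hk => (c.le' hk).2
  have kR : ∀ k ∈ V, ∀ e ∈ s.E, k * e * k⁻¹ ∈ L.R := fun k hk e he =>
    (mul_mem_cancel_right (L.E_R he)).1 (L.Rs_R (kE k hk e he))
  have hV := fun l => nV (s.hD l)
  have ab := fun e he => (c.add e he).mono c.le'
  have ib : ∀ k ∈ V, ∀ e ∈ s.E, s.ia (k * e * k⁻¹) = om s.ia e k := fun k hk e he => by
    rw [om, L.aia _ (kR k hk e he) _ (L.E_R he), iaE he, add_zero]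
  have gb : ∀ k ∈ V, ∀ e ∈ s.E, L.ga (k * e * k⁻¹) = L.ga e := fun k hk e he => H.eqK.1 (by
    rw [← L.aga _ (kR k hk e he) _ (L.E_R he), L.ga0 _ (kE k hk e he)])
  have bh : ∀ e ∈ s.E, ∀ l, ∀ k ∈ V, om s.ia e (s.h l * k * (s.h l)⁻¹) = H.mu l * om s.ia e k :=
    fun e he l k hk => by
      rw [om, om, ← iah l (sp.le' (kE k hk e he)), ← conj_mul, ← conj_mul, ← conj_mul, hE l he, ← conj_inv]
  have VZ : V ≤ Cen s.Z := fun k hk => GW.cen.2 (by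
    rintro _ ⟨b, rfl⟩
    obtain ⟨e1, e2⟩ := triv fun r hr => iv k hk r (L.Q_Rs hr)
    rw [← mul_inv_eq_iff_eq_mul, sp.actZ (VN hk), e1, e2]; simp)
  have kW : ∀ k ∈ V, ∀ r ∈ L.Rs, k * r * k⁻¹ * r⁻¹ ∈ L.W := fun k hk r hr => by
    have m := mul_mem (cmem (VN hk) hr) (inv_mem hr)
    exact L1.mW (L.Rs_R m) (L.ga0 _ m) (by
      rw [ia_add _ (sp.le' (cmem (VN hk) hr)) _ (sp.le' (inv_mem hr)), iv k hk r hr, ia_inv (sp.le' hr),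
        H.aF])
  have sb := c.sur t ht t1
  have kb := c.ker t ht t1
  have xk : ∀ k ∈ V, ∀ r ∈ L.Rs, L.xi (k * r * k⁻¹ * r⁻¹) = H.bf (om s.ia t k) (s.ia r) :=
    fun k hk r hr => by
      have m := L.Rs_R (cmem (VN hk) hr)
      have e1 := L1.cmm m (kR k hk t ht)
      rw [show k * r * k⁻¹ * (k * t * k⁻¹) * (k * r * k⁻¹)⁻¹ * (k * t * k⁻¹)⁻¹ =
        k * (r * t * r⁻¹ * t⁻¹) * k⁻¹ by group, L1.cmm (L.Rs_R hr) (L.E_R ht), GW.cen.1 (VZ hk) _ (s.zZ _),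
        mul_inv_cancel_right, zc_inj, L.ga0 _ (cmem (VN hk) hr), L.ga0 r hr, gb k hk t ht, g1, ib k hk t ht,
        iv k hk r hr, iaE ht] at e1
      rw [L.axi _ m _ (L.Rs_R (inv_mem hr)), L.axi.inv (L.Rs_R hr), H.bf_comm]
      simp only [H.bf_zero] at e1
      grind
  have WV := L.W_Rs.trans c.le
  have VW : V ≤ Cen L.W := fun k hk => GW.cen.2 fun w hw => by
    have mz : ∀ k ∈ V, k * w * k⁻¹ * w⁻¹ ∈ s.Z := fun k hk => L.kerW _ (kW k hk w (L.W_Rs hw)) (by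
      simp [xk k hk w (L.W_Rs hw), L1.iaW hw])
    obtain ⟨l, l1, l2⟩ := H.ex_l0
    obtain ⟨g, hg⟩ := (ab t ht).fac sb (cadd VZ mz) fun k hk f => by
      simp [← L1.Wab hw (kb k hk f)]
    have m : H.mu l + 1 ≠ 0 := fun e => l2 (by rw [H.eqF.1 e, map_one])
    obtain ⟨k', hk', f⟩ := sb (om s.ia t k / (H.mu l + 1))
    have e1 := hg _ (cmem (hV l) hk')
    have e2 := zeh l (mz k' hk')
    rw [l1, one_mul, hg k' hk', ← conj_mul, ← conj_mul, ← conj_mul, ← conj_inv, ← conj_inv,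
      L.h0 l l1 w hw, mul_inv_cancel_right, e1, bh t ht l k' hk', ← H.eqK, ← map_add, f,
      show H.mu l * (om s.ia t k / (H.mu l + 1)) + om s.ia t k / (H.mu l + 1) = om s.ia t k by field_simp,
      ← hg k hk, ze0 (mz k hk)] at e2
    rwa [mul_inv_eq_one, mul_inv_eq_iff_eq_mul] at e2
  have WW : ∀ w ∈ L.W, w * w = 1 := fun w hw => (sp.ia0 (L.W_Rs hw)).1 (L1.iaW hw)
  have sq : ∀ k ∈ V, k * k ∈ L.W := fun k hk => L1.mW (L.Rs_R (c.sq k hk)) (L.ga0 _ (c.sq k hk))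
    (H.eq_zero_bf fun a => by
      obtain ⟨v, hv, rfl⟩ := s.exQ a
      have m := kW k hk v (L.Q_Rs hv)
      rw [← s.zc_eq_one, ← Hy.cmm (sp.le' (c.sq k hk)) hv, ← WW _ m]
      nth_rewrite 1 [← mul_inv_cancel_right (k * v * k⁻¹ * v⁻¹) k, ← GW.cen.1 (VW hk) _ m]
      group)
  obtain ⟨α, aα, αR, αh⟩ := exth H.two H.odd_units s.h H.mu H.mu_ne H.mu_mul c.le (L.aia.mono L.Rs_R)
    (fun k hk => ⟨c.sq k hk, L1.iaW (sq k hk)⟩) hV (fun l => L.D_Rs (s.hD l))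
    fun l r hr => iah l (sp.le' hr)
  obtain ⟨ζ, aζ, ζZ, ζh⟩ := exth H.twoK H.odd_units s.h (fun l => H.nm (H.mu l))
    (fun l => H.nm_ne (H.mu_ne l)) (fun l m => by rw [H.mu_mul, H.nm_mul]) L.Zle s.ze_add
    (fun w hw => WW w hw ▸ one_mem _) (fun l => L.nor (s.hD l)) (fun l => s.norZ (s.hN l))
    fun l z hz => zeh l hz
  have ζz : ∀ b, ζ (s.zc b) = b := fun b => by rw [ζZ _ (s.zZ b), ze_zc]
  have sR : ∀ a, ∃ r ∈ L.Rs, s.ia r = a := fun a => (s.exQ a).imp fun _ h => ⟨L.Q_Rs h.1, h.2⟩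
  have ζR : ∀ r ∈ L.Rs, ∀ r' ∈ L.Rs, ζ (r * r' * r⁻¹ * r'⁻¹) = H.bf (s.ia r) (s.ia r') :=
    fun r hr r' hr' => by simp [L1.cmm (L.Rs_R hr) (L.Rs_R hr'), ζz, L.ga0 r hr, L.ga0 r' hr']
  have cm := fun k k' (hk : k ∈ V) (hk' : k' ∈ V) => comm_of_sq sq hk hk'
  have a1 : ∀ y ∈ V, AddOn V fun x => ζ (x * y * x⁻¹ * y⁻¹) := fun y hy =>
    cmA aζ VW fun k hk => cm k y hk hy
  have a2 : ∀ y ∈ V, AddOn V fun x => ζ (y * x * y⁻¹ * x⁻¹) := fun y hy =>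
    cmA' aζ VW fun k hk => cm y k hy hk
  have ch : ∀ l, ∀ x ∈ V, ∀ y ∈ V, ζ (s.h l * x * (s.h l)⁻¹ * (s.h l * y * (s.h l)⁻¹) *
      (s.h l * x * (s.h l)⁻¹)⁻¹ * (s.h l * y * (s.h l)⁻¹)⁻¹) = H.nm (H.mu l) * ζ (x * y * x⁻¹ * y⁻¹) :=
    fun l x hx y hy => by rw [← ζh l _ (cm x y hx hy)]; congr 1; group
  have key : ∀ {α : G → F} (aα : AddOn V α), (∀ r ∈ L.Rs, α r = s.ia r) →
      (∀ l, ∀ k ∈ V, α (s.h l * k * (s.h l)⁻¹) = H.mu l * α k) →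
      (∀ k ∈ V, ∃ k₀ ∈ aα.ker, ∃ r ∈ L.Rs, k = k₀ * r ∧ om s.ia t k₀ = om s.ia t k ∧ s.ia r = α k) ∧
      (∀ l, s.h l ∈ Nor aα.ker) ∧ ∀ k ∈ aα.ker, om s.ia t k = 0 → k ∈ L.W := fun {α} aα αR αh =>
    ⟨fun k hk => by
      obtain ⟨r, hr, f⟩ := sR (α k)
      exact ⟨k * r⁻¹, ⟨mul_mem hk (c.le (inv_mem hr)), by
        rw [aα _ hk _ (c.le (inv_mem hr)), aα.inv (c.le hr), αR r hr, f, add_neg_cancel]⟩, r, hr, by group,
        by rw [ab t ht _ hk _ (c.le (inv_mem hr)), c.z0 t ht _ (inv_mem hr), add_zero], f⟩,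
    fun l => mnor fun k hk => ⟨cmem (hV l) hk.1, by rw [αh l k hk.1, hk.2, mul_zero]⟩,
    fun k hk f => L1.mW (L.Rs_R (kb k hk.1 f)) (L.ga0 _ (kb k hk.1 f)) (αR k (kb k hk.1 f) ▸ hk.2)⟩
  have sur : ∀ {X : Subgroup G} {α : G → F}, (∀ k ∈ V, ∃ k₀ ∈ X, ∃ r ∈ L.Rs, k = k₀ * r ∧
      om s.ia t k₀ = om s.ia t k ∧ s.ia r = α k) → ∀ a, ∃ k ∈ X, om s.ia t k = a := fun h a => by
    obtain ⟨k, hk, rfl⟩ := sb a
    obtain ⟨k₀, m, -, -, -, f, -⟩ := h k hk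
    exact ⟨k₀, m, f⟩
  obtain ⟨d1, d2, d3⟩ := key aα αR αh
  have le : aα.ker ≤ V := fun _ h => h.1
  obtain ⟨κ, hκ⟩ := bil ((ab t ht).mono le) (sur d1) (L.aia.mono L.Rs_R) sR
    (φ := fun x y => ζ (x * y * x⁻¹ * y⁻¹)) (fun y hy => (a1 y (c.le hy)).mono le)
    (fun y hy => (a2 y hy.1).mono c.le)
    (fun y hy x hx f => by simp [← GW.cen.1 (VW (c.le hy)) x (d3 x hx f), aζ.one])
    (fun x hx y hy f => by simp [GW.cen.1 (VW hx.1) y (L1.mW (L.Rs_R hy) (L.ga0 y hy) f), aζ.one])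
    d2 (fun l => L.D_Rs (s.hD l)) (fun l k hk => bh t ht l k hk.1) (fun l r hr => iah l (sp.le' hr))
    fun l x hx y hy => ch l x hx.1 y (c.le hy)
  have aα' : AddOn V fun k => α k + κ * om s.ia t k := fun a ha b hb => by
    simp only [aα a ha b hb, ab t ht a ha b hb]; ring
  have αR' : ∀ r ∈ L.Rs, α r + κ * om s.ia t r = s.ia r := fun r hr => by
    rw [αR r hr, c.z0 t ht r hr, mul_zero, add_zero]
  have αh' : ∀ l, ∀ k ∈ V, α (s.h l * k * (s.h l)⁻¹) + κ * om s.ia t (s.h l * k * (s.h l)⁻¹) =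
      H.mu l * (α k + κ * om s.ia t k) := fun l k hk => by rw [αh l k hk, bh t ht l k hk]; ring
  have ζk : ∀ k ∈ V, ∀ r ∈ L.Rs, ζ (k * r * k⁻¹ * r⁻¹) = H.bf (α k + κ * om s.ia t k) (s.ia r) :=
    fun k hk r hr => by
      obtain ⟨k₀, m, r', hr', rfl, f1, f2⟩ := d1 k hk
      rw [← f1, ← f2, H.add_bf, ← hκ k₀ m r hr, ← ζR r' hr' r hr, add_comm]
      exact a1 r (c.le hr) k₀ m.1 r' (c.le hr')
  clear d1 d2 d3 le hκ aα αR αh
  generalize hα : (fun k => α k + κ * om s.ia t k) = α' at aα'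
  simp only [show ∀ k, α k + κ * om s.ia t k = α' k from fun k => congrFun hα k] at αR' αh' ζk
  clear hα
  obtain ⟨d1, d2, d3⟩ := key aα' αR' αh'
  have le : aα'.ker ≤ V := fun _ h => h.1
  obtain ⟨δ, hδ⟩ := bil ((ab t ht).mono le) (sur d1) ((ab t ht).mono le) (sur d1)
    (φ := fun x y => ζ (x * y * x⁻¹ * y⁻¹)) (fun y hy => (a1 y hy.1).mono le)
    (fun y hy => (a2 y hy.1).mono le)
    (fun y hy x hx f => by simp [← GW.cen.1 (VW hy.1) x (d3 x hx f), aζ.one])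
    (fun x hx y hy f => by simp [GW.cen.1 (VW hx.1) y (d3 y hy f), aζ.one])
    d2 d2 (fun l k hk => bh t ht l k hk.1) (fun l k hk => bh t ht l k hk.1)
    fun l x hx y hy => ch l x hx.1 y hy.1
  obtain ⟨δ, rfl⟩ : ∃ k : H.K, δ = k := by
    obtain ⟨k, hk, f⟩ := sur d1 1
    have := hδ k hk k hk
    simp only [mul_inv_cancel_right, mul_inv_cancel, aζ.one, f, mul_one] at this
    simpa using H.of_bf one_ne_zero (by rw [H.bf_comm, ← this])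
  have q1 : ∀ k ∈ V, ζ (k * k) = H.nm (α' k) + δ * H.nm (om s.ia t k) := fun k hk => by
    obtain ⟨k₀, m, r, hr, rfl, f1, f2⟩ := d1 k hk
    have := lin0 ((ab t ht).mono le) (sur d1) (φ := fun k => ζ (k * k) + δ * H.nm (om s.ia t k))
      (fun a ha b hb => by
        simp only [sqA aζ VW sq ha.1 hb.1, ab t ht a ha.1 b hb.1, H.nm_add, hδ a ha b hb, H.k_bf]; grind)
      (fun k hk f => by simp [f, WW k (d3 k hk f), aζ.one]) d2 (fun l k hk => bh t ht l k hk.1)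
      (fun l k hk => by simp only [conj_mul, ζh l _ (sq k hk.1), bh t ht l k hk.1, H.nm_mul]; ring) m
    rw [sqA aζ VW sq m.1 (c.le hr), ζk k₀ m.1 r hr, m.2, sp.sq r hr, ζz, ← f1, ← f2, H.eqK.1 this]
    simp [add_comm]
  have be : ∀ e ∈ s.E, ∀ k ∈ V, om s.ia e k = L.ga e * om s.ia t k := fun e he k hk => by
    have := (L1.cmi (kR k hk e he) (kR k hk t ht)).1 (cjc.2 (Ecm he ht))
    have e1 := (L1.sqi (kR k hk e he)).1 (_root_.W.csq (s.ee e he))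
    have e2 := (L1.sqi (kR k hk t ht)).1 (_root_.W.csq (s.ee t ht))
    simp only [ib k hk e he, ib k hk t ht, gb k hk e he, gb k hk t ht, g1, c0] at this e1 e2
    rw [← H.eqF, ← H.nm_eq_zero, H.nm_add, H.nm_mul, H.nm_k, H.bf_k]
    grind
  have q2 : ∀ e ∈ s.E, e ≠ 1 → ∀ k ∈ V, L.xi (k * k) = H.bf (om s.ia t k) (α' k) +
      L.ga e * H.nm (om s.ia t k) := fun e he e1 k hk => by
    have m := cmem (nV (s.E_D he)) hk
    have e2 : e * k * e⁻¹ = (k * e * k⁻¹ * e)⁻¹ * k := by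
      simp only [mul_inv_rev, einv he, inv_inv]; group
    have e3 := q1 _ m
    have m1 := inv_mem (kE k hk e he)
    have w := sq k hk
    rw [conj_mul, L.cm e (L.E_R he) _ (L.W_R w), ← mul_assoc, mul_inv_cancel_right, aζ _ (L.Zle (s.zZ _)) _ w,
      ζz, q1 k hk, e2, aα' _ (c.le m1) _ hk, ab t ht _ (c.le m1) _ hk, c.z0 t ht _ m1, αR' _ m1,
      ia_inv (sp.le' (kE k hk e he)), show s.ia (k * e * k⁻¹ * e) = _ from be e he k hk, L1.gaW w, iaE he, H.nm_add, H.nm_mul, H.nm_k,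
      H.k_bf] at e3
    have g0 := mt (L.gaE e he) e1
    simp only [H.zero_bf, zero_add] at e3
    grind
  have Tw : s.Tw t := ⟨ht, t1, fun e he => or_iff_not_imp_left.2 fun e1 => by
    obtain ⟨k, hk, f⟩ := sb 1
    have := (q2 e he e1 k hk).symm.trans (q2 t ht t1 k hk)
    rw [f, H.nm_one, mul_one, mul_one, add_right_inj, ← H.eqK, ← L.aga _ (L.E_R he) _ (L.E_R ht)] at this
    rw [← einv ht, eq_inv_of_mul_eq_one_left (L.gaE _ (mul_mem he ht) this)]⟩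
  exact ⟨t, ⟨⟨V, α', om s.ia t, ζ, δ, c0, Tw, c.le, VN, nV, aα', ab t ht, aζ, ζz, αR',
    fun k hk => ⟨kb k hk, c.z0 t ht k⟩, sb, VW, sq, q1, fun k hk => by rw [q2 t ht t1 k hk, g1, one_mul],
    fun k hk => ⟨kE k hk t ht, rfl⟩⟩⟩⟩

end Hy

end EU
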