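import Cfsg.Agent.EU.K

/-! The translation configuration and the case `|E| = 2`. -/

set_option autoImplicit false
set_option linter.unusedSectionVars false
set_option linter.unusedVariables false

namespace EU

open Cfsg Subgroup FT H4 GW H2 Qd
open H5 (IsSylowOf mem_of_eq)

variable {G : Type*} [Group G] [Finite G] {F : Type*} [Field F] [Fintype F] {H : Hq F} {s : Hy G H}
  {a e e' g x y z k k' p p' v w r r' t : G} {X P B M V W K N : Subgroup G}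

theorem nconj (hx : x ∈ Nor P) (h : P ≤ Nor B) : P ≤ Nor (conjS x B) := fun p hp => mnor fun a ha =>
  mem_conjS.2 (mem_of_eq (cmem (h (cmem' hx hp)) (mem_conjS.1 ha)) (by group))

theorem two_cov {A : Subgroup G} (h : ∀ k ∈ X, g * k * g⁻¹ ∈ A ∨ g * k * g⁻¹ ∈ B) :
    (∀ k ∈ X, g * k * g⁻¹ ∈ A) ∨ ∀ k ∈ X, g * k * g⁻¹ ∈ B := by
  refine or_iff_not_imp_left.2 fun n k hk => by_contra fun m => ?_
  push Not at n
  obtain ⟨k', hk', n⟩ := n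
  rcases h _ (mul_mem hk hk') with f | f <;> rw [← conj_mul] at f
  · exact n ((mul_mem_cancel_left ((h k hk).resolve_right m)).1 f)
  · exact m ((mul_mem_cancel_right ((h k' hk').resolve_left n)).1 f)

theorem semiC {u : G → F} {η : G → H.K} (au : AddOn X u) (su : ∀ a, ∃ x ∈ X, u x = a) (aη : AddOn B η)
    (iη : ∀ w ∈ B, η w = 0 → w = 1) (sq : ∀ x ∈ X, x * x ∈ B ∧ η (x * x) = H.nm (u x)) (hy : y ∈ Nor X)
    (yy : y * y = 1) : B ≤ Cen1 y := by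
  have inj : ∀ w ∈ B, ∀ w' ∈ B, η w = η w' → w = w' := fun w hw w' hw' e =>
    inv_mul_eq_one.1 (iη _ (mul_mem (inv_mem hw) hw') (aη.div hw hw' e))
  have ex0 : ∀ b, ∃ x ∈ X, η (x * x) = b := fun b => by
    obtain ⟨a, rfl⟩ := H.ex_nm b
    obtain ⟨x, hx, rfl⟩ := su a
    exact ⟨x, hx, (sq x hx).2⟩
  have ex : ∀ w ∈ B, ∃ x ∈ X, x * x = w := fun w hw => (ex0 (η w)).imp fun x h =>
    ⟨h.1, inj _ (sq x h.1).1 _ hw h.2⟩
  have nB : y ∈ Nor B := mnor fun w hw => by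
    obtain ⟨x, hx, rfl⟩ := ex w hw
    exact conj_mul (b := y) ▸ (sq _ (cmem hy hx)).1
  have u0 : ∀ x ∈ X, u x = 0 ↔ x * x = 1 := fun x hx => by
    rw [← H.nm_eq_zero, ← (sq x hx).2]
    exact ⟨iη _ (sq x hx).1, fun e => e ▸ aη.one⟩
  obtain ⟨ψ, e⟩ := au.fac su (φ := fun x => u (y * x * y⁻¹)) (fun a ha b hb => by
    rw [← au _ (cmem hy ha) _ (cmem hy hb), conj_mul]) fun x hx f =>
    (u0 _ (cmem hy hx)).2 (_root_.W.csq ((u0 x hx).1 f))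
  choose z z1 z2 using ex0
  have ψ2 : ∀ a, ψ (ψ a) = a := fun a => by
    obtain ⟨x, hx, rfl⟩ := su a
    rw [← e x hx, ← e _ (cmem hy hx), show y * (y * x * y⁻¹) * y⁻¹ = y * y * x * (y * y)⁻¹ by group, yy]
    simp
  obtain ⟨κ, -, θ, f⟩ := H.semil ψ (Function.LeftInverse.injective ψ2)
    (fun b => η (y * (z b * z b) * y⁻¹)) (fun a b => by
      have m := fun b => (sq _ (z1 b)).1
      rw [← aη _ (cmem nB (m a)) _ (cmem nB (m b)), conj_mul, inj _ (m (a + b)) _ (mul_mem (m a) (m b))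
        (by rw [aη _ (m a) _ (m b), z2, z2, z2])]) fun a => by
      obtain ⟨x, hx, rfl⟩ := su a
      rw [← e x hx, ← (sq _ (cmem hy hx)).2, conj_mul, inj _ (sq _ (z1 _)).1 _ (sq x hx).1
        ((z2 _).trans (sq x hx).2.symm)]
  intro w hw
  obtain ⟨x, hx, rfl⟩ := ex w hw
  refine c1s.1 (c1'.2 (inj _ (cmem nB hw) _ hw ?_))
  rw [← conj_mul, (sq _ (cmem hy hx)).2, (sq x hx).2, e x hx, f, H.nm_mul]
  rcases H.semi_two (κ := κ) (θ := θ) (fun a => by rw [← f, ← f, ψ2]) with h | h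
  · simp [h.1, h.2]
  · rw [h.1, h.2, H.nm_sig, one_mul]

namespace Hy

theorem Tw.EA2 (ht : s.Tw t) (hc : s.Cls y) (hB : B ≤ Cen1 y) (h : ∀ b ∈ B, b * b = 1)
    (c : (2 ^ H.n) ^ 2 ≤ Nat.card B) : y ∈ B := by_contra fun n => by
  have ny : y ∈ Nor B := mcnor (cen_iff_le.2 hB)
  have := EA hc (B := B ⊔ zpowers y) (sup_le hB (zpowers_le.2 (c1.2 rfl))) fun b hb => by
    rcases (TW.mem_sup_zp' (hc.sq ▸ one_mem _) ny).1 hb with m | m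
    · exact h b m
    · have := h _ m
      rwa [mul_assoc, ← mul_assoc y, ← c1.1 ((mul_mem_cancel_right (c1.2 rfl)).1 (hB m)), mul_assoc,
        hc.sq, mul_one] at this
  rw [SF.card_sup_zp ny (hc.sq ▸ one_mem _) n, ht.card] at this
  have := H.four_le
  nlinarith

namespace Tr

variable {L : s.L1} (u : s.Tr L t)

theorem WY : L.W ≤ u.Y := L.W_Rs.trans u.le
theorem tN : t ∈ Nor u.Y := u.nor (s.E_D u.ht.mem)
theorem twoY : IsPGroup 2 u.Y := two_ext (L.twoR.to_le L.W_R) u.sq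
theorem two2 : IsPGroup 2 ↥(u.Y ⊔ s.T) := two_sup u.twoY s.twoT (s.T_D.trans u.nor)
theorem T2R : u.Y ⊔ s.T ≤ Nor L.Rs := sup_le u.nRs (s.T_D.trans L.D_Rs)
theorem T2Y : u.Y ⊔ s.T ≤ Nor u.Y := sup_le le_normalizer (s.T_D.trans u.nor)
theorem exk (a b : F) : ∃ k ∈ u.Y, u.al k = a ∧ u.be k = b := by
  obtain ⟨k, hk, rfl⟩ := u.sur b
  obtain ⟨v, hv, f⟩ := s.exQ (a - u.al k)
  have m := L.Q_Rs hv
  exact ⟨_, mul_mem hk (u.le m), by rw [u.aal _ hk _ (u.le m), u.alR v m, f, add_sub_cancel],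
    by rw [u.abe _ hk _ (u.le m), (u.ker v (u.le m)).2 m, add_zero]⟩
theorem cardY : Nat.card u.Y = (2 ^ H.n) ^ 6 := by
  rw [u.abe.card_eq u.sur (Y := L.Rs) fun x => ⟨fun h => ⟨u.le h, (u.ker x (u.le h)).2 h⟩,
    fun h => (u.ker x h.1).1 h.2⟩, H.cardF, L.cardRs]; ring
theorem cov : ∀ a ∈ s.E ⊔ u.Y, ∀ b ∈ s.E ⊔ u.Y, a ∉ u.Y → b ∉ u.Y → a * b ∈ u.Y := u.ht.cov u.tN
include u in
theorem sp : s.Sp L.Rs := L.spRs u.c0
include u in
theorem WW (hw : w ∈ L.W) : w * w = 1 := (u.sp.ia0 (L.W_Rs hw)).1 (L1.iaW hw)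
include u in
theorem RW (hr : r ∈ L.Rs) (h : r * r = 1) : r ∈ L.W :=
  L1.mW (L.Rs_R hr) (L.ga0 r hr) ((u.sp.ia0 hr).2 h)
variable {u}
theorem cm (hk : k ∈ u.Y) (hk' : k' ∈ u.Y) : k * k' * k⁻¹ * k'⁻¹ ∈ L.W := comm_of_sq u.sq hk hk'
theorem mW (hk : k ∈ u.Y) (h : u.al k = 0) (h' : u.be k = 0) : k ∈ L.W :=
  L1.mW (L.Rs_R ((u.ker k hk).1 h')) (L.ga0 _ ((u.ker k hk).1 h')) (u.alR k ((u.ker k hk).1 h') ▸ h)
theorem alW (hw : w ∈ L.W) : u.al w = 0 := (u.alR w (L.W_Rs hw)).trans (L1.iaW hw)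
theorem beW (hw : w ∈ L.W) : u.be w = 0 := (u.ker w (u.WY hw)).2 (L.W_Rs hw)
theorem w1 (hw : w ∈ L.W) (h : u.z1 w = 0) (h' : L.xi w = 0) : w = 1 := by
  obtain ⟨b, rfl⟩ := L.kerW w hw h'
  rw [← u.zZ b, h, zc_zero]
theorem tk' (hk : k ∈ u.Y) : u.al (t * k * t⁻¹) = u.al k + u.be k ∧ u.be (t * k * t⁻¹) = u.be k := by
  have m := inv_mem (u.tk k hk).1
  rw [show t * k * t⁻¹ = (k * t * k⁻¹ * t)⁻¹ * k by simp only [mul_inv_rev, einv u.ht.mem, inv_inv]; group,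
    u.aal _ (u.le m) _ hk, u.abe _ (u.le m) _ hk, (u.ker _ (u.le m)).2 m, u.alR _ m,
    ia_inv (u.sp.le' (u.tk k hk).1), (u.tk k hk).2]
  exact ⟨add_comm _ _, zero_add _⟩
theorem iaY (hk : k ∈ u.Y) (hr : r ∈ L.Rs) : s.ia (k * r * k⁻¹) = s.ia r := by
  rw [← u.alR _ (cmem (u.nRs hk) hr), u.aal.conj hk (u.le hr), u.alR r hr]
theorem ker2 (hp : p ∈ u.Y ⊔ s.T) (h : s.th p = 1) : p ∈ s.E ⊔ u.Y := by
  obtain ⟨k, hk, τ, hτ, rfl⟩ := (mem_sup_of_le_normalizer_left (s.T_D.trans u.nor)).1 hp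
  rw [u.sp.th_mul (u.nRs hk) (L.D_Rs (s.T_D hτ)), (triv fun r hr => iaY hk (L.Q_Rs hr)).2, one_mul] at h
  exact mul_mem (mem_sup_right hk) ((sup_le_sup_left (L.Q_Rs.trans u.le) _ : s.R0 ≤ _) (kerT hτ h))
theorem be2 (hp : p ∈ u.Y ⊔ s.T) (hk : k ∈ u.Y) :
    u.be (p * k * p⁻¹) = s.ia (p * (k * t * k⁻¹ * t) * p⁻¹) := by
  obtain ⟨k', hk', τ, hτ, rfl⟩ := (mem_sup_of_le_normalizer_left (s.T_D.trans u.nor)).1 hp
  have m := cmem (u.nor (s.T_D hτ)) hk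
  rw [show k' * τ * k * (k' * τ)⁻¹ = k' * (τ * k * τ⁻¹) * k'⁻¹ by group, u.abe.conj hk' m, ← (u.tk _ m).2,
    ← iaY hk' (u.tk _ m).1, conj_inv]
  nth_rewrite 1 2 [← EC' u.ht.mem (s.T_C hτ)]
  congr 1; group
theorem tY : t ∉ u.Y := fun m => by
  obtain ⟨k, hk, f⟩ := u.sur 1
  simpa [u.aal.conj m hk, f] using (tk' hk).1
theorem ntY (ha : a ∈ s.E ⊔ u.Y) (h : ∀ k ∈ u.Y, a * k * a⁻¹ * k⁻¹ ∈ L.W) : a ∈ u.Y := by_contra fun n => by
  have m := u.cov t (mem_sup_left u.ht.mem) a ha tY n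
  obtain ⟨k, hk, f⟩ := u.sur 1
  have m1 := mul_mem (u.WY (h k hk)) hk
  have := (tk' m1).1
  rw [u.aal _ (u.WY (h k hk)) _ hk, u.abe _ (u.WY (h k hk)) _ hk, alW (h k hk), beW (h k hk),
    show t * (a * k * a⁻¹ * k⁻¹ * k) * t⁻¹ = t * a * k * (t * a)⁻¹ by group, u.aal.conj m hk, f] at this
  simp at this
theorem ntW (ha : a ∈ s.E ⊔ u.Y) (h : a ∈ Cen L.W) : a ∈ u.Y := by_contra fun n => by
  obtain ⟨w, hw, f⟩ := L.exW 1
  simpa [f, L.gat u.ht, L1.gaW hw, L1.iaW hw] using (L1.cmi (L.E_R u.ht.mem) (L.W_R hw)).1 (GW.cen.1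
    ((mul_mem_cancel_left h).1 (u.cen (u.cov a ha t (mem_sup_left u.ht.mem) n tY))) w hw)

theorem cj (hy : y * t ∈ u.Y) (hc : s.Cls y) : ∃ k ∈ u.Y, y = k * t * k⁻¹ := by
  have ht := u.ht
  have e1 := u.aal _ hy _ (cmem u.tN hy)
  rw [(tk' hy).1, ← add_assoc, H.aF, zero_add, show y * t * (t * (y * t) * t⁻¹) = y * (t * t) * y by group,
    ht.tt, mul_one, hc.sq, u.aal.one] at e1
  have m := (u.ker _ hy).1 e1.symm
  obtain ⟨k, hk, f⟩ := u.sur (s.ia (y * t))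
  obtain ⟨m1, f1⟩ := u.tk k hk
  have m2 := cmem (u.nRs hk) m
  have e2 : k * y * k⁻¹ = k * (y * t) * k⁻¹ * (k * t * k⁻¹ * t) * t := by
    simp only [mul_assoc, inv_mul_cancel_left, ← mul_assoc t t, ht.tt, one_mul, mul_one]
  have m3 := L.Rs_R (mul_mem m2 m1)
  have tR := L.E_R ht.mem
  have a0 : s.ia (k * y * k⁻¹) = 0 := by
    rw [e2, L.aia _ m3 _ tR, L.aia _ (L.Rs_R m2) _ (L.Rs_R m1), iaY hk m, f1, f, H.aF, iaE ht.mem, add_zero]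
  have m4 : k * y * k⁻¹ ∈ L.R := e2 ▸ mul_mem m3 tR
  have := (L1.sqi m4).1 (hc.conj k).sq
  rw [a0, u.c0, show L.ga (k * y * k⁻¹) = 1 by
    rw [e2, L.aga _ m3 _ tR, L.ga0 _ (mul_mem m2 m1), L.gat ht, zero_add]] at this
  obtain ⟨w, hw, e, he, e1, f⟩ := L.cjA (hc.conj k) (memA (L1.mR0 m4 (by simpa using this)) a0)
  exact ⟨k⁻¹ * w, mul_mem (inv_mem hk) (u.WY hw), by
    rw [← EU.cj (g := k), f, (ht.all e he).resolve_left e1]; group⟩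

theorem in2 (hP : IsPGroup 2 P) (le : u.Y ⊔ s.T ≤ P) (ha : a ∈ P) (h : a * t * a⁻¹ * t ∈ u.Y) :
    a ∈ u.Y ⊔ s.T := by
  obtain ⟨k, hk, f⟩ := cj h (u.ht.cls a)
  exact (mul_mem_cancel_left (mem_sup_left (inv_mem hk))).1 (mem_sup_right (inT hP (le_sup_right.trans le)
    (mul_mem (le (mem_sup_left (inv_mem hk))) ha) ((cC u.ht.mem u.ht.ne).2 (c1.1 (c1'.2 (by
      rw [← EU.cj (g := k), ← f]; group))))))

theorem cmx {η : G → H.K} (a : AddOn L.W η) (hk : k ∈ u.Y) (hk' : k' ∈ u.Y) :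
    η (k * k' * k⁻¹ * k'⁻¹) = η (k * k' * (k * k')) + η (k * k) + η (k' * k') := by
  have := H.twoK
  rw [sqA a u.cen u.sq hk hk']; grind

theorem norW : Nor u.Y ≤ Nor L.W := fun g hg => mnor fun w hw => by
  have m := cmem hg (u.WY hw)
  have c := cmem (mcen hg) (le_cen_symm u.cen hw)
  generalize g * w * g⁻¹ = k at m c
  have t := H.twoK
  have k1 : ∀ k' ∈ u.Y, k * k' * k⁻¹ * k'⁻¹ = 1 := fun k' h => by rw [GW.cen.1 c k' h]; group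
  have b0 : u.be k = 0 := H.eq_zero_bf fun a => by
    obtain ⟨k', hk', rfl, f⟩ := u.exk a 0
    have := cmx (L.axi.mono L.W_R) m hk'
    simp only [k1 k' hk', L.axi.one, u.sq2 _ (mul_mem m hk'), u.sq2 _ m, u.sq2 _ hk', u.aal _ m _ hk',
      u.abe _ m _ hk', f, add_zero, H.bf_add, H.zero_bf, H.nm_zero] at this
    grind
  refine mW m (H.eq_zero_bf fun a => ?_) b0
  obtain ⟨k', hk', rfl, f⟩ := u.exk a 0
  have := cmx u.az m hk'
  simp only [k1 k' hk', u.az.one, u.sq1 _ (mul_mem m hk'), u.sq1 _ m, u.sq1 _ hk', u.aal _ m _ hk',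
    u.abe _ m _ hk', f, b0, add_zero, H.nm_add, H.nm_zero] at this
  grind

theorem chY (hP : IsPGroup 2 P) (le : u.Y ⊔ s.T ≤ P) (nY : P ≤ Nor u.Y) (hx : x ∈ Nor P) :
    x ∈ Nor u.Y := by
  have ht := u.ht
  have tP : t ∈ P := le (mem_sup_right (s.E_T ht.mem))
  have YP : u.Y ≤ P := le_sup_left.trans le
  have lP : ∀ B ≤ P, conjS x B ≤ P := fun B h a ha => mem_of_eq (cmem hx (h (mem_conjS.1 ha))) (by group)
  have dm : ∀ {B : Subgroup G}, P ≤ Nor B → ∀ a ∈ B, a * t * a⁻¹ * t ∈ B := fun h a ha =>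
    mem_of_eq (mul_mem ha (cmem (h tP) (inv_mem ha))) (by rw [einv ht.mem]; group)
  have dd : ∀ a, a * t * a⁻¹ * t * t * (a * t * a⁻¹ * t)⁻¹ * t = a * t * a⁻¹ * t * (a * t * a⁻¹ * t) :=
    fun a => by simp only [mul_inv_rev, einv ht.mem, mul_assoc, ← mul_assoc t t, ht.tt, one_mul, inv_inv]
  have nW : x ∈ Nor L.W := by
    have n := nconj hx (nY.trans norW)
    have sq : ∀ a ∈ conjS x L.W, a * a = 1 := fun a ha => by
      simpa [← mul_assoc] using _root_.W.csq (g := x) (u.WW (mem_conjS.1 ha))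
    have s1 : ∀ a ∈ conjS x L.W, a ∈ u.Y → a ∈ L.W := fun a ha m => u.RW ((u.ker a m).1 (by
      rw [← (u.tk a m).2, u.sp.ia0 (u.tk a m).1, sq _ (dm n a ha)])) (sq a ha)
    have cm : ∀ a ∈ conjS x L.W, a ∈ P → ∀ k ∈ u.Y, a * k * a⁻¹ * k⁻¹ ∈ L.W := fun a ha m k hk =>
      s1 _ (mem_of_eq (mul_mem ha (cmem (n (YP hk)) (inv_mem ha))) (by group))
        (mul_mem (cmem (nY m) hk) (inv_mem hk))
    have s2 : ∀ a ∈ conjS x L.W, a ∈ u.Y ⊔ s.T → a ∈ L.W := fun a ha m => s1 a ha (ntY (ker2 m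
      (triv fun r hr => by
        rw [← ia_cQ (L.cen (cm a ha (le m) r (u.le (L.Q_Rs hr)))) (s.Q_le hr), inv_mul_cancel_right]).2)
      (cm a ha (le m)))
    have lW := lP _ (u.WY.trans YP)
    exact mnor fun w hw => s2 _ (conj_mem_conjS hw) (in2 hP le (lW (conj_mem_conjS hw)) (u.WY
      (s2 _ (dm n _ (conj_mem_conjS hw)) (in2 hP le (lW (dm n _ (conj_mem_conjS hw))) (by
        rw [dd, sq _ (dm n _ (conj_mem_conjS hw))]; exact one_mem _)))))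
  have n := nconj hx nY
  have lY := lP _ YP
  have sq : ∀ a ∈ conjS x u.Y, a * a ∈ L.W := fun a ha =>
    mem_of_eq (cmem nW (u.sq _ (mem_conjS.1 ha))) (by group)
  have ts : ∀ a ∈ conjS x u.Y, s.th (a * a) = 1 := fun a ha => th_CQ (s.cen_le (L.cen (sq a ha)))
  have k1 : ∀ a ∈ conjS x u.Y, a ∈ u.Y ⊔ s.T → s.th a = 1 → a ∈ u.Y := fun a ha m e => ntW (ker2 m e)
    (mem_of_eq (cmem (mcen nW) (u.cen (mem_conjS.1 ha))) (by group))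
  have v1 : ∀ a ∈ conjS x u.Y ⊓ (u.Y ⊔ s.T), ∀ b ∈ conjS x u.Y ⊓ (u.Y ⊔ s.T), a ∉ u.Y → b ∉ u.Y →
      a * b ∈ u.Y := fun a ha b hb a1 b1 => k1 _ (mul_mem ha.1 hb.1) (mul_mem ha.2 hb.2)
    (cyc u.sp (u.T2R ha.2) (u.T2R hb.2) (ts a ha.1) (ts b hb.1) (mt (k1 a ha.1 ha.2) a1)
      (mt (k1 b hb.1 hb.2) b1))
  have d1 : ∀ a ∈ conjS x u.Y, a * t * a⁻¹ * t ∈ conjS x u.Y ⊓ (u.Y ⊔ s.T) := fun a ha =>
    ⟨dm n a ha, in2 hP le (lY (dm n a ha)) (dd a ▸ u.WY (sq _ (dm n a ha)))⟩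
  have c1 := TW.idx2' (M := conjS x u.Y ⊓ (u.Y ⊔ s.T)) inf_le_left fun a ha b hb a1 b1 =>
    ⟨mul_mem ha hb, in2 hP le (lY (mul_mem ha hb)) (mem_of_eq (mul_mem (u.WY (comm_of_sq sq ha
      (d1 b hb).1)) (v1 _ (d1 b hb) _ (d1 a ha) (fun m => b1 ⟨hb, in2 hP le (lY hb) m⟩)
      fun m => a1 ⟨ha, in2 hP le (lY ha) m⟩)) (by
        simp only [mul_assoc, mul_inv_rev, inv_mul_cancel_left, ← mul_assoc t t, ht.tt, one_mul]))⟩
  have c2 := TW.idx2' (S := conjS x u.Y ⊓ (u.Y ⊔ s.T)) (M := conjS x u.Y ⊓ u.Y)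
    (inf_le_inf_left _ le_sup_left) fun a ha b hb a1 b1 => ⟨mul_mem ha.1 hb.1,
      v1 a ha b hb (fun e => a1 ⟨ha.1, e⟩) fun e => b1 ⟨hb.1, e⟩⟩
  refine mnor fun k hk => by_contra fun n1 => ?_
  obtain ⟨p, hp, n2⟩ : ∃ p ∈ conjS x u.Y ⊓ (u.Y ⊔ s.T), p ∉ u.Y := by
    by_cases m : x * k * x⁻¹ ∈ u.Y ⊔ s.T
    · exact ⟨_, ⟨conj_mem_conjS hk, m⟩, n1⟩
    · exact ⟨_, d1 _ (conj_mem_conjS hk), fun e => m (in2 hP le (lY (conj_mem_conjS hk)) e)⟩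
  obtain ⟨a₀, -, f⟩ := u.sp.fixl (u.T2R hp.2) ((u.sp.two (u.T2R hp.2) (ts p hp.1)).resolve_left
    (mt (k1 p hp.1 hp.2) n2))
  have c3 := (u.abe.mono (inf_le_right : conjS x u.Y ⊓ u.Y ≤ _)).card_le (I := H.ln a₀)
    (Y := conjS x u.Y ⊓ L.Rs) (fun k hk => by
      have m := comm_of_sq sq hp.1 hk.1
      rw [← (u.tk k hk.2).2]
      refine f _ (u.tk k hk.2).1 ?_
      rw [← be2 hp.2 hk.2, (u.tk k hk.2).2, ← inv_mul_cancel_right (p * k * p⁻¹) k,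
        u.abe _ (u.WY m) _ hk.2, beW m, zero_add]) fun k hk e => ⟨hk.1, (u.ker k hk.2).1 e⟩
  have c4 := L.bw.card_ln (X := conjS x u.Y ⊓ L.Rs) inf_le_right fun r hr => f r hr.2 (by
    rw [← ia_cQ (L.cen (comm_of_sq sq hp.1 hr.1)) (u.sp.le' hr.2), inv_mul_cancel_right])
  rw [card_conjS, u.cardY] at c1
  rw [L.cardW] at c4
  have c5 := c3.trans (Nat.mul_le_mul (H.card_ln a₀) c4)
  have := H.four_le
  generalize 2 ^ H.n = q at *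
  have c6 : q ^ 6 ≤ 4 * q ^ 4 := by nlinarith
  have : 16 * q ^ 4 ≤ q ^ 6 := by rw [show q ^ 6 = q * q * q ^ 4 by ring]; gcongr; nlinarith
  have : 0 < q ^ 4 := by positivity
  omega

variable (u) in
theorem aL (ε : F) : AddOn u.Y fun k => u.al k + ε * u.be k := fun a ha b hb => by
  simp only [u.aal a ha b hb, u.abe a ha b hb]; ring
theorem eta {ε : F} (h : ε * ε + ε = u.δ) (hk : k ∈ u.Y) : u.z1 (k * k) + ε * L.xi (k * k) =
    (u.al k + ε * u.be k) * H.σ (u.al k + H.σ ε * u.be k) := by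
  have := H.two
  simp only [u.sq1 k hk, u.sq2 k hk, Subfield.coe_add, Subfield.coe_mul, ← h, Hq.nm_coe, Hq.bf_coe, map_add,
    map_mul, H.invol]
  grind
variable (u) in
theorem aH (ε : H.K) : AddOn L.W fun w => u.z1 w + ε * L.xi w := fun a ha b hb => by
  simp only [u.az a ha b hb, L.axi a (L.W_R ha) b (L.W_R hb)]; ring
theorem etaK {ε : H.K} (h : (ε : F) * ε + ε = u.δ) (hk : k ∈ u.Y) : u.z1 (k * k) + ε * L.xi (k * k) =
    H.nm (u.al k + ε * u.be k) := Subtype.ext (by simpa using eta h hk)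
theorem root {ε : F} (h : ε * ε + ε = u.δ) : (ε + 1) * (ε + 1) + (ε + 1) = u.δ := by
  have := H.two; grind
theorem exL (ε a b : F) : ∃ k ∈ u.Y, u.al k + ε * u.be k = a ∧ u.al k + (ε + 1) * u.be k = b := by
  obtain ⟨k, hk, f1, f2⟩ := u.exk (a + ε * (a + b)) (a + b)
  have := H.two
  exact ⟨k, hk, by grind, by grind⟩
theorem w2 {ε : H.K} (hw : w ∈ L.W) (h : u.z1 w + ε * L.xi w = 0) (h' : u.z1 w + (ε + 1) * L.xi w = 0) :
    w = 1 := by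
  have := H.twoK
  exact w1 (u := u) hw (by grind) (by grind)
theorem invL {ε : F} (h : ε * ε + ε = u.δ) (n : H.σ ε ≠ ε) (hk : k ∈ u.Y) :
    k * k = 1 ↔ k ∈ (u.aL ε).ker ∨ k ∈ (u.aL (ε + 1)).ker := by
  have t := H.two
  have e : H.σ ε = ε + 1 := by
    have := congrArg H.σ h
    simp only [map_add, map_mul, H.sk] at this; grind
  have e1 := eta h hk
  have e2 := eta (root h) hk
  rw [e] at e1
  rw [map_add _ ε, e, map_one, add_assoc ε, H.aF, add_zero] at e2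
  refine ⟨fun f => (mul_eq_zero.1 (e1.symm.trans (by simp [f, u.az.one, L.axi.one]))).imp
    (fun e => ⟨hk, e⟩) fun e => ⟨hk, (map_eq_zero _).1 e⟩, fun f => ?_⟩
  have : (u.z1 (k * k) : F) + ε * L.xi (k * k) = 0 ∧ (u.z1 (k * k) : F) + (ε + 1) * L.xi (k * k) = 0 := by
    rcases f with f | f <;> simp [e1, e2, show _ + _ = _ from f.2]
  obtain ⟨a1, a2⟩ := this
  have x0 : (L.xi (k * k) : F) = 0 := by linear_combination a2 - a1
  rw [x0, mul_zero, add_zero] at a1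
  exact w1 (u := u) (u.sq k hk) (Subtype.ext a1) (Subtype.ext x0)

theorem uni {ε : F} (h : ε * ε + ε = u.δ) (hg : g ∈ Nor u.Y) : (∀ k ∈ (u.aL ε).ker,
    g * k * g⁻¹ ∈ (u.aL ε).ker) ∨ ∀ k ∈ (u.aL ε).ker, g * k * g⁻¹ ∈ (u.aL (ε + 1)).ker :=
  two_cov fun k hk => by
    have m := cmem hg hk.1
    by_cases n : H.σ ε = ε
    swap
    · exact (invL h n m).1 (_root_.W.csq ((invL h n hk.1).2 (.inl hk)))
    obtain ⟨ε, rfl⟩ : ∃ e : H.K, ε = e := ⟨⟨ε, H.mem_Kf.2 n⟩, rfl⟩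
    have t := H.twoK
    have c : ∀ {ε : H.K}, (ε : F) * ε + ε = u.δ → ∀ a ∈ u.Y, ∀ b ∈ u.Y, u.z1 (a * b * a⁻¹ * b⁻¹) + ε *
        L.xi (a * b * a⁻¹ * b⁻¹) = H.bf (u.al a + ε * u.be a) (u.al b + ε * u.be b) :=
      fun {ε} h a ha b hb => by
        have := cmx (u.aH ε) ha hb
        simp only [etaK h ha, etaK h hb, etaK h (mul_mem ha hb), u.aL ε a ha b hb, H.nm_add] at this
        grind
    by_contra! n
    have mw := cmem (norW hg) (L.Zle (s.zZ 1))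
    obtain ⟨a, fa⟩ := H.ex_bf (fun e => n.1 ⟨m, e⟩) (u.z1 _ + ε * L.xi (g * s.zc 1 * g⁻¹))
    obtain ⟨b, fb⟩ := H.ex_bf (fun e => n.2 ⟨m, e⟩) (u.z1 _ + (ε + 1) * L.xi (g * s.zc 1 * g⁻¹))
    obtain ⟨k', hk', rfl, rfl⟩ := exL (u := u) ε a b
    have e1 := inv_mul_eq_one.1 (w2 (u := u) (ε := ε) (mul_mem (inv_mem (cm m hk')) mw)
      ((u.aH ε).div (cm m hk') mw ((c h _ m _ hk').trans fa))
      ((u.aH (ε + 1)).div (cm m hk') mw ((c (ε := ε + 1) (root h) _ m _ hk').trans fb)))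
    have e2 := c h k hk.1 _ (cmem' hg hk')
    rw [show k * (g⁻¹ * k' * g) * k⁻¹ * (g⁻¹ * k' * g)⁻¹ = s.zc 1 by rw [← EU.cj (g := g), ← e1]; group,
      show _ + _ = _ from hk.2] at e2
    simp [u.zZ, L1.xiZ (s.zZ 1)] at e2

theorem noM {ε : F} (h : ε * ε + ε = u.δ) (hy : y ∈ Nor u.Y) (h1 : y ∈ Nor (u.aL ε).ker) :
    ¬ s.Cls y := fun hc => by
  have ht := u.ht
  have q4 := H.four_le
  by_cases n : H.σ ε = ε
  swap
  · have ee : ∀ k ∈ (u.aL ε).ker, k * k = 1 := fun k hk => (invL h n hk.1).2 (.inl hk)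
    have c1 : Nat.card (u.aL ε).ker = (2 ^ H.n) ^ 2 * (2 ^ H.n) ^ 2 := by
      rw [(u.abe.mono (Y := (u.aL ε).ker) fun _ h => h.1).card_eq (fun b => (u.exk (ε * b) b).imp fun k f =>
        ⟨⟨f.1, by simp [f.2, H.aF]⟩, f.2.2⟩) (Y := L.W) fun x => ⟨fun m => ⟨⟨u.WY m, by
          simp [alW m, beW m]⟩, beW m⟩, fun m => mW m.1.1 (by simpa [m.2] using m.1.2) m.2⟩,
        H.cardF, L.cardW]
    have c2 := card_cm (X := (u.aL ε).ker) (B := (u.aL ε).ker ⊓ Cen1 y) (y := y) fun r hr => by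
      have m := mul_mem (cmem h1 hr) (inv_mem hr)
      refine ⟨m, c1s.1 (c1'.2 ?_)⟩
      rw [← inv2 (ee _ m), show y * (y * r * y⁻¹ * r⁻¹)⁻¹ * y⁻¹ = y * r * y * r⁻¹ * (y * y)⁻¹ by group,
        inv2 (ee _ m), hc.sq, inv2 hc.sq]; group
    have m := (ht.EA2 hc inf_le_right (fun b hb => ee b hb.1) (Nat.mul_self_le_mul_self_iff.1 (c1 ▸ c2))).1
    have := EA hc (fun k hk => GW.c1.2 (comm_of_ee ee hk m)) ee
    rw [c1, ht.card] at this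
    generalize 2 ^ H.n = q at *
    have : 4 * 4 * (4 * q) ≤ q ^ 2 * q ^ 2 := by rw [pow_two]; gcongr
    omega
  obtain ⟨ε, rfl⟩ : ∃ e : H.K, ε = e := ⟨⟨ε, H.mem_Kf.2 n⟩, rfl⟩
  have t := H.two
  have h2 : y ∈ Nor (u.aL (ε + 1)).ker := mnor ((uni (root h) hy).resolve_right fun f => by
    obtain ⟨k, hk, f1, f2⟩ := exL (u := u) ε 1 0
    have := f k ⟨hk, f2⟩
    rw [add_assoc, H.aF, add_zero] at this
    exact one_ne_zero (f1.symm.trans (mem_of_eq (cmem' h1 this) (by group) : k ∈ _).2))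
  have B1 := semiC (X := (u.aL (ε + 1)).ker) ((u.aL ε).mono fun _ h => h.1) (fun a => (exL (u := u) ε a 0).imp fun _ f =>
    ⟨⟨f.1, f.2.2⟩, f.2.1⟩) ((u.aH ε).mono (fun _ h => h.1 : (u.aH (ε + 1)).ker ≤ _))
    (fun w hw e => w2 hw.1 e hw.2) (fun k hk => ⟨⟨u.sq k hk.1, (etaK (ε := ε + 1) (root h) hk.1).trans
      (H.nm_eq_zero.2 hk.2)⟩, etaK h hk.1⟩) h2 hc.sq
  have B2 := semiC (X := (u.aL ε).ker) ((u.aL (ε + 1)).mono fun _ h => h.1) (fun a => (exL (u := u) ε 0 a).imp fun _ f =>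
    ⟨⟨f.1, f.2.1⟩, f.2.2⟩) ((u.aH (ε + 1)).mono (fun _ h => h.1 : (u.aH ε).ker ≤ _))
    (fun w hw e => w2 hw.1 hw.2 e) (fun k hk => ⟨⟨u.sq k hk.1, (etaK h hk.1).trans
      (H.nm_eq_zero.2 hk.2)⟩, etaK (ε := ε + 1) (root h) hk.1⟩) h1 hc.sq
  have m := ht.EA2 hc (B := L.W) (fun w hw => by
    obtain ⟨a, fa⟩ := H.ex_nm (u.z1 w + ε * L.xi w)
    obtain ⟨k, hk, rfl, f⟩ := exL (u := u) ε a 0
    exact (mul_mem_cancel_left (inv_mem (B1 ⟨u.sq k hk, (etaK (ε := ε + 1) (root h) hk).trans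
      (H.nm_eq_zero.2 f)⟩))).1 (B2 ⟨mul_mem (inv_mem (u.sq k hk)) hw, (u.aH ε).div (u.sq k hk) hw
      ((etaK h hk).trans fa)⟩)) (fun _ => u.WW) L.cardW.ge
  have := NI2 hc (cen_iff_le.1 (le_cen_symm u.cen m)) u.twoY fun k hk => le_cen_symm u.cen (u.sq k hk)
  rw [cardR0, ht.card, u.cardY] at this
  generalize 2 ^ H.n = q at *
  have c1 : 4 * q ^ 3 ≤ q ^ 6 := by
    rw [show q ^ 6 = q ^ 3 * q ^ 3 by ring]; gcongr; exact q4.trans (Nat.le_self_pow three_ne_zero q)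
  have c2 : 0 < q ^ 3 := by positivity
  have := (this (by omega)).1
  omega

include u in
theorem fin : Cmp t := by
  obtain ⟨P, ⟨hP, nY⟩, le, mx⟩ := H9.exists_maximal_ge (fun P : Subgroup G => IsPGroup 2 P ∧ P ≤ Nor u.Y)
    ⟨u.two2, u.T2Y⟩
  obtain ⟨ε, h⟩ := H.ex_root u.δ
  have TP := le_sup_right.trans le
  have tP := TP (s.E_T u.ht.mem)
  have tL : ∀ k ∈ u.Y, u.al (t * k * t⁻¹) + ε * u.be (t * k * t⁻¹) = u.al k + (ε + 1) * u.be k :=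
    fun k hk => by rw [(tk' hk).1, (tk' hk).2]; ring
  have k : ∀ a ∈ P, a ∉ P ⊓ Nor (u.aL ε).ker → t * a ∈ P ⊓ Nor (u.aL ε).ker := fun a ha n =>
    ⟨mul_mem tP ha, mnor fun k hk => by
      have := (uni h (nY ha)).resolve_left (fun f => n ⟨ha, mnor f⟩) k hk
      exact mem_of_eq (⟨cmem u.tN this.1, (tL _ this.1).trans this.2⟩ : _ ∈ (u.aL ε).ker) (by group)⟩
  refine u.ht.finB (by_contra fun n => ?_) TP (inf_le_left (b := Nor (u.aL ε).ker))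
    (fun a ha b hb a1 b1 => mem_of_eq (mul_mem (inv_mem (k _ (inv_mem ha) (mt (inv_mem_iff.1 ·) a1)))
      (k b hb b1)) (by group)) (fun m => ?_) (.inl fun g _ m => noM h (nY m.1) m.2 (u.ht.cls g))
  · obtain ⟨x, hx, x1, x2⟩ := grow hP n
    exact x1 ((mx _ ⟨two_sup_zp hP hx x2, sup_le nY (zpowers_le.2 (chY hP le nY hx))⟩ le_sup_left).le
      (mem_sup_right (mem_zpowers x)))
  · obtain ⟨k, hk, f1, f2⟩ := exL (u := u) ε 0 1
    exact one_ne_zero (f2.symm.trans ((tL k hk).symm.trans (cmem (mem_inf.1 m).2 ⟨hk, f1⟩).2))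

end Tr

theorem Tw.fin (ht : s.Tw t) : Cmp t := by
  by_cases h : ∀ x ∈ Nor s.R0, x ∈ Nor s.E
  · exact ht.case0 h
  push Not at h
  obtain ⟨x, h1, h2⟩ := h
  obtain ⟨L⟩ := exists_L1 h1 h2
  by_cases c0 : L.c = 0
  swap
  · exact L.case1 ht c0
  by_cases n : IsSylowOf 2 L.T1 ⊤
  · refine L.bw.finB ht L.ab n fun y hy hc => noZ hc (L1.AZ (by_contra fun m => ?_) (L.ga0 y hy))
    rcases (L1.cja hc (L.Rs_R hy) m).2 with h | h | h
    exacts [h.2.1 (L.ga0 y hy), L.nfull ht h.2.2, h.1 c0]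
  obtain ⟨x, hx, x1, x2⟩ := grow L.twoT1 n
  have nR := L1.chR fun r hr => cmem hx (L.R_T1 hr)
  obtain ⟨t', ⟨u⟩⟩ := L.exists_Tr c0 nR (L1.norW (L.nfull ht) nR) ht.mem fun m => x1 (inv_mem_iff.1
    (L1.backA (two_sup_zp L.twoT1 hx x2) le_sup_left (mem_sup_right (inv_mem (mem_zpowers x))) ht.mem
    ht.ne (by simpa using m)))
  exact (ht.all t' u.ht.mem).resolve_left u.ht.ne ▸ u.fin

end Hy

end EU
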