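import Cfsg.Agent.EU.L

/-! The case `|E| > 2`: the Sylow 2-subgroup. -/

set_option autoImplicit false
set_option linter.unusedSectionVars false
set_option linter.unusedVariables false

namespace EU

open Cfsg Subgroup FT H4 GW H2 Qd
open H5 (IsSylowOf mem_of_eq)

variable {G : Type*} [Group G] [Finite G] {F : Type*} [Field F] [Fintype F] {H : Hq F} {s : Hy G H}
  {a e e' g x y z k k' p p' v w r r' t : G} {X P B M V W K N : Subgroup G}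

theorem Hq.mobk (H : Hq F) {a b ψ α : F} {x y γ ξ : H.K} (ab : a ≠ b) (x0 : x ≠ 0)
    (h1 : ξ + γ * H.nm a + H.bf a α = 0) (h2 : ξ + γ * H.nm b + H.bf b α = 0)
    (hψ : α + γ * a = ψ * (a + b))
    (hs : (x + y + γ) * (x * H.nm a + y * H.nm b + ξ) + H.nm (x * a + y * b + α) = 0) :
    (1 + ψ / x) * (x * a + y * b + α) = (x + y + γ : H.K) * (a + ψ / x * b) ∧
      (x + y + γ = 0 ↔ ψ / x = 1) := by
  have t := H.two
  obtain rfl : α = ψ * (a + b) + γ * a := by grind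
  have d : a + b ≠ 0 := fun e => ab (H.eqF.1 e)
  have d' : H.σ a + H.σ b ≠ 0 := by rw [← map_add]; exact (map_ne_zero _).2 d
  have x1 : (x : F) ≠ 0 := by simpa using x0
  have i := H.invol ψ
  rw [Subtype.ext_iff] at h1 h2 hs
  simp only [Subfield.coe_add, Subfield.coe_mul, Hq.nm_coe, Hq.bf_coe, map_add, map_mul, Hq.sk,
    ZeroMemClass.coe_zero] at h1 h2 hs
  have e1 : (γ : F) = ψ + H.σ ψ := by
    have : (γ + ψ + H.σ ψ) * ((a + b) * (H.σ a + H.σ b)) = 0 := by grind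
    grind
  have e2 : (x : F) * y = ψ * H.σ ψ := by
    have : (x * y + ψ * H.σ ψ) * ((a + b) * (H.σ a + H.σ b)) = 0 := by grind
    grind
  refine ⟨?_, ?_⟩
  · simp only [Subfield.coe_add]; field_simp; grind
  rw [div_eq_one_iff_eq x1, ← H.eqF, ← H.nm_eq_zero, ← mul_right_inj' x0, mul_zero]
  refine Eq.congr_left (Subtype.ext ?_)
  simp only [Subfield.coe_add, Subfield.coe_mul, Hq.nm_coe, map_add, Hq.sk]; grind

namespace Hy

theorem sc0 (h4 : 4 ≤ Nat.card s.E) (h : ∀ x ∈ Nor s.R0, x ∈ Nor s.E) :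
    IsSylowOf 2 s.T ⊤ ∧ IsStronglyClosed s.E s.T := by
  obtain ⟨e₁, h₁, n₁⟩ := s.exE
  refine ⟨by_contra fun n => ?_, s.E_T, fun e he g hg => ?_⟩
  · obtain ⟨x, hx, x1, x2⟩ := grow s.twoT n
    exact x1 (back (two_sup_zp s.twoT hx x2) le_sup_left (mem_sup_right (mem_zpowers x)) h₁ n₁
      (cmem (h x (mem_normalizer_iff_conjS.2 (L0 (fun a ha => mem_of_eq (cmem hx (s.R0_T
      (mem_conjS.1 ha))) (by group)) (fun a ha => cen.2 fun b hb => cjc'.1 (by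
        simpa [mul_assoc] using cen.1 (sqR (mem_conjS.1 ha)) _ (mem_conjS.1 hb)))
      (card_conjS ..).ge))) h₁))
  by_cases e1 : e = 1
  · simp [e1]
  have m : g⁻¹ * e₁ * g ∈ s.C := (cC he e1).2 (by
    rw [← cjc (g := g)]; simpa [mul_assoc] using (EC h₁ (s.T_C hg)).symm)
  obtain ⟨c, hc, f⟩ := toT (X := conjS g s.E) (fun a ha => (cC h₁ n₁).2 (cjc'.1
    (EC (mem_conjS.1 ha) m).symm)) (s.twoE.map _)
  have mT : ∀ a ∈ conjS (c * g) s.E, a ∈ s.T := fun a ha =>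
    mem_of_eq (f _ (conj_mem_conjS (mem_conjS.1 ha))) (by group)
  have sq : ∀ a ∈ conjS (c * g) s.E, a * a = 1 := fun a ha => by
    simpa [← mul_assoc] using W.csq (g := c * g) (s.ee _ (mem_conjS.1 ha))
  have c1 := TW.idx2' (M := conjS (c * g) s.E ⊓ s.A) inf_le_left fun a ha b hb a1 b1 => ⟨mul_mem ha hb,
    memA' (kerT (mT _ (mul_mem ha hb)) (cyc s.spQ (s.T_N (mT a ha)) (s.T_N (mT b hb)) (by simp [sq a ha])
      (by simp [sq b hb]) (fun e => a1 ⟨ha, memA' (kerT (mT a ha) e) (sq a ha)⟩)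
      fun e => b1 ⟨hb, memA' (kerT (mT b hb) e) (sq b hb)⟩)) (sq _ (mul_mem ha hb))⟩
  rw [card_conjS] at c1
  obtain ⟨⟨_, ⟨a, ha, rfl⟩, m⟩, a1⟩ := ne_bot_iff_exists_ne_one.1
    ((Subgroup.one_lt_card_iff_ne_bot (conjS (c * g) s.E ⊓ s.A)).1 (by omega))
  have a2 : a ≠ 1 := fun e => a1 (Subtype.ext (by simp [e]))
  exact cmem ((mul_mem_cancel_left (s.C_norE hc)).1 (ti ha a2 (clsA h (cls ha a2 _) m))) he

namespace L1

variable {L : s.L1}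

variable (L) in
/-- elements interchanging `A` and `W` -/
def Sw (p : G) : Prop := (∀ a ∈ s.A, p * a * p⁻¹ ∈ L.W) ∧ ∀ w ∈ L.W, p * w * p⁻¹ ∈ s.A

theorem Sw.inv (h : L.Sw p) : L.Sw p⁻¹ :=
  ⟨fun a ha => mem_of_eq (h.1 _ (cmem' (g := p * p) (mnor fun a ha =>
      mem_of_eq (h.2 _ (h.1 a ha)) (by group)) ha)) (by group),
    fun a ha => mem_of_eq (h.2 _ (cmem' (g := p * p) (mnor fun a ha =>
      mem_of_eq (h.1 _ (h.2 a ha)) (by group)) ha)) (by group)⟩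
theorem Sw.le (h : L.Sw p) : 2 ^ H.n ≤ Nat.card s.E := by
  have := card_le_of_le (H := conjS p L.W) (K := s.A) (by rintro _ ⟨w, hw, rfl⟩; exact h.2 w hw)
  rw [card_conjS, L.cardW, cardA, pow_two] at this
  exact Nat.le_of_mul_le_mul_right this (by positivity)
theorem A_R' (ha : a ∈ s.A) : a ∈ L.R := L.R0_R (s.A_R0 ha)
theorem xiA (ha : a ∈ s.A) : L.xi a = 0 := L.xi0 a (s.A_R0 ha)
theorem inA' (hr : r ∈ L.R) (rr : r * r = 1) (ha : a ∈ s.A) (n : a ∉ s.Z) (h : r * a = a * r) : r ∈ s.A :=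
  memA' (mR0 hr (by simpa [xiA ha, iaA ha, mt (AZ ha) n] using (cmi hr (A_R' ha)).1 h)) rr
theorem A1 (hx : x ∈ Nor L.R) (ha : a ∈ s.A) (n : a ∉ s.Z) (h : x * a * x⁻¹ ∈ s.A) : x ∈ Nor s.A :=
  mnor fun b hb => inA' (cmem hx (A_R' hb)) (_root_.W.csq (AA hb)) h (fun m => n (mem_of_eq (cmem'
    (L.norZ hx) m) (by group))) (cjc.2 (A_R ha (s.A_R0 hb)))
theorem AR0 (hx : x ∈ Nor L.R) (h : x ∈ Nor s.A) : x ∈ Nor s.R0 := mnor fun r hr => by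
  obtain ⟨e, he, e1⟩ := s.exE
  rw [L.R0_eq he e1]
  exact ⟨cmem hx (L.R0_R hr), GW.c1.2 (by
    simpa [mul_assoc] using (cjc (g := x)).2 (A_R (cmem' h (s.E_A he)) hr))⟩
theorem EZ (he : e ∈ s.E) (e1 : e ≠ 1) : e ∉ s.Z := fun m => e1 (EQ he (s.Z_le m))

section
variable (c0 : L.c = 0)
include c0

theorem WW (hw : w ∈ L.W) : w * w = 1 := ((L.spRs c0).ia0 (L.W_Rs hw)).1 (iaW hw)
theorem sq0 (hr : r ∈ L.R) (rr : r * r = 1) : L.ga r * L.xi r = H.nm (s.ia r) := by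
  simpa [c0, H.eqK] using (sqi hr).1 rr
theorem gW (hr : r ∈ L.R) (rr : r * r = 1) (h : L.ga r = 0) : r ∈ L.W :=
  mW hr h (H.nm_eq_zero.1 (by rw [← sq0 c0 hr rr, h, zero_mul]))
theorem inW' (hr : r ∈ L.R) (rr : r * r = 1) (hw : w ∈ L.W) (n : w ∉ s.Z) (h : r * w = w * r) : r ∈ L.W :=
  gW c0 hr rr (by simpa [gaW hw, iaW hw, mt (L.kerW w hw) n] using (cmi hr (L.W_R hw)).1 h)
theorem W1 (hx : x ∈ Nor L.R) (hw : w ∈ L.W) (n : w ∉ s.Z) (h : x * w * x⁻¹ ∈ L.W) : x ∈ Nor L.W :=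
  mnor fun b hb => inW' c0 (cmem hx (L.W_R hb)) (_root_.W.csq (WW c0 hb)) h (fun m => n (mem_of_eq (cmem'
    (L.norZ hx) m) (by group))) (cjc.2 (L.ab b hb w hw))
theorem AW (hx : x ∈ Nor L.R) (h : x ∈ Nor s.A) : x ∈ Nor L.W := mnor fun w hw => by
  have m := cmem hx (L.W_R hw)
  have a0 := ia_cen (cmem (mcen (norQ (AR0 hx h))) (L.cen hw))
  have := sq0 c0 m (_root_.W.csq (WW c0 hw))
  rw [a0, H.nm_zero, mul_eq_zero] at this
  exact this.elim (mW m · a0) fun f => L.Zle (cmem (L.norZ hx) (AZ (mem_of_eq (cmem' h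
    (memA (mR0 m f) a0)) (by group)) (gaW hw)))
theorem col (hr : r ∈ L.R) (hr' : r' ∈ L.R) (rr : r * r = 1) (rr' : r' * r' = 1) (h : r * r' = r' * r) :
    L.ga r * s.ia r' = L.ga r' * s.ia r := by
  have := (cmi hr hr').1 h
  have := H.twoK
  rw [← H.eqF, ← H.nm_eq_zero, H.nm_add, H.nm_mul, H.nm_mul, H.nm_k, H.nm_k, H.k_bf, H.bf_k,
    ← sq0 c0 hr rr, ← sq0 c0 hr' rr', H.bf_comm]
  grind
theorem loc (hr : r ∈ L.R) (hr' : r' ∈ L.R) (rr : r * r = 1) (rr' : r' * r' = 1) (g0 : L.ga r ≠ 0)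
    (g0' : L.ga r' ≠ 0) (h : s.ia r / L.ga r = s.ia r' / L.ga r') : r * r' = r' * r := by
  have := H.twoK
  rw [div_eq_div_iff (by simpa using g0) (by simpa using g0'), mul_comm, mul_comm (s.ia r'), ← H.eqF,
    ← H.nm_eq_zero, H.nm_add, H.nm_mul, H.nm_mul, H.nm_k, H.nm_k, H.k_bf, H.bf_k,
    ← sq0 c0 hr rr, ← sq0 c0 hr' rr'] at h
  exact (cmi hr hr').2 (by grind)

variable (h4 : 4 ≤ Nat.card s.E)
include h4

theorem WA (hx : x ∈ Nor L.R) (h : x ∈ Nor L.W) : x ∈ Nor s.A :=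
  (Nor s.A).inv_mem_iff.1 (s.exE.elim fun e he => A1 (inv_mem hx) (s.E_A he.1) (EZ he.1 he.2) (by
    by_contra n
    obtain ⟨t, ⟨u⟩⟩ := L.exists_Tr c0 hx h he.1 (by simpa using n)
    have := u.ht.card
    omega))

theorem sw1 (hg : g ∈ Nor L.R) (ha : a ∈ s.A) (n : a ∉ s.Z) (h : g * a * g⁻¹ ∈ L.W) : L.Sw g := by
  have n' : g * a * g⁻¹ ∉ s.Z := fun m => n (mem_of_eq (cmem' (L.norZ hg) m) (by group))
  have k : ∀ b ∈ s.A, g * b * g⁻¹ ∈ L.W := fun b hb => inW' c0 (cmem hg (A_R' hb)) (_root_.W.csq (AA hb))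
    h n' (cjc.2 (A_R ha (s.A_R0 hb)))
  obtain ⟨l, -, l2⟩ := H.ex_l0
  obtain ⟨e, he, e1⟩ := s.exE
  have m := cmem (le_normalizer hg) (L.D_R (s.hD l))
  have m1 := cmem (WA c0 h4 m (W1 c0 m h n' (mem_of_eq (k _ (cmem (s.D_A (s.hD l)) ha)) (by group))))
    (s.E_A he)
  have r1 := cmem' hg (L.E_R he)
  have rr := csq' (g := g) (s.ee e he)
  have := col c0 r1 (cmem (L.D_R (s.hD l)) r1) rr (_root_.W.csq rr) (by
    rw [← cjc (g := g)]; simpa [mul_assoc] using A_R m1 (s.E_R0 he))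
  rw [gaD (s.hD l) r1, iah l (L.R_CQ r1), ← mul_assoc, mul_eq_mul_right_iff] at this
  have mW : g⁻¹ * e * g ∈ L.W := by
    by_cases g0 : L.ga (g⁻¹ * e * g) = 0
    · exact gW c0 r1 rr g0
    have a0 := this.resolve_left fun f => l2 (by
      rw [mul_right_eq_self₀.1 f |>.resolve_right (by simpa using g0), map_one])
    have := sq0 c0 r1 rr
    rw [a0, H.nm_zero, mul_eq_zero] at this
    exact absurd (AZ (cmem ((Nor s.A).inv_mem_iff.1 (A1 (inv_mem hg) (s.E_A he) (EZ he e1) (by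
      simpa using memA (mR0 r1 (this.resolve_left g0)) a0))) ha) (gaW h)) n'
  exact ⟨k, fun w hw => inA' (cmem hg (L.W_R hw)) (_root_.W.csq (WW c0 hw)) (s.E_A he) (EZ he e1) (by
    simpa [mul_assoc] using (cjc (g := g)).2 (L.ab w hw _ mW))⟩

theorem partner (he : e ∈ s.E) (e1 : e ≠ 1) (hw : w ∈ L.W) (w1 : w ∉ s.Z) (hk : k ∈ Nor L.R)
    (hk' : k' ∈ Nor L.R) (g0 : L.ga (k * e * k⁻¹) ≠ 0) (g0' : L.ga (k' * e * k'⁻¹) ≠ 0) (n : k ∉ Nor s.A)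
    (h : s.ia (k * e * k⁻¹) / L.ga (k * e * k⁻¹) = s.ia (k' * e * k'⁻¹) / L.ga (k' * e * k'⁻¹)) :
    s.ia (k * w * k⁻¹) / L.ga (k * w * k⁻¹) = s.ia (k' * w * k'⁻¹) / L.ga (k' * w * k'⁻¹) := by
  have ee := s.ee e he
  have m := mul_mem (inv_mem hk) hk'
  have nA := A1 m (s.E_A he) (EZ he e1) (inA' (cmem m (L.E_R he)) (_root_.W.csq ee) (s.E_A he) (EZ he e1)
    (by rw [← cjc (g := k)]; simpa [mul_assoc] using (loc c0 (cmem hk (L.E_R he)) (cmem hk' (L.E_R he))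
      (_root_.W.csq ee) (_root_.W.csq ee) g0 g0' h).symm))
  have j : ∀ k ∈ Nor L.R, k ∉ Nor s.A → (L.ga (k * w * k⁻¹) : F) ≠ 0 := fun k hk n f => n (WA c0 h4 hk
    (W1 c0 hk hw w1 (gW c0 (cmem hk (L.W_R hw)) (_root_.W.csq (WW c0 hw)) (by simpa using f))))
  rw [div_eq_div_iff (j k hk n) (j k' hk' fun f => n (inv_mem_iff.1 ((mul_mem_cancel_right f).1 nA))),
    mul_comm, mul_comm (s.ia (k' * w * k'⁻¹))]
  exact col c0 (cmem hk' (L.W_R hw)) (cmem hk (L.W_R hw)) (_root_.W.csq (WW c0 hw))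
    (_root_.W.csq (WW c0 hw)) (by
      simpa [mul_assoc] using (cjc (g := k)).2 (L.ab _ (cmem (AW c0 m nA) hw) w hw))

theorem dich (hg : g ∈ Nor L.R) : g ∈ Nor s.A ∨ L.Sw g := by
  classical
  by_contra! n
  obtain ⟨e₁, h₁, n₁⟩ := s.exE
  obtain ⟨w₁, m₁, f₁⟩ := L.exW 1
  have z₁ : w₁ ∉ s.Z := fun m => zero_ne_one ((xiZ m).symm.trans f₁)
  have t := H.twoK
  have gE : ∀ e ∈ s.E, e ≠ 1 → L.ga (g * e * g⁻¹) ≠ 0 := fun e he e1 f => n.2 (sw1 c0 h4 hg (s.E_A he)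
    (EZ he e1) (gW c0 (cmem hg (L.E_R he)) (_root_.W.csq (s.ee e he)) f))
  have y1 := cmem hg (L.E_R h₁)
  have v1 := cmem hg (L.W_R m₁)
  have yy := _root_.W.csq (g := g) (s.ee e₁ h₁)
  have vv := _root_.W.csq (g := g) (WW c0 m₁)
  have gy := gE e₁ h₁ n₁
  have gv : L.ga (g * w₁ * g⁻¹) ≠ 0 := fun f => n.1 (WA c0 h4 hg (W1 c0 hg m₁ z₁ (gW c0 v1 vv f)))
  have iA : ∀ r ∈ L.R, r * r = 1 → L.ga r ≠ 0 → s.ia r = 0 → r ∈ s.A := fun r hr rr g0 a0 =>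
    memA (mR0 hr (by simpa [a0, g0] using sq0 c0 hr rr)) a0
  have ay : s.ia (g * e₁ * g⁻¹) ≠ 0 := fun f => n.1 (A1 hg (s.E_A h₁) (EZ h₁ n₁) (iA _ y1 yy gy f))
  have av : s.ia (g * w₁ * g⁻¹) ≠ 0 := fun f => n.2 (by
    simpa using (sw1 c0 h4 (inv_mem hg) (iA _ v1 vv gv f) (mt gaZ gv) (by simpa [mul_assoc] using m₁)).inv)
  have yv : g * e₁ * g⁻¹ * (g * w₁ * g⁻¹) ≠ g * w₁ * g⁻¹ * (g * e₁ * g⁻¹) := fun f => by
    simpa [f₁, gaW m₁, iaW m₁, mt (L.gaE e₁ h₁) n₁] using (cmi (L.E_R h₁) (L.W_R m₁)).1 (cjc.1 f)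
  have pt : ∀ y ∈ L.R, y * y = 1 → L.ga y ≠ 0 → ∀ r ∈ L.R, r * y = y * r →
      L.xi r + L.ga r * H.nm (s.ia y / L.ga y) + H.bf (s.ia y / L.ga y) (s.ia r) = 0 ∧ (r * r = 1 →
      s.ia r = L.ga r * (s.ia y / L.ga y) ∧ L.xi r = L.ga r * H.nm (s.ia y / L.ga y)) :=
    fun y hy yy g0 r hr c => by
      have g1 : (L.ga y : F) ≠ 0 := by simpa using g0
      have e1 := (cmi hr hy).1 c
      have e2 := sq0 c0 hy yy
      have e3 := fun rr => col c0 hy hr yy rr c.symm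
      rw [← mul_div_cancel₀ (s.ia y) g1] at e1 e2 e3
      generalize s.ia y / L.ga y = a at *
      rw [H.nm_mul, H.nm_k] at e2
      rw [H.bf_k, H.bf_comm] at e1
      have e4 : L.xi r + L.ga r * H.nm a + H.bf a (s.ia r) = 0 := by grind
      refine ⟨e4, fun rr => ?_⟩
      have e5 : s.ia r = L.ga r * a := mul_left_cancel₀ g1 (by rw [e3 rr]; ring)
      rw [e5, H.bf_k] at e4
      exact ⟨e5, by simpa [H.eqK] using e4⟩
  have ab := mt (loc c0 y1 v1 yy vv gy gv) yv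
  have pa := pt _ y1 yy gy
  have pb := pt _ v1 vv gv
  have a0 := div_ne_zero ay (show (L.ga (g * e₁ * g⁻¹) : F) ≠ 0 by simpa using gy)
  generalize s.ia (g * e₁ * g⁻¹) / L.ga (g * e₁ * g⁻¹) = a at ab pa a0
  generalize s.ia (g * w₁ * g⁻¹) / L.ga (g * w₁ * g⁻¹) = b at ab pb
  have d : a + b ≠ 0 := fun e => ab (H.eqF.1 e)
  have cQ : ∀ u ∈ s.Q, ∀ r ∈ Cen s.Q, g * u * g⁻¹ * (g * r * g⁻¹) = g * r * g⁻¹ * (g * u * g⁻¹) :=
    fun u hu r hr => cjc.2 (GW.cen.1 hr u hu).symm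
  have gQ := fun u hu => cmem hg (L.Q_R (x := u) hu)
  have gz := fun b => cmem (L.norZ hg) (s.zZ b)
  obtain ⟨ψ, hψ⟩ := (ia_add.mono s.Q_le).fac s.exQ
    (φ := fun u => (s.ia (g * u * g⁻¹) + L.ga (g * u * g⁻¹) * a) / (a + b)) (fun u hu u' hu' => by
      simp only [← conj_mul, L.aia _ (gQ u hu) _ (gQ u' hu'), L.aga _ (gQ u hu) _ (gQ u' hu'),
        Subfield.coe_add]; ring) fun u hu f => by
      simp [ia_Z (cmem (L.norZ hg) (memZ hu f)), gaZ (cmem (L.norZ hg) (memZ hu f))]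
  have nψ : ∀ u ∈ s.Q, H.nm (ψ (s.ia u)) = s.ze (g * s.zc (H.nm (s.ia u)) * g⁻¹) / H.nm (a + b) :=
    fun u hu => by
      have := (pa _ (gQ u hu) (cQ u hu _ (s.E_cen h₁))).1
      rw [← hψ u hu, ← sqQ hu, ← conj_mul, L.sq _ (gQ u hu), ze_zc, div_eq_mul_inv, H.nm_mul, H.nm_inv,
        div_eq_mul_inv, H.nm_add, H.nm_mul, H.nm_k, H.bf_k, H.bf_comm, c0]
      congr 1; grind
  obtain ⟨κ, κ0, θ, f⟩ := H.semil ψ ((injective_iff_map_eq_zero _).2 fun c hc => by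
      obtain ⟨u, hu, rfl⟩ := s.exQ c
      have := nψ u hu
      rwa [hc, H.nm_zero, eq_comm, div_eq_zero_iff, or_iff_left (H.nm_ne d), ze0 (gz _), conj_eq_one_iff,
        zc_eq_one, H.nm_eq_zero] at this)
    (fun c => s.ze (g * s.zc c * g⁻¹) / H.nm (a + b)) (fun c c' => by
      rw [← add_div, ← s.ze_add _ (gz c) _ (gz c'), conj_mul, zc_add]) fun c => by
      obtain ⟨u, hu, rfl⟩ := s.exQ c
      exact nψ u hu
  have key : ∀ e ∈ s.E, ∀ r ∈ L.R, r * r = 1 → L.ga r ≠ 0 → L.ga e = L.ga r →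
      (1 + κ * θ (s.ia r) / L.ga (g * e * g⁻¹)) * s.ia (g * r * g⁻¹) = L.ga (g * r * g⁻¹) *
        (a + κ * θ (s.ia r) / L.ga (g * e * g⁻¹) * b) ∧
      (L.ga (g * r * g⁻¹) = 0 ↔ κ * θ (s.ia r) / L.ga (g * e * g⁻¹) = 1) := fun e he r hr rr g0 ge => by
    have sq := (sqi (cmem hg hr)).1 (_root_.W.csq rr)
    obtain ⟨e', he', w, hw, u, hu, rfl⟩ := (decR L.nor).1 hr
    obtain rfl : e = e' := by
      rw [(co he' hw hu).1, ← H.eqK, ← L.aga _ (L.E_R he) _ (L.E_R he')] at ge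
      rw [← einv he', eq_inv_of_mul_eq_one_left (L.gaE _ (mul_mem he he') ge)]
    have m1 := cmem hg (L.E_R he)
    have m2 := cmem hg (L.W_R hw)
    have m3 := gQ u hu
    have p1 := (pa _ m1 (cjc.2 (Ecm he h₁))).2 (_root_.W.csq (s.ee e he))
    have p2 := (pb _ m2 (cjc.2 (L.ab w hw w₁ m₁))).2 (_root_.W.csq (WW c0 hw))
    rw [(co he hw hu).2.2, ← f, ← hψ u hu]
    rw [← conj_mul, ← conj_mul, ← mul_assoc, L.aga _ (mul_mem m1 m2) _ m3, L.aga _ m1 _ m2,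
      L.aia _ (mul_mem m1 m2) _ m3, L.aia _ m1 _ m2, p1.1, p2.1] at sq ⊢
    rw [L.axi _ (mul_mem m1 m2) _ m3, L.axi _ m1 _ m2, p1.2, p2.2, c0, zero_add] at sq
    exact H.mobk ab (gE e he fun f => g0 (by rw [(co he hw hu).1, f, L.aga.one]))
      (pa _ m3 (cQ u hu _ (s.E_cen h₁))).1 (pb _ m3 (cQ u hu _ (L.cen m₁))).1
      (div_mul_cancel₀ _ d).symm sq
  obtain ⟨e, he, fe⟩ := gaR y1
  obtain ⟨e', he', fe'⟩ := gaR v1
  have x0 : (L.ga (g * e * g⁻¹) : F) ≠ 0 := by simpa using gE e he fun f => gy (by rw [← fe, f, L.aga.one])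
  have x0' : (L.ga (g * e' * g⁻¹) : F) ≠ 0 := by
    simpa using gE e' he' fun f => gv (by rw [← fe', f, L.aga.one])
  have u0 : κ * θ (s.ia (g * e₁ * g⁻¹)) / L.ga (g * e * g⁻¹) ≠ 0 := by simp [κ0, ay, x0]
  have k1 : ∀ l, ∀ e ∈ s.E, ∀ r ∈ L.R, r * r = 1 → L.ga (g * r * g⁻¹) ≠ 0 → L.ga e = L.ga (g * r * g⁻¹) →
      ∀ k m, k = g * s.h (Units.map (θ.symm : F →* F) l) * g →
      m = κ * θ (s.ia (g * r * g⁻¹)) / L.ga (g * e * g⁻¹) * H.mu l →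
      (1 + m) * s.ia (k * r * k⁻¹) = L.ga (k * r * k⁻¹) * (a + m * b) ∧
        (L.ga (k * r * k⁻¹) = 0 ↔ m = 1) := by
    rintro l e he r hr rr g0 ge _ _ rfl rfl
    have m := cmem hg hr
    have := key e he _ (cmem (L.D_R (s.hD (Units.map (θ.symm : F →* F) l))) m) (_root_.W.csq
      (_root_.W.csq rr)) (by rwa [gaD (s.hD _) m]) (by rwa [gaD (s.hD _) m])
    rw [iah _ (L.R_CQ m), H.mu_th, map_mul, RingEquiv.apply_symm_apply] at this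
    convert this using 3 <;> first | ring | group | (congr 1; group) | (congr 2; group)
  generalize hK : (fun l => g * s.h (Units.map (θ.symm : F →* F) l) * g) = K
  have KR : ∀ l, K l ∈ Nor L.R := fun l => hK ▸ mul_mem (mul_mem hg (L.D_R (s.hD _))) hg
  have A1 := fun l => k1 l e he e₁ (L.E_R h₁) (s.ee e₁ h₁) gy fe (K l) _ (hK ▸ rfl) rfl
  have A2 := fun l => k1 l e' he' w₁ (L.W_R m₁) (WW c0 m₁) gv fe' (K l) _ (hK ▸ rfl) rfl
  generalize κ * θ (s.ia (g * e₁ * g⁻¹)) / L.ga (g * e * g⁻¹) = u at u0 A1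
  generalize κ * θ (s.ia (g * w₁ * g⁻¹)) / L.ga (g * e' * g⁻¹) = u' at A2
  have dv : ∀ {m α : F} {γ : H.K}, γ ≠ 0 → (1 + m) * α = γ * (a + m * b) → (1 + m) * (α / γ) = a + m * b :=
    fun {m α γ} g0 e => by rw [← mul_div_assoc, e, mul_div_cancel_left₀ _ (by simpa using g0)]
  have KE := fun l => cmem (KR l) (L.E_R h₁)
  have KW := fun l => cmem (KR l) (L.W_R m₁)
  have KEE := fun l => _root_.W.csq (g := K l) (s.ee e₁ h₁)
  have KWW := fun l => _root_.W.csq (g := K l) (WW c0 m₁)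
  have gd : ∀ l, u * H.mu l ≠ 1 → u * H.mu l * b ≠ a → L.ga (K l * e₁ * (K l)⁻¹) ≠ 0 ∧
      s.ia (K l * e₁ * (K l)⁻¹) / L.ga (K l * e₁ * (K l)⁻¹) ≠ 0 ∧ K l ∉ Nor s.A := fun l h1 h2 => by
    have g0 := mt (A1 l).2.1 h1
    have f0 : s.ia (K l * e₁ * (K l)⁻¹) / L.ga (K l * e₁ * (K l)⁻¹) ≠ 0 := fun f => h2 (H.eqF.1 (by
      rw [add_comm, ← dv g0 (A1 l).1, f, mul_zero]))
    exact ⟨g0, f0, fun m => f0 (by rw [iaA (cmem m (s.E_A h₁)), zero_div])⟩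
  refine H.mob (ρ := u' / u) a0 ab (fun ρ1 => yv (cjc.2 ((cjc (g := K 1)).1 ?_))) u0
    (fun l => if u * H.mu l ≠ 1 ∧ u * H.mu l * b ≠ a then s.ia (K l * e₁ * (K l)⁻¹) /
      L.ga (K l * e₁ * (K l)⁻¹) else 0) (fun l => s.ia (K l * w₁ * (K l)⁻¹) / L.ga (K l * w₁ * (K l)⁻¹))
    (fun l h1 h2 => ?_) fun l l' l'' h1 h2 => ?_
  · obtain rfl := (div_eq_one_iff_eq u0).1 ρ1
    by_cases m1 : u' * H.mu 1 = 1
    · exact L.ab _ (gW c0 (KE 1) (KEE 1) ((A1 1).2.2 m1)) _ (gW c0 (KW 1) (KWW 1) ((A2 1).2.2 m1))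
    exact loc c0 (KE 1) (KW 1) (KEE 1) (KWW 1) (mt (A1 1).2.1 m1) (mt (A2 1).2.1 m1) (mul_left_cancel₀
      (fun e => m1 (H.eqF.1 e).symm) ((dv (mt (A1 1).2.1 m1) (A1 1).1).trans
      (dv (mt (A2 1).2.1 m1) (A2 1).1).symm))
  · obtain ⟨g0, f0, nA⟩ := gd l h1 h2
    rw [if_pos ⟨h1, h2⟩, ← mul_assoc, div_mul_cancel₀ _ u0]
    exact ⟨f0, dv g0 (A1 l).1, dv (fun f => nA (WA c0 h4 (KR l) (W1 c0 (KR l) m₁ z₁
      (gW c0 (KW l) (KWW l) f)))) (A2 l).1⟩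
  have c1 : u * H.mu l ≠ 1 ∧ u * H.mu l * b ≠ a := by_contra fun n => h1 (if_neg n)
  have c2 : u * H.mu l' ≠ 1 ∧ u * H.mu l' * b ≠ a := by_contra fun n => h1 (by
    rw [h2, if_neg n, mul_zero])
  rw [if_pos c1, if_pos c2] at h2
  have j : ∀ r ∈ L.R, s.ia (s.h l'' * K l' * r * (s.h l'' * K l')⁻¹) = H.mu l'' * s.ia (K l' * r * (K l')⁻¹)
      ∧ L.ga (s.h l'' * K l' * r * (s.h l'' * K l')⁻¹) = L.ga (K l' * r * (K l')⁻¹) := fun r hr => by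
    rw [← iah l'' (L.R_CQ (cmem (KR l') hr)), ← gaD (s.hD l'') (cmem (KR l') hr)]
    constructor <;> congr 1 <;> group
  have := partner c0 h4 h₁ n₁ m₁ z₁ (KR l) (mul_mem (L.D_R (s.hD l'')) (KR l')) (gd l c1.1 c1.2).1
    ((j _ (L.E_R h₁)).2 ▸ (gd l' c2.1 c2.2).1) (gd l c1.1 c1.2).2.2 (by
      rw [h2, (j _ (L.E_R h₁)).1, (j _ (L.E_R h₁)).2, mul_div_assoc])
  rw [this, (j _ (L.W_R m₁)).1, (j _ (L.W_R m₁)).2, mul_div_assoc]

end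

end L1

end Hy

end EU
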