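import Cfsg.Agent.EU.M

/-! The case `|E| > 2`: strong closure. -/

set_option autoImplicit false
set_option linter.unusedSectionVars false
set_option linter.unusedVariables false

namespace EU

open Cfsg Subgroup FT H4 GW H2 Qd
open H5 (IsSylowOf mem_of_eq)

variable {G : Type*} [Group G] [Finite G] {F : Type*} [Field F] [Fintype F] {H : Hq F} {s : Hy G H}
  {a e e' g x y z z₀ k k' p p' v w r r' t : G} {X P B M V W K N : Subgroup G}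

namespace Hy

namespace L1

variable {L : s.L1}

theorem Sw.nQ (h : L.Sw p) (hp : p ∈ Nor L.R) : p ∈ Nor s.Q := mnor fun u hu => by
  have m := cmem hp (L.Q_R hu)
  obtain ⟨e, he, e1⟩ := s.exE
  have k : ∀ r, p⁻¹ * r * p⁻¹⁻¹ ∈ Cen s.Q → p * u * p⁻¹ * r = r * (p * u * p⁻¹) := fun r hr => by
    simpa [mul_assoc] using (cjc (g := p)).2 (GW.cen.1 hr u hu).symm
  refine mQ m (L.ga0 _ (L.Rs_eq.ge ⟨m, GW.cen.2 fun w hw => k w (s.A_cen (h.inv.2 w hw))⟩)) (L.xi0 _ ?_)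
  rw [L.R0_eq he e1]
  exact ⟨m, GW.c1.2 (k e (L.cen (h.inv.1 e (s.E_A he))))⟩

theorem Sw.RsQ (h : L.Sw p) (hp : p ∈ Nor L.R) (hr : r ∈ L.Rs) (m : p * r * p⁻¹ * r⁻¹ ∈ s.Z) : r ∈ s.Q := by
  obtain ⟨e, he, e1⟩ := s.exE
  have m' : p * r * p⁻¹ ∈ s.R0 := L.R0_eq he e1 ▸ ⟨cmem hp (L.Rs_R hr), GW.c1.2 (by
    simpa [mul_assoc] using (cjc (g := p)).2 (Wab (h.inv.1 e (s.E_A he)) hr).symm)⟩
  have := L.axi _ (L.Z_R m) _ (L.Rs_R hr)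
  rw [inv_mul_cancel_right, L.xi0 _ m', xiZ m, zero_add] at this
  exact mQ (L.Rs_R hr) (L.ga0 r hr) this.symm

variable (L) in
/-- candidates for the Sylow 2-subgroup -/
structure Pre (P : Subgroup G) : Prop where
  h4 : 4 ≤ Nat.card s.E
  two : IsPGroup 2 P
  le : L.T1 ≤ P
  nR : P ≤ Nor L.R
  sw : ∀ p ∈ P, p ∉ L.T1 → L.c = 0 ∧ L.Sw p

theorem pre (h4 : 4 ≤ Nat.card s.E) (hP : IsPGroup 2 P) (le : L.T1 ≤ P) (nR : P ≤ Nor L.R) : L.Pre P :=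
  ⟨h4, hP, le, nR, fun p hp n => by
    obtain ⟨e, he, f⟩ := L.ex1
    have e1 : e ≠ 1 := fun g => zero_ne_one (L.aga.one.symm.trans (g ▸ f))
    have nA := fun m => n (backA hP le hp he e1 m)
    rcases (cja (cls he e1 p) (cmem (nR hp) (L.E_R he)) nA).2 with h | h | h
    · exact ⟨h.1, (dich h.1 h4 (nR hp)).resolve_left fun m => nA (cmem m (s.E_A he))⟩
    · exact ⟨h.1, (dich h.1 h4 (nR hp)).resolve_left fun m => nA (cmem m (s.E_A he))⟩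
    have := TW.idx2' (S := s.E) (M := ⊥) bot_le fun a ha b hb a1 b1 => L.gaE _ (mul_mem ha hb) (by
      rw [L.aga _ (L.E_R ha) _ (L.E_R hb), (h.2.2.2 a ha).resolve_left (mt (L.gaE a ha) a1),
        (h.2.2.2 b hb).resolve_left (mt (L.gaE b hb) b1), H.aK])
    rw [card_bot] at this
    omega⟩

namespace Pre

variable (u : L.Pre P)
include u

theorem nQ : P ≤ Nor s.Q := fun p hp => by
  by_cases m : p ∈ L.T1
  · exact L.T1_N m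
  · exact (u.sw p hp m).2.nQ (u.nR hp)
theorem cov : ∀ a ∈ P, ∀ b ∈ P, a ∉ L.T1 → b ∉ L.T1 → a * b ∈ L.T1 := fun a ha b hb a1 b1 =>
  s.exE.elim fun e he => backA u.two u.le (mul_mem ha hb) he.1 he.2 (mem_of_eq ((u.sw a ha a1).2.2 _
    ((u.sw b hb b1).2.1 e (s.E_A he.1))) (by group))
theorem RP : L.R ≤ P := L.R_T1.trans u.le
theorem cm (hp : p ∈ P) (hp' : p' ∈ P) : p * p' * p⁻¹ * p'⁻¹ ∈ L.R :=
  kerT1 (TW.cm2 u.cov hp hp') (s.spQ.th_cm (u.nQ hp) (u.nQ hp'))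
theorem i4 (h : X ≤ P) (ts : ∀ a ∈ X, s.th (a * a) = 1) : Nat.card X ≤ 2 * Nat.card ↥(X ⊓ L.T1) ∧
    Nat.card ↥(X ⊓ L.T1) ≤ 2 * Nat.card ↥(X ⊓ L.R) :=
  ⟨TW.idx2' inf_le_left fun a ha b hb a1 b1 => ⟨mul_mem ha hb, u.cov a (h ha) b (h hb)
    (fun e => a1 ⟨ha, e⟩) fun e => b1 ⟨hb, e⟩⟩, TW.idx2' (inf_le_inf_left _ L.R_T1)
    fun a ha b hb a1 b1 => ⟨mul_mem ha.1 hb.1, kerT1 (mul_mem ha.2 hb.2) (cyc s.spQ (L.T1_N ha.2)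
      (L.T1_N hb.2) (ts a ha.1) (ts b hb.1) (fun e => a1 ⟨ha.1, kerT1 ha.2 e⟩)
      fun e => b1 ⟨hb.1, kerT1 hb.2 e⟩)⟩⟩

theorem chR2 (hx : x ∈ Nor P) : x ∈ Nor L.R := by
  by_cases h0 : ∀ r ∈ L.R, x * r * x⁻¹ ∈ L.T1
  · exact chR h0
  push Not at h0
  obtain ⟨r₀, m₀, n₀⟩ := h0
  have lP : ∀ B ≤ L.R, conjS x B ≤ P := fun B h a ha =>
    mem_of_eq (cmem hx (u.RP (h (mem_conjS.1 ha)))) (by group)
  have ts : ∀ a ∈ conjS x L.R, s.th (a * a) = 1 := by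
    rintro _ ⟨r, hr, rfl⟩
    change s.th (x * r * x⁻¹ * (x * r * x⁻¹)) = 1
    rw [conj_mul, L.sq r hr]
    exact sgt' s.spQ (fun r hr => u.nQ (cmem hx (u.RP (L.Q_R hr)))) _
  have nZ : x ∈ Nor s.Z := by
    obtain ⟨c1, c2⟩ := u.i4 (lP _ L.Q_R) fun a ha => ts a (conjS_mono x L.Q_R ha)
    have a := ia_add.mono (inf_le_left.trans s.Q_le : s.Q ⊓ conjS x⁻¹ L.R ≤ _)
    have c3 := a.card_le (I := a.img) (Y := s.Z) (fun r hr => ⟨r, hr, rfl⟩) fun r hr => memZ hr.1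
    rw [← card_conjS x, conjS_inf, conjS_conjS_inv, cardZ] at c3
    rw [card_conjS, cardQ, pow_succ] at c1
    have := H.k4 a.img (by
      rw [H.cardF]; refine Nat.le_of_mul_le_mul_right (c := 2 ^ H.n) ?_ (by positivity)
      rw [mul_assoc]; omega)
      { carrier := {b | x * s.zc b * x⁻¹ ∈ s.Z}
        zero_mem' := by simp
        add_mem' := fun ha hb => by
          simp only [Set.mem_setOf_eq, zc_add, ← conj_mul]; exact mul_mem ha hb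
        neg_mem' := fun {b} h => by rwa [neg_eq_of_add_eq_zero_left (H.aK b)] } (by
      rintro _ ⟨r, hr, rfl⟩
      change x * s.zc _ * x⁻¹ ∈ s.Z
      rw [← sqQ hr.1, ← conj_mul, L.sq _ (by simpa using mem_conjS.1 hr.2)]; exact s.zZ _)
    exact mnor (by rintro _ ⟨b, rfl⟩; exact this.ge (AddSubgroup.mem_top b))
  have sq : ∀ p ∈ conjS x L.R, p * p ∈ s.Z := fun p hp => mem_of_eq (cmem nZ
    (L.sq _ (mem_conjS.1 hp) ▸ s.zZ _ : _ * _ ∈ s.Z)) (by group)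
  obtain ⟨c1, c2⟩ := u.i4 (lP _ le_rfl) ts
  have p₀ := conj_mem_conjS (g := x) m₀
  obtain ⟨c0, sw⟩ := u.sw _ (lP _ le_rfl p₀) n₀
  have c3 := (L.aga.mono (inf_le_right : conjS x L.R ⊓ L.R ≤ _)).card_le' (Y := conjS x L.R ⊓ s.Q)
    fun r hr f => ⟨hr.1, sw.RsQ (u.nR (lP _ le_rfl p₀)) (mRs hr.2 f) (comm_of_sq sq p₀ hr.1)⟩
  have c4 := sw.le
  rw [card_conjS, L.cardR, cardR0] at c1
  rw [H.cardK] at c3
  have q4 := H.four_le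
  exfalso
  by_cases h2 : conjS x L.R ⊓ L.T1 ≤ L.R
  · have c5 := card_le_of_le (le_inf inf_le_left h2)
    have c6 := card_le_of_le (inf_le_right : conjS x L.R ⊓ s.Q ≤ _)
    rw [cardQ] at c6
    generalize 2 ^ H.n = q at *
    have : q * (4 * q ^ 3) ≤ q * (Nat.card s.E * q ^ 3) := by gcongr; omega
    have : q * Nat.card ↥(conjS x L.R ⊓ s.Q) ≤ q * q ^ 3 := by gcongr
    have : 0 < q * q ^ 3 := by positivity
    nlinarith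
  obtain ⟨p, hp, n⟩ := SetLike.not_le_iff_exists.1 h2
  obtain ⟨a, f⟩ := fixC (L.T1_N hp.2) ((s.spQ.two (L.T1_N hp.2) (ts p hp.1)).resolve_left
    (mt (kerT1 hp.2) n))
  have c5 := ((ia_add.mono (inf_le_right.trans s.Q_le : conjS x L.R ⊓ s.Q ≤ _)).card_le
    (fun r hr => f r (s.Q_le hr.2) (iaZ (s.Q_le hr.2) (comm_of_sq sq hp.1 hr.1)))
    fun r hr => memZ hr.2).trans (Nat.mul_le_mul_right _ (H.card_ln a))
  rw [cardZ] at c5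
  generalize 2 ^ H.n = q at *
  have : q * (4 * (4 * (q * q))) ≤ q * (Nat.card s.E * q ^ 3) := by
    rw [show q ^ 3 = q * (q * q) by ring]; gcongr; omega
  have : q * Nat.card ↥(conjS x L.R ⊓ s.Q) ≤ q * (q * q) := by gcongr
  have : 0 < q * (q * q) := by positivity
  nlinarith

section
variable (hP : IsSylowOf 2 P ⊤) (hz : z₀ ∈ s.Z) (z1 : z₀ ≠ 1) (zc : z₀ ∈ Cen P)
include hP hz z1 zc

theorem ext (hy : y ∈ P) (h : MT.Cj ⊤ y z₀) :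
    ∃ g, g * y * g⁻¹ = z₀ ∧ ∀ c ∈ P ⊓ Cen1 y, g * c * g⁻¹ ∈ P :=
  (MT.ext0 (hP.of_le (le_inf le_top (cen_iff_le.1 zc)) le_top) u.two.to_inf_left
    (inf_le_inf_right _ le_top) h).imp fun _ h => h.2

theorem cjZ (h : z ∈ s.Z) (h1 : z ≠ 1) (g : G) : MT.Cj ⊤ (g * z * g⁻¹) z₀ := by
  obtain ⟨b, rfl⟩ := h
  obtain ⟨c, rfl⟩ := hz
  rw [Ne, zc_eq_one] at h1 z1
  obtain ⟨l, e⟩ := H.ex_nu (div_ne_zero z1 h1)
  exact ⟨s.h l * g⁻¹, trivial, by rw [← div_mul_cancel₀ c h1, ← e, ← s.hz]; group⟩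

theorem cvZ (hg : ∀ c ∈ P ⊓ Cen1 y, g * c * g⁻¹ ∈ P)
    (h : ∀ b, ∃ r ∈ L.R ⊓ Cen1 y, ∃ r' ∈ L.R ⊓ Cen1 y, r * r' * r⁻¹ * r'⁻¹ = s.zc b) (b : H.K) :
    g * s.zc b * g⁻¹ ∈ L.R := by
  obtain ⟨r, hr, r', hr', f⟩ := h b
  exact mem_of_eq (u.cm (hg r ⟨u.RP hr.1, hr.2⟩) (hg r' ⟨u.RP hr'.1, hr'.2⟩)) (by rw [← f]; group)

theorem Y1 (hy : y ∈ L.R) (h : MT.Cj ⊤ y z₀) : y ∈ s.Z := by_contra fun n => by
  obtain ⟨g, e, hg⟩ := u.ext hP hz z1 zc (u.RP hy) h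
  have t := H.twoK
  have ZR := u.cvZ hP hz z1 zc hg fun b => by
    have c : ∀ r ∈ L.R, L.ga r * L.xi y + L.ga y * L.xi r + H.bf (s.ia r) (s.ia y) = 0 →
        r ∈ L.R ⊓ Cen1 y := fun r hr f => ⟨hr, GW.c1.2 ((cmi hr hy).2 f)⟩
    obtain ⟨a', fa⟩ := H.ex_bf one_ne_zero b
    by_cases g0 : L.ga y = 0
    swap
    · obtain ⟨r, hr, a1, a2, a3⟩ := L.exRs (H.bf 1 (s.ia y) / L.ga y) 1
      obtain ⟨r', hr', b1, b2, b3⟩ := L.exRs (H.bf a' (s.ia y) / L.ga y) a'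
      exact ⟨r, c r hr (by simp [a1, a2, a3, mul_div_cancel₀ _ g0, H.aK]), r', c r' hr' (by
        simp [b1, b2, b3, mul_div_cancel₀ _ g0, H.aK]), by simp [cmm hr hr', a1, b1, a3, b3, fa]⟩
    by_cases a0 : s.ia y = 0
    · obtain ⟨r, hr, a1, a2, a3⟩ := L.exRs 0 1
      obtain ⟨r', hr', b1, b2, b3⟩ := L.exRs 0 a'
      exact ⟨r, c r hr (by simp [a1, g0, a0]), r', c r' hr' (by simp [b1, g0, a0]),
        by simp [cmm hr hr', a1, b1, a3, b3, fa]⟩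
    obtain ⟨e, he, f⟩ := L.ex1
    obtain ⟨a, fa⟩ := H.ex_bf a0 (L.xi y)
    obtain ⟨r, hr, a1, a2, a3⟩ := L.exR he 0 a
    obtain ⟨r', hr', b1, b2, b3⟩ := L.exRs b 0
    exact ⟨r, c r hr (by rw [a1, f, g0, a3, H.bf_comm, fa]; simp [H.aK]), r', c r' hr' (by
      simp [b1, g0, b3]), by simp [cmm hr hr', a1, b1, b2, b3, f]⟩
  have le : conjS g (L.R ⊓ Cen1 y) ≤ P := by rintro _ ⟨r, hr, rfl⟩; exact hg r ⟨u.RP hr.1, hr.2⟩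
  have sq : ∀ a ∈ conjS g (L.R ⊓ Cen1 y), a * a ∈ conjS g s.Z := fun a ha => mem_conjS.2
    (mem_of_eq (L.sq _ (mem_conjS.1 ha).1 ▸ s.zZ _ : _ * _ ∈ s.Z) (by group))
  obtain ⟨c1, c2⟩ := u.i4 le fun a ha => by
    obtain ⟨_, ⟨b, rfl⟩, f⟩ := sq a ha
    exact f ▸ th_CQ (L.R_CQ (ZR b))
  have c0 := card_cen hy
  rw [← card_conjS g (L.R ⊓ Cen1 y), cardR0] at c0
  generalize conjS g (L.R ⊓ Cen1 y) = X at *
  let Z₀ : AddSubgroup H.K :=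
    { carrier := {b | s.zc b ∈ conjS g s.Z}
      zero_mem' := by simp
      add_mem' := fun ha hb => by simp only [Set.mem_setOf_eq, zc_add]; exact mul_mem ha hb
      neg_mem' := fun {b} h => by rwa [neg_eq_of_add_eq_zero_left (H.aK b)] }
  have nZ : Z₀ ≠ ⊤ := fun f => n (by
    obtain ⟨b, rfl⟩ := hz
    exact conj_mem_conjS_iff.1 (mem_of_eq (f.ge (AddSubgroup.mem_top b) : s.zc b ∈ conjS g s.Z) e.symm))
  have cm : ∀ r ∈ X ⊓ L.R, ∀ r' ∈ X ⊓ L.R, L.ga r * L.xi r' + L.ga r' * L.xi r +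
      H.bf (s.ia r) (s.ia r') ∈ Z₀ := fun r hr r' hr' => by
    change s.zc _ ∈ conjS g s.Z
    rw [← cmm hr.2 hr'.2]; exact comm_of_sq sq hr.1 hr'.1
  have a1 := L.aga.mono (inf_le_right : X ⊓ L.R ≤ _)
  have a2 := L.aia.mono (inf_le_right.trans L.Rs_R : X ⊓ L.Rs ≤ _)
  have a3 := L.axi.mono (inf_le_right.trans L.W_R : X ⊓ L.W ≤ _)
  have d1 := a1.card_le (I := a1.img) (Y := X ⊓ L.Rs) (fun r hr => ⟨r, hr, rfl⟩)
    fun r hr f => ⟨hr.1, mRs hr.2 f⟩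
  have d2 := a2.card_le (I := a2.img) (Y := X ⊓ L.W) (fun r hr => ⟨r, hr, rfl⟩)
    fun r hr f => ⟨hr.1, mW (L.Rs_R hr.2) (L.ga0 r hr.2) f⟩
  have d3 := a3.card_le (I := a3.img) (Y := s.Z) (fun r hr => ⟨r, hr, rfl⟩) fun r hr => L.kerW r hr.2
  have d4 := iso_bd H.aK H.aK (· * ·) add_mul mul_add (fun a a0 k => ⟨k / a, mul_div_cancel₀ _ a0⟩) nZ
    a1.img a3.img (by
      rintro _ ⟨r, hr, rfl⟩ _ ⟨w, hw, rfl⟩
      simpa [gaW hw.2, iaW hw.2] using cm r hr w ⟨hw.1, L.W_R hw.2⟩)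
  rw [cardZ] at d3
  rw [H.cardK] at d4
  have d5 : Nat.card ↥(X ⊓ L.R) ≤ Nat.card a2.img * (2 ^ H.n) ^ 2 := by
    calc _ ≤ Nat.card a1.img * (Nat.card a2.img * (Nat.card a3.img * 2 ^ H.n)) :=
          d1.trans (Nat.mul_le_mul_left _ (d2.trans (Nat.mul_le_mul_left _ d3)))
      _ = Nat.card a2.img * ((Nat.card a1.img * Nat.card a3.img) * 2 ^ H.n) := by ring
      _ ≤ _ := by rw [pow_two]; gcongr
  by_cases hT : P ≤ L.T1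
  · have d6 := iso_bd H.aF H.aK H.bf H.add_bf H.bf_add (fun a => H.ex_bf) nZ a2.img a2.img (by
      rintro _ ⟨r, hr, rfl⟩ _ ⟨w, hw, rfl⟩
      simpa [L.ga0 _ hw.2, L.ga0 _ hr.2] using cm r ⟨hr.1, L.Rs_R hr.2⟩ w ⟨hw.1, L.Rs_R hw.2⟩)
    rw [H.cardF, pow_two, Nat.mul_self_le_mul_self_iff] at d6
    rw [inf_eq_left.2 (le.trans hT)] at c2
    have h4 := u.h4
    have : 0 < (2 ^ H.n) ^ 3 := by positivity
    have : Nat.card a2.img * (2 ^ H.n) ^ 2 ≤ (2 ^ H.n) ^ 3 := by rw [pow_succ' _ 2]; gcongr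
    have : 4 * (2 ^ H.n) ^ 3 ≤ Nat.card s.E * (2 ^ H.n) ^ 3 := by gcongr
    omega
  obtain ⟨p, hp, n⟩ := SetLike.not_le_iff_exists.1 hT
  obtain ⟨c0', sw⟩ := u.sw p hp n
  refine nZ (H.k4 a2.img ?_ Z₀ ?_)
  · rw [H.cardF]; refine Nat.le_of_mul_le_mul_right (c := (2 ^ H.n) ^ 2) ?_ (by positivity)
    have : (2 ^ H.n) ^ 2 * (2 ^ H.n) ^ 2 ≤ Nat.card s.E * (2 ^ H.n) ^ 3 := by
      rw [show ∀ q : ℕ, q ^ 2 * q ^ 2 = q * q ^ 3 from fun q => by ring]; gcongr; exact sw.le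
    rw [mul_assoc]; omega
  · rintro _ ⟨r, hr, rfl⟩
    change s.zc _ ∈ conjS g s.Z
    rw [← (L.spRs c0').sq r hr.2]; exact sq r hr.1

theorem fin0 (hy : y ∈ P) (h : MT.Cj ⊤ y z₀)
    (hc : ∀ b, ∃ r ∈ L.R ⊓ Cen1 y, ∃ r' ∈ L.R ⊓ Cen1 y, r * r' * r⁻¹ * r'⁻¹ = s.zc b) : y ∈ s.Z := by
  obtain ⟨g, e, hg⟩ := u.ext hP hz z1 zc hy h
  refine mem_of_eq (cmem' (g := g) (mnor ?_) hz) (by rw [← e]; group)
  rintro _ ⟨b, rfl⟩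
  by_cases b1 : s.zc b = 1
  · simp [b1]
  exact u.Y1 hP hz z1 zc (u.cvZ hP hz z1 zc hg hc b) (u.cjZ hP hz z1 zc (s.zZ b) b1 g)

theorem sqy (h : MT.Cj ⊤ y z₀) : y * y = 1 := by
  obtain ⟨g, -, rfl⟩ := h
  simpa [conj_mul] using zz hz

theorem Y2a (hy : y ∈ L.T1) (h : MT.Cj ⊤ y z₀) : y ∈ s.Z := by
  have yy := u.sqy hP hz z1 zc h
  have n := L.T1_N hy
  rcases s.spQ.two n (by simp [yy]) with e | e
  · exact u.Y1 hP hz z1 zc (kerT1 hy e) h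
  obtain ⟨a, a0, f0, -, f⟩ := invl n yy e
  have adj : ∀ r ∈ L.R, r ∈ Cen s.Q → y * r * y⁻¹ * r⁻¹ ∈ s.Z → ∃ v ∈ s.Q, s.ia v ∈ H.ln a ∧
      r * v ∈ L.R ⊓ Cen1 y := fun r hr c ⟨b, m⟩ => by
    obtain ⟨a', ha', rfl⟩ := H.ex_ln a0 b
    obtain ⟨v, hv, rfl⟩ := s.exQ a'
    refine ⟨v, hv, ha', mul_mem hr (L.Q_R hv), c1s.1 (c1'.2 ?_)⟩
    rw [← conj_mul, f v hv ha', eq_mul_of_mul_inv_eq m, ← sqQ hv, ← GW.cen.1 c _ (mul_mem hv hv)]; group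
  obtain ⟨w, hw, τ, hτ, rfl⟩ := mem_T1.1 hy
  have cz : τ ∈ Cen s.Z := (mul_mem_cancel_left (CQ_Z (s.cen_le (L.cen hw)))).1 (GW.cen.2 (by
    rintro _ ⟨b, rfl⟩; exact f0 b))
  obtain ⟨e₁, h₁, f₁⟩ := L.ex1
  refine u.fin0 hP hz z1 zc (u.le hy) h fun b => ?_
  obtain ⟨w', hw', rfl⟩ := L.exW b
  obtain ⟨v, hv, m, c⟩ := adj e₁ (L.E_R h₁) (s.E_cen h₁) (mem_of_eq (cmZ (L.W_R hw) (L.E_R h₁)) (by
    rw [mul_assoc w τ, EC h₁ (s.T_C hτ)]; group))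
  have m1 := cmem (L.nor (s.T_D hτ)) hw'
  obtain ⟨v', hv', m', c'⟩ := adj w' (L.W_R hw') (L.cen hw') (mem_of_eq (L.kerW _ (mul_mem m1
    (inv_mem hw')) (by
      have e1 := we h₁ (L.W_R m1)
      rw [← conj_inv.symm, ← EC' h₁ (s.T_C hτ), conj_mul, conj_mul, we h₁ (L.W_R hw'), ← conj_mul,
        GW.cen.1 cz _ (s.zZ _), mul_inv_cancel_right, EC' h₁ (s.T_C hτ), f₁, one_mul, one_mul,
        mul_left_inj, zc_inj] at e1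
      rw [L.axi _ (L.W_R m1) _ (L.W_R (inv_mem hw')), L.axi.inv (L.W_R hw'), ← e1, add_neg_cancel]))
    (by rw [show w * τ * w' * (w * τ)⁻¹ = w * (τ * w' * τ⁻¹) * w⁻¹ by group, L.ab w hw _ m1]; group))
  refine ⟨_, c, _, c', ?_⟩
  have d1 := co (L := L) h₁ (one_mem _) hv
  have d2 := co (L := L) (one_mem _) hw' hv'
  rw [one_mul] at d1 d2
  rw [cmm c.1 c'.1, d1.1, d1.2.2, d2.1, d2.2.1, d2.2.2, f₁, H.bf_ln m m', L.aga.one]; simp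

theorem Y2b (hy : y ∈ P) (h : MT.Cj ⊤ y z₀) (e : s.th y = 1) : y ∈ s.Z := by
  by_cases n : y ∈ L.T1
  · exact u.Y2a hP hz z1 zc n h
  have yy := u.sqy hP hz z1 zc h
  obtain ⟨c0, sw⟩ := u.sw y hy n
  have nQ := u.nQ hy
  have cz := s.spQ.cenZ u.two hy nQ (by simp [yy])
  have t := H.twoK
  have y2 : ∀ a, y * (y * a * y⁻¹) * y⁻¹ = a := fun a => by
    rw [show y * (y * a * y⁻¹) * y⁻¹ = y * y * a * (y * y)⁻¹ by group, yy]; group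
  have mW := fun e he => sw.1 e (s.E_A he)
  have cm : ∀ e ∈ s.E, ∀ e' ∈ s.E, y * e' * y⁻¹ * e = s.zc (L.ga e * L.xi (y * e' * y⁻¹)) *
      (e * (y * e' * y⁻¹)) := fun e he e' he' => by
    simp [L.cm _ (L.W_R (mW e' he')) e (L.E_R he), gaW (mW e' he'), iaE he]
  obtain ⟨e₁, h₁, f₁⟩ := L.ex1
  have sym : ∀ e ∈ s.E, L.xi (y * e * y⁻¹) = L.ga e * L.xi (y * e₁ * y⁻¹) := fun e he => by
    have e1 := congrArg (fun a => y * a * y⁻¹) (cm e he e₁ h₁)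
    simp only [← conj_mul, y2] at e1
    rw [GW.cen.1 cz _ (s.zZ _), mul_inv_cancel_right, cm e₁ h₁ e he, ← mul_assoc (s.zc _), ← zc_add, eq_comm,
      mul_eq_right, zc_eq_one, f₁] at e1
    grind
  have κ0 : L.xi (y * e₁ * y⁻¹) ≠ 0 := fun f => EZ h₁ (fun g => zero_ne_one (L.aga.one.symm.trans (g ▸ f₁)))
    (y2 e₁ ▸ cmem (s.norZ nQ) (L.kerW _ (mW e₁ h₁) f))
  have k : ∀ a, ∃ r ∈ L.R ⊓ Cen1 y, L.xi r = L.ga r * L.xi (y * e₁ * y⁻¹) ∧ s.ia r = a := fun a => by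
    obtain ⟨v, hv, rfl⟩ := s.exQ a
    obtain ⟨b, fb⟩ := memZ (mul_mem (cmem nQ hv) (inv_mem hv)) (by
      rw [ia_add _ (s.Q_le (cmem nQ hv)) _ (s.Q_le (inv_mem hv)), s.spQ.tr2 u.two hy nQ e hv,
        ia_inv (s.Q_le hv), H.aF])
    obtain ⟨γ, fγ⟩ := H.ex_sq (b / L.xi (y * e₁ * y⁻¹))
    obtain ⟨e, he, rfl⟩ := full (L := L) sw.le γ
    obtain ⟨d1, d2, d3⟩ := co he (mW e he) hv
    refine ⟨e * (y * e * y⁻¹ * v), ⟨mul_mem (L.E_R he) (mul_mem (L.W_R (mW e he)) (L.Q_R hv)),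
      c1s.1 (c1'.2 ?_)⟩, by rw [d1, d2, sym e he], d3⟩
    rw [← conj_mul, ← conj_mul, y2, ← mul_assoc, cm e he e he, eq_mul_of_mul_inv_eq fb, sym e he,
      ← mul_assoc (L.ga e), fγ, div_mul_cancel₀ _ κ0, ← cZ (L.R_CQ (mul_mem (L.E_R he) (L.W_R (mW e he)))),
      mul_assoc, ← mul_assoc (s.zc b), zc_sq, one_mul, mul_assoc]
  refine u.fin0 hP hz z1 zc hy h fun b => ?_
  obtain ⟨a, rfl⟩ := H.ex_bf one_ne_zero b
  obtain ⟨r, hr, a1, a2⟩ := k 1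
  obtain ⟨r', hr', b1, b2⟩ := k a
  exact ⟨r, hr, r', hr', by rw [cmm hr.1 hr'.1, a1, a2, b1, b2]; congr 1; grind⟩

theorem tri (hy : y ∈ P) (h : MT.Cj ⊤ y z₀) : y ∈ s.Z ∨ y ∉ L.T1 ∧ s.th y = H.sg := by
  by_cases n : y ∈ L.T1
  · exact .inl (u.Y2a hP hz z1 zc n h)
  · exact (s.spQ.two (u.nQ hy) (by simp [u.sqy hP hz z1 zc h])).imp (u.Y2b hP hz z1 zc hy h) (⟨n, ·⟩)

theorem Y2c (hy : y ∈ P) (h : MT.Cj ⊤ y z₀) : y ∈ s.Z := by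
  refine (u.tri hP hz z1 zc hy h).resolve_right fun ⟨n, e⟩ => ?_
  have yy := u.sqy hP hz z1 zc h
  obtain ⟨c0, sw⟩ := u.sw y hy n
  have nQ := u.nQ hy
  obtain ⟨a₀, a0, f0, f1, f⟩ := invl nQ yy e
  obtain ⟨e₁, h₁, g₁⟩ := L.ex1
  have mW := sw.1 e₁ (s.E_A h₁)
  obtain ⟨a', ha', fa⟩ := H.ex_ln a0 (L.xi (y * e₁ * y⁻¹))
  obtain ⟨v, hv, rfl⟩ := s.exQ a'
  obtain ⟨x, hx, fx⟩ := s.exQ (H.ω * s.ia v)
  have r1 := mul_mem (L.E_R h₁) (L.Q_R hx)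
  have r0 := mul_mem (s.E_R0 h₁) (s.Q_R0 hx)
  have r2 := cmem (u.nR hy) r1
  have d := co (L := L) (one_mem _) mW (cmem nQ hx)
  have d' := co (L := L) h₁ (one_mem _) hx
  rw [one_mul, conj_mul] at d
  rw [one_mul] at d'
  have aR := mul_mem r2 (inv_mem r1)
  have ga : L.ga (y * (e₁ * x) * y⁻¹ * (e₁ * x)⁻¹) = 1 := by
    rw [L.aga _ r2 _ (inv_mem r1), L.aga.inv r1, d.1, d'.1, g₁, L.aga.one, zero_add,
      neg_eq_of_add_eq_zero_left (H.aK 1)]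
  have aa := (sqi aR).2 (by
    have e1 := (f1 v (s.Q_le hv)).2 ha'
    have e2 := H.trω
    rw [actC nQ (s.Q_le hv), e, H.sg_apply] at e1
    rw [ga, c0, L.axi _ r2 _ (inv_mem r1), d.2.1, L.xi0 _ (inv_mem r0), L.aia _ r2 _ (inv_mem r1),
      ia_inv (L.R_CQ r1), d.2.2, d'.2.2, actC nQ (s.Q_le hx), e, fx, H.sg_apply, map_mul,
      show s.ka y * (H.σ H.ω * H.σ (s.ia v)) + H.ω * s.ia v = s.ia v by grind, fa]
    simp [H.aK])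
  have yc : y * (e₁ * x) * y⁻¹ * (e₁ * x)⁻¹ ∈ Cen1 y := c1s.1 (c1'.2 (by
    rw [← inv2 aa, show y * (y * (e₁ * x) * y⁻¹ * (e₁ * x)⁻¹)⁻¹ * y⁻¹ = y * (e₁ * x) * y * (e₁ * x)⁻¹ *
      (y * y)⁻¹ by group, inv2 aa, yy, inv2 yy]; group))
  have ya : y * (y * (e₁ * x) * y⁻¹ * (e₁ * x)⁻¹) = e₁ * x * y * (e₁ * x)⁻¹ := by
    rw [← mul_assoc, ← mul_assoc, ← mul_assoc, yy, one_mul, inv2 yy]
  generalize y * (e₁ * x) * y⁻¹ * (e₁ * x)⁻¹ = a at aR ga aa yc ya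
  have aZ : a ∉ s.Z := fun m => zero_ne_one ((gaZ m).symm.trans ga)
  have na : a ∈ Nor s.Z := L.norZ (le_normalizer aR)
  have BR : s.Z ⊔ zpowers a ≤ L.R ⊓ Cen1 y := sup_le (le_inf L.Z_R (by
    rintro _ ⟨b, rfl⟩; exact GW.c1.2 (f0 b).symm)) (zpowers_le.2 ⟨aR, yc⟩)
  obtain ⟨g, eg, hg⟩ := u.ext hP hz z1 zc hy h
  have j1 : ∀ z ∈ s.Z, ∃ k, y * z = k * y * k⁻¹ := by
    rintro _ ⟨b, rfl⟩
    obtain ⟨a', ha', rfl⟩ := H.ex_ln a0 b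
    obtain ⟨v, hv, rfl⟩ := s.exQ a'
    exact ⟨v⁻¹, by rw [← sqQ hv, ← mul_assoc, eq_mul_of_mul_inv_eq (f v hv ha'), inv_inv]⟩
  have zP := u.RP (L.Z_R hz)
  have j2 : ∀ c ∈ s.Z ⊔ zpowers a, g * c * g⁻¹ ∈ s.Z ∨
      z₀ * (g * c * g⁻¹) ∉ L.T1 ∧ s.th (z₀ * (g * c * g⁻¹)) = H.sg := fun c hc => by
    obtain ⟨k, f⟩ : ∃ k, y * c = k * y * k⁻¹ := by
      rcases (TW.mem_sup_zp' (aa ▸ one_mem _) na).1 hc with m | m
      · exact j1 c m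
      obtain ⟨k, f⟩ := j1 _ m
      refine ⟨e₁ * x * k, ?_⟩
      calc y * c = y * a * (c * a) := by rw [mul_assoc, cZ' (L.R_CQ aR) m, mul_assoc c, aa, mul_one]
        _ = e₁ * x * (y * (c * a)) * (e₁ * x)⁻¹ := by
          rw [ya, mul_assoc _ _ (c * a), cZ' (L.R_CQ (inv_mem r1)) m]; group
        _ = _ := by rw [f]; group
    exact (u.tri hP hz z1 zc (mul_mem zP (hg c ⟨u.RP (BR hc).1, (BR hc).2⟩)) ⟨g * k⁻¹ * g⁻¹, trivial, by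
      rw [← eg, conj_mul, f]; group⟩).imp_left (mul_mem_cancel_left hz).1
  have c1 := TW.idx2' (M := (s.Z ⊔ zpowers a) ⊓ conjS g⁻¹ s.Z) inf_le_left fun c hc c' hc' n1 n2 =>
    ⟨mul_mem hc hc', mem_conjS.2 (by
      have p1 := (j2 c hc).resolve_left fun m => n1 ⟨hc, mem_conjS.2 (by simpa using m)⟩
      have p2 := (j2 c' hc').resolve_left fun m => n2 ⟨hc', mem_conjS.2 (by simpa using m)⟩
      have q1 := hg c ⟨u.RP (BR hc).1, (BR hc).2⟩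
      have := u.cov _ (mul_mem zP q1) _ (mul_mem zP (hg c' ⟨u.RP (BR hc').1, (BR hc').2⟩)) p1.1 p2.1
      rw [inv_inv]
      refine (j2 _ (mul_mem hc hc')).resolve_right fun m => m.1 (mul_mem (L.R_T1 (L.Z_R hz))
        (mem_of_eq this ?_))
      rw [GW.cen.1 zc _ q1, mul_assoc, ← mul_assoc z₀, zz hz, one_mul, conj_mul])⟩
  rw [SF.card_sup_zp na (aa ▸ one_mem _) aZ, ← card_conjS g⁻¹] at c1
  exact n (L.R_T1 (BR ((eq_of_le_of_card_ge (inf_le_right (b := conjS g⁻¹ s.Z)) (Nat.le_of_mul_le_mul_left c1 two_pos)).ge (mem_conjS.2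
    (by simpa [eg] using hz))).1).1)

end

theorem sc (hP : IsSylowOf 2 P ⊤) : IsStronglyClosed s.Z P := by
  obtain ⟨z₀, hz, z1, -, -, zc⟩ := U6.exists_fixed s.twoZ u.two (u.nQ.trans s.norZ) fun e =>
    one_ne_zero (s.zc_eq_one.1 (mem_bot.1 (e ▸ s.zZ 1)))
  refine ⟨L.Z_R.trans u.RP, fun z m g hg => ?_⟩
  by_cases e : z = 1
  · simp [e]
  exact u.Y2c hP hz z1 zc hg (u.cjZ hP hz z1 zc m e g)

end Pre

theorem sc1 (L : s.L1) (h4 : 4 ≤ Nat.card s.E) : ∃ P, IsSylowOf 2 P ⊤ ∧ IsStronglyClosed s.Z P := by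
  obtain ⟨P, ⟨hP, nR⟩, le, mx⟩ := H9.exists_maximal_ge (fun P : Subgroup G => IsPGroup 2 P ∧ P ≤ Nor L.R)
    ⟨L.twoT1, L.T1_R⟩
  have u := pre h4 hP le nR
  have : IsSylowOf 2 P ⊤ := by_contra fun n => by
    obtain ⟨x, hx, x1, x2⟩ := grow hP n
    exact x1 ((mx _ ⟨two_sup_zp hP hx x2, sup_le nR (zpowers_le.2 (u.chR2 hx))⟩ le_sup_left).le
      (mem_sup_right (mem_zpowers x)))
  exact ⟨P, this, u.sc this⟩

end L1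

theorem main (s : Hy G H) : (∃ (P : Sylow 2 G) (Q : Subgroup G), Q ≠ ⊥ ∧ IsElementaryAbelian 2 Q ∧
    IsStronglyClosed Q (P : Subgroup G)) ∨ (Nat.card s.E = 2 ∧ ∃ K, IsComplement' s.E K) := by
  obtain ⟨t, ht, t1⟩ := s.exE
  by_cases h : s.E ≤ zpowers t
  · have T : s.Tw t := ⟨ht, t1, fun e he => mem_zp2 (s.ee t ht) (h he)⟩
    exact .inr ⟨T.card, T.E_eq ▸ T.fin⟩
  have h4 := TW.half (lt_of_le_not_ge (zpowers_le.2 ht) h)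
  rw [Nat.card_zpowers, orderOf_eq_prime (by rw [sq, s.ee t ht]) t1] at h4
  have k : ∀ Q : Subgroup G, (∀ a ∈ Q, a * a = 1) → IsElementaryAbelian 2 Q := fun Q h =>
    ⟨⟨⟨fun a b => Subtype.ext (comm_of_ee h a.2 b.2)⟩⟩, fun a ha => by rw [sq, h a ha]⟩
  left
  by_cases h : ∀ x ∈ Nor s.R0, x ∈ Nor s.E
  · obtain ⟨h1, h2⟩ := sc0 h4 h
    obtain ⟨P, e⟩ := h1.exists_sylow_top
    exact ⟨P, s.E, s.ne, k _ s.ee, e ▸ h2⟩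
  push Not at h
  obtain ⟨x, h1, h2⟩ := h
  obtain ⟨L⟩ := exists_L1 h1 h2
  obtain ⟨P, h1, h2⟩ := L.sc1 h4
  obtain ⟨P, rfl⟩ := h1.exists_sylow_top
  exact ⟨P, s.Z, fun e => one_ne_zero (s.zc_eq_one.1 (mem_bot.1 (e ▸ s.zZ 1))), k _ fun _ => zz, h2⟩

end Hy

end EU
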